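import Mathlib.CategoryTheory.Functor.Derived.RightDerived
import Mathlib.CategoryTheory.Localization.Predicate

set_option autoImplicit false
open CategoryTheory CategoryTheory.Limits

namespace Groth.Agent.Lib.Helper12.AdjLR

universe v₁ v₂ v₃ v₄ u₁ u₂ u₃ u₄

section Precomp

variable {C : Type u₁} {K : Type u₂} {D : Type u₃} {H : Type u₄}
  [Category.{v₁} C] [Category.{v₂} K] [Category.{v₃} D] [Category.{v₄} H]
  (q : C ⥤ K) (Wq : MorphismProperty C) [q.IsLocalization Wq]
  {Lh : K ⥤ D} {Gh : K ⥤ H} (RG : D ⥤ H) (α : Gh ⟶ Lh ⋙ RG)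
  {L' : C ⥤ D} (e : q ⋙ Lh ≅ L') {G' : C ⥤ H} (eG : G' ≅ q ⋙ Gh)

def preUnit : G' ⟶ L' ⋙ RG :=
  eG.hom ≫ Functor.whiskerLeft q α ≫ (Functor.associator q Lh RG).inv ≫
    Functor.whiskerRight e.hom RG

theorem preUnit_app (X : C) :
    (preUnit q RG α e eG).app X = eG.hom.app X ≫ α.app (q.obj X) ≫ RG.map (e.hom.app X) := by
  simp [preUnit]

include Wq in
theorem isLeftKanExtension_preUnit [RG.IsLeftKanExtension α] :
    RG.IsLeftKanExtension (preUnit q RG α e eG) := by
  let γ : ∀ (E : Functor.LeftExtension L' G'), Gh ⟶ Lh ⋙ E.right := fun E =>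
    Localization.liftNatTrans q Wq (q ⋙ Gh) (q ⋙ Lh ⋙ E.right) Gh (Lh ⋙ E.right)
      (eG.inv ≫ E.hom ≫ Functor.whiskerRight e.inv E.right ≫ (Functor.associator q Lh E.right).hom)
  have γ_app : ∀ (E : Functor.LeftExtension L' G') (X : C),
      (γ E).app (q.obj X) = eG.inv.app X ≫ E.hom.app X ≫ E.right.map (e.inv.app X) := by
    intro E X
    dsimp only [γ]
    rw [Localization.liftNatTrans_app]
    change 𝟙 _ ≫ _ ≫ 𝟙 _ = _
    rw [Category.id_comp, Category.comp_id]
    simp
  refine ⟨⟨IsInitial.ofUniqueHom (fun E => StructuredArrow.homMk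
    (RG.descOfIsLeftKanExtension α E.right (γ E)) ?_) ?_⟩⟩
  · ext X
    change (preUnit q RG α e eG).app X ≫
      (RG.descOfIsLeftKanExtension α E.right (γ E)).app (L'.obj X) = E.hom.app X
    rw [preUnit_app, Category.assoc, Category.assoc,
      (RG.descOfIsLeftKanExtension α E.right (γ E)).naturality (e.hom.app X)]
    have h := RG.descOfIsLeftKanExtension_fac_app α E.right (γ E) (q.obj X)
    dsimp at h ⊢
    rw [reassoc_of% h, γ_app, Category.assoc, Category.assoc, ← E.right.map_comp,
      Iso.inv_hom_id_app]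
    simp
  · intro E m
    apply StructuredArrow.ext
    let μ : RG ⟶ E.right := m.right
    have hm : ∀ X, (preUnit q RG α e eG).app X ≫ μ.app (L'.obj X) = E.hom.app X := fun X =>
      congrArg (fun t => t.app X) (StructuredArrow.w m)
    change μ = RG.descOfIsLeftKanExtension α E.right (γ E)
    apply RG.hom_ext_of_isLeftKanExtension α
    rw [RG.descOfIsLeftKanExtension_fac α]
    apply Localization.natTrans_ext q Wq
    intro X
    rw [γ_app, ← hm X, preUnit_app]
    change α.app (q.obj X) ≫ μ.app (Lh.obj (q.obj X)) = _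
    simp only [Category.assoc, Iso.inv_hom_id_app_assoc]
    have hn := μ.naturality (e.inv.app X)
    dsimp at hn
    rw [← hn, ← RG.map_comp_assoc, Iso.hom_inv_id_app]
    simp


theorem preUnit_postcomp {H' : Type*} [Category H'] (T : H ⥤ H') :
    Functor.whiskerRight (preUnit q RG α e eG) T ≫ (Functor.associator L' RG T).hom =
      preUnit q (RG ⋙ T) (Functor.whiskerRight α T ≫ (Functor.associator Lh RG T).hom) e
        (Functor.isoWhiskerRight eG T ≪≫ Functor.associator q Gh T) := by
  ext X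
  simp [preUnit_app]

include Wq in
theorem isRightDerivedFunctor_preUnit {W : MorphismProperty K} (WC : MorphismProperty C)
    [Lh.IsLocalization W] [L'.IsLocalization WC] [RG.IsRightDerivedFunctor α W] :
    RG.IsRightDerivedFunctor (preUnit q RG α e eG) WC := by
  have : RG.IsLeftKanExtension α := Functor.IsRightDerivedFunctor.isLeftKanExtension RG α W
  exact ⟨isLeftKanExtension_preUnit q Wq RG α e eG⟩

end Precomp

end Groth.Agent.Lib.Helper12.AdjLR
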