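import Groth.Agent.Lib.Helper25.KInjDerived
import Mathlib.Algebra.Homology.DerivedCategory.ExactFunctor

set_option autoImplicit false

open CategoryTheory Limits Pretriangulated

namespace Groth.Agent.Lib.Helper12.RDer

universe w w' v u v' u' v'' u''

open Groth.Agent.Lib.Helper25.KInjDerived

section

variable {C : Type u} [Category.{v} C] [Abelian C] [IsGrothendieckAbelian.{v} C]

theorem isRightDerivedFunctor_of_isIso
    {H : Type u'} [Category.{v'} H] (G : HomotopyCategory C (ComplexShape.up ℤ) ⥤ H)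
    {D₂ : Type*} [Category D₂] (L : HomotopyCategory C (ComplexShape.up ℤ) ⥤ D₂)
    [L.IsLocalization (HomotopyCategory.quasiIso C (ComplexShape.up ℤ))]
    (RG : D₂ ⥤ H) (α : G ⟶ L ⋙ RG)
    (hα : ∀ (I : CochainComplex C ℤ), I.IsKInjective →
      IsIso (α.app ((HomotopyCategory.quotient _ _).obj I))) :
    RG.IsRightDerivedFunctor α (HomotopyCategory.quasiIso C (ComplexShape.up ℤ)) := by
  have hW : HomotopyCategory.quasiIso C (ComplexShape.up ℤ) = (Acyc C).trW :=
    HomotopyCategory.quasiIso_eq_trW_subcategoryAcyclic C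
  revert L RG α
  rw [hW]
  intro L _ RG α hα
  have := Groth.Agent.Lib.Helper89.TriRes.isRightDerivabilityStructure (hasRes (C := C))
  refine (derives G).isRightDerivedFunctor_of_isIso α ?_
  intro X₁
  obtain ⟨I, hI⟩ := HomotopyCategory.quotient_obj_surjective X₁.obj
  have hI' : CochainComplex.IsKInjective I := by
    rw [CochainComplex.isKInjective_iff_rightOrthogonal, hI]
    exact X₁.property
  have h := hα I hI'
  rw [hI] at h
  exact h

theorem isRightDerivedFunctor_iff
    {H : Type u'} [Category.{v'} H] (G : HomotopyCategory C (ComplexShape.up ℤ) ⥤ H)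
    {D₂ : Type*} [Category D₂] (L : HomotopyCategory C (ComplexShape.up ℤ) ⥤ D₂)
    [L.IsLocalization (HomotopyCategory.quasiIso C (ComplexShape.up ℤ))]
    (RG : D₂ ⥤ H) (α : G ⟶ L ⋙ RG) :
    RG.IsRightDerivedFunctor α (HomotopyCategory.quasiIso C (ComplexShape.up ℤ)) ↔
      ∀ (I : CochainComplex C ℤ), I.IsKInjective →
        IsIso (α.app ((HomotopyCategory.quotient _ _).obj I)) :=
  ⟨fun _ I _ => isIso_unit_homotopyCategory G L RG α I,
    isRightDerivedFunctor_of_isIso G L RG α⟩

theorem isRightDerivedFunctor_postcomp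
    {H : Type u'} [Category.{v'} H] (G : HomotopyCategory C (ComplexShape.up ℤ) ⥤ H)
    {D₂ : Type*} [Category D₂] (L : HomotopyCategory C (ComplexShape.up ℤ) ⥤ D₂)
    [L.IsLocalization (HomotopyCategory.quasiIso C (ComplexShape.up ℤ))]
    (RG : D₂ ⥤ H) (α : G ⟶ L ⋙ RG)
    [RG.IsRightDerivedFunctor α (HomotopyCategory.quasiIso C (ComplexShape.up ℤ))]
    {H' : Type u''} [Category.{v''} H'] (T : H ⥤ H') :
    (RG ⋙ T).IsRightDerivedFunctor
      (Functor.whiskerRight α T ≫ (Functor.associator L RG T).hom)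
      (HomotopyCategory.quasiIso C (ComplexShape.up ℤ)) := by
  apply isRightDerivedFunctor_of_isIso
  intro I hI
  have := isIso_unit_homotopyCategory G L RG α I
  simp only [NatTrans.comp_app, Functor.whiskerRight_app, Functor.associator_hom_app]
  infer_instance

end

section

variable {C₁ : Type u} [Category.{v} C₁] [Abelian C₁] [IsGrothendieckAbelian.{v} C₁]
  [HasDerivedCategory.{w} C₁]
  {C₂ : Type u'} [Category.{v'} C₂] [Abelian C₂] [IsGrothendieckAbelian.{v'} C₂]
  [HasDerivedCategory.{w'} C₂]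
  (E : C₁ ⥤ C₂) [E.Additive] [PreservesFiniteLimits E] [PreservesFiniteColimits E]

noncomputable def precompUnit {H : Type u''} [Category.{v''} H]
    (G : HomotopyCategory C₂ (ComplexShape.up ℤ) ⥤ H)
    (RG : DerivedCategory C₂ ⥤ H) (α : G ⟶ DerivedCategory.Qh ⋙ RG) :
    E.mapHomotopyCategory (ComplexShape.up ℤ) ⋙ G ⟶
      DerivedCategory.Qh ⋙ E.mapDerivedCategory ⋙ RG :=
  Functor.whiskerLeft (E.mapHomotopyCategory (ComplexShape.up ℤ)) α ≫
    (Functor.associator _ _ _).inv ≫
    Functor.whiskerRight E.mapDerivedCategoryFactorsh.inv RG ≫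
    (Functor.associator _ _ _).hom

theorem isRightDerivedFunctor_precomp
    (hE : ∀ (I : CochainComplex C₁ ℤ), I.IsKInjective →
      CochainComplex.IsKInjective ((E.mapHomologicalComplex (ComplexShape.up ℤ)).obj I))
    {H : Type u''} [Category.{v''} H]
    (G : HomotopyCategory C₂ (ComplexShape.up ℤ) ⥤ H)
    (RG : DerivedCategory C₂ ⥤ H) (α : G ⟶ DerivedCategory.Qh ⋙ RG)
    [RG.IsRightDerivedFunctor α (HomotopyCategory.quasiIso C₂ (ComplexShape.up ℤ))] :
    (E.mapDerivedCategory ⋙ RG).IsRightDerivedFunctor (precompUnit E G RG α)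
      (HomotopyCategory.quasiIso C₁ (ComplexShape.up ℤ)) := by
  apply isRightDerivedFunctor_of_isIso
  intro I hI
  have hEI := hE I hI
  have h1 := isIso_unit_homotopyCategory G DerivedCategory.Qh RG α
    ((E.mapHomologicalComplex (ComplexShape.up ℤ)).obj I)
  have h2 : IsIso (α.app ((E.mapHomotopyCategory (ComplexShape.up ℤ)).obj
      ((HomotopyCategory.quotient _ _).obj I))) :=
    (NatTrans.isIso_app_iff_of_iso α
      ((E.mapHomotopyCategoryFactors (ComplexShape.up ℤ)).app I)).2 h1
  simp only [precompUnit, NatTrans.comp_app, Functor.whiskerLeft_app, Functor.whiskerRight_app,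
    Functor.associator_hom_app, Functor.associator_inv_app]
  infer_instance

end

end Groth.Agent.Lib.Helper12.RDer
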