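import Groth.Prelude.Def_CxOX

set_option autoImplicit false
universe u
open CategoryTheory CategoryTheory.Limits AlgebraicGeometry TopologicalSpace Opposite
open AlgebraicGeometry.Scheme.Modules

namespace Groth.Agent.Lib.Helper12.BCOpen

variable {X S : Scheme.{u}}

lemma isIso_unit_app_of_le (W : X.Opens) (M : X.Modules) (T : X.Opens) (hT : T ≤ W) :
    IsIso (((restrictAdjunction W.ι).unit.app M).app T) := by
  rw [restrictAdjunction_unit_app_app]
  have hle : T ≤ W.ι ''ᵁ (W.ι ⁻¹ᵁ T) := by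
    intro x hx
    exact ⟨⟨x, hT hx⟩, hx, rfl⟩
  have h1 : IsIso (homOfLE (W.ι.image_preimage_le T)) :=
    ⟨homOfLE hle, Subsingleton.elim _ _, Subsingleton.elim _ _⟩
  have h2 : IsIso (homOfLE (W.ι.image_preimage_le T)).op := inferInstance
  exact Functor.map_isIso M.presheaf _

variable (f : X ⟶ S) (S' : S.Opens)

noncomputable def bcIso₁ :
    pushforward f ⋙ restrictFunctor S'.ι ≅
      ((restrictFunctor (f ⁻¹ᵁ S').ι ⋙ pushforward (f ⁻¹ᵁ S').ι) ⋙ pushforward f) ⋙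
        restrictFunctor S'.ι := by
  let τ : pushforward f ⋙ restrictFunctor S'.ι ⟶
      ((restrictFunctor (f ⁻¹ᵁ S').ι ⋙ pushforward (f ⁻¹ᵁ S').ι) ⋙ pushforward f) ⋙
        restrictFunctor S'.ι :=
    Functor.whiskerRight (Functor.whiskerRight (restrictAdjunction (f ⁻¹ᵁ S').ι).unit
      (pushforward f)) (restrictFunctor S'.ι)
  have : IsIso τ := by
    have : ∀ M, IsIso (τ.app M) := by
      intro M
      rw [Hom.isIso_iff_isIso_app]
      intro T
      have hT : f ⁻¹ᵁ (S'.ι ''ᵁ T) ≤ f ⁻¹ᵁ S' := by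
        intro x hx
        obtain ⟨y, -, hy⟩ := hx
        change f.base x ∈ S'
        rw [← hy]
        exact y.2
      exact isIso_unit_app_of_le (f ⁻¹ᵁ S') M (f ⁻¹ᵁ (S'.ι ''ᵁ T)) hT
    exact NatIso.isIso_of_isIso_app _
  exact asIso τ

noncomputable def bcIso₂ :
    ((restrictFunctor (f ⁻¹ᵁ S').ι ⋙ pushforward (f ⁻¹ᵁ S').ι) ⋙ pushforward f) ⋙
        restrictFunctor S'.ι ≅
      restrictFunctor (f ⁻¹ᵁ S').ι ⋙ pushforward (f ∣_ S') := by
  let e : (pushforward (f ⁻¹ᵁ S').ι ⋙ pushforward f) ⋙ restrictFunctor S'.ι ≅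
      pushforward (f ∣_ S') :=
    Functor.isoWhiskerRight (pushforwardComp (f ⁻¹ᵁ S').ι f ≪≫
        pushforwardCongr (morphismRestrict_ι f S').symm ≪≫
        (pushforwardComp (f ∣_ S') S'.ι).symm) (restrictFunctor S'.ι) ≪≫
      Functor.associator _ _ _ ≪≫
      Functor.isoWhiskerLeft (pushforward (f ∣_ S')) (restrictFunctorAdjCounitIso S'.ι) ≪≫
      Functor.rightUnitor _
  exact Functor.isoWhiskerLeft (restrictFunctor (f ⁻¹ᵁ S').ι) e

noncomputable def bcIso :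
    pushforward f ⋙ restrictFunctor S'.ι ≅
      restrictFunctor (f ⁻¹ᵁ S').ι ⋙ pushforward (f ∣_ S') :=
  bcIso₁ f S' ≪≫ bcIso₂ f S'

end Groth.Agent.Lib.Helper12.BCOpen
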