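import Groth.Agent.Lib.Helper12.RDer
import Groth.Agent.Lib.Helper12.BCOpen
import Groth.Agent.Lib.Helper53.ModGroth
import Groth.Agent.Lib.Helper26.ExtZeroSch
import Groth.Agent.Lib.Helper45.KInjAdj

set_option autoImplicit false
universe u
open CategoryTheory CategoryTheory.Limits AlgebraicGeometry

attribute [local instance] HasDerivedCategory.standard

namespace Groth.Agent.Lib.Helper12.RDerSch

instance isGrothendieckAbelian_modules (X : Scheme.{u}) : IsGrothendieckAbelian.{u} X.Modules :=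
  Groth.Agent.Lib.Helper53.ModGroth.isGrothendieckAbelian _ X.ringCatSheaf

theorem isKInjective_restrict {X : Scheme.{u}} (U : X.Opens)
    (I : CochainComplex X.Modules ℤ) (hI : I.IsKInjective) :
    CochainComplex.IsKInjective
      (((Scheme.Modules.restrictFunctor U.ι).mapHomologicalComplex (ComplexShape.up ℤ)).obj I) := by
  have h1 : PreservesFiniteLimits (CxOX.extZero U.ι) :=
    Groth.Agent.Lib.Helper26.ExtZeroSch.preservesFiniteLimits_extZero U
  have h2 : (CxOX.extZero U.ι).PreservesHomology := Functor.preservesHomologyOfExact _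
  exact Groth.Agent.Lib.Helper45.KInjAdj.isKInjective_map (CxOX.extZeroAdj U.ι) I

section

variable {X Y : Scheme.{u}} (f : X ⟶ Y) (V : Y.Opens)
  [PreservesFiniteLimits (Scheme.Modules.restrictFunctor V.ι)]
  [PreservesFiniteLimits (Scheme.Modules.restrictFunctor (f ⁻¹ᵁ V).ι)]

noncomputable def pushKhRestrictIso :
    DCoh.pushKh f ⋙ DCoh.restrictD V.ι ≅
      (Scheme.Modules.restrictFunctor (f ⁻¹ᵁ V).ι).mapHomotopyCategory (ComplexShape.up ℤ) ⋙
        DCoh.pushKh (f ∣_ V) :=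
  Functor.associator _ _ _ ≪≫
    Functor.isoWhiskerLeft _ (Scheme.Modules.restrictFunctor V.ι).mapDerivedCategoryFactorsh ≪≫
    (Functor.associator _ _ _).symm ≪≫
    Functor.isoWhiskerRight
      (Functor.mapHomotopyCategoryCompIso (Groth.Agent.Lib.Helper12.BCOpen.bcIso f V)
        (ComplexShape.up ℤ)) DerivedCategory.Qh ≪≫
    Functor.isoWhiskerRight
      (Functor.mapHomotopyCategoryCompIso
        (Iso.refl (Scheme.Modules.restrictFunctor (f ⁻¹ᵁ V).ι ⋙
          Scheme.Modules.pushforward (f ∣_ V))) (ComplexShape.up ℤ)).symm DerivedCategory.Qh ≪≫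
    Functor.associator _ _ _

theorem nonempty_Rpush_restrictD_iso [DCoh.HasRpush f] [DCoh.HasRpush (f ∣_ V)] :
    Nonempty (DCoh.Rpush f ⋙ DCoh.restrictD V.ι ≅
      DCoh.restrictD (f ⁻¹ᵁ V).ι ⋙ DCoh.Rpush (f ∣_ V)) := by
  have h1 := Groth.Agent.Lib.Helper12.RDer.isRightDerivedFunctor_postcomp (DCoh.pushKh f)
    DerivedCategory.Qh (DCoh.Rpush f)
    ((DCoh.pushKh f).totalRightDerivedUnit DerivedCategory.Qh
      (HomotopyCategory.quasiIso X.Modules (ComplexShape.up ℤ))) (DCoh.restrictD V.ι)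
  have h2 := Groth.Agent.Lib.Helper12.RDer.isRightDerivedFunctor_precomp
    (Scheme.Modules.restrictFunctor (f ⁻¹ᵁ V).ι) (isKInjective_restrict (f ⁻¹ᵁ V))
    (DCoh.pushKh (f ∣_ V)) (DCoh.Rpush (f ∣_ V))
    ((DCoh.pushKh (f ∣_ V)).totalRightDerivedUnit DerivedCategory.Qh
      (HomotopyCategory.quasiIso (f ⁻¹ᵁ V : Scheme.{u}).Modules (ComplexShape.up ℤ)))
  exact ⟨Functor.rightDerivedNatIso _ _
    (Functor.whiskerRight ((DCoh.pushKh f).totalRightDerivedUnit DerivedCategory.Qh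
      (HomotopyCategory.quasiIso X.Modules (ComplexShape.up ℤ))) (DCoh.restrictD V.ι) ≫
      (Functor.associator DerivedCategory.Qh (DCoh.Rpush f) (DCoh.restrictD V.ι)).hom)
    (Groth.Agent.Lib.Helper12.RDer.precompUnit (Scheme.Modules.restrictFunctor (f ⁻¹ᵁ V).ι)
      (DCoh.pushKh (f ∣_ V)) (DCoh.Rpush (f ∣_ V))
      ((DCoh.pushKh (f ∣_ V)).totalRightDerivedUnit DerivedCategory.Qh
        (HomotopyCategory.quasiIso (f ⁻¹ᵁ V : Scheme.{u}).Modules (ComplexShape.up ℤ))))
    (HomotopyCategory.quasiIso X.Modules (ComplexShape.up ℤ)) (pushKhRestrictIso f V)⟩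

end

end Groth.Agent.Lib.Helper12.RDerSch
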