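import Groth.Agent.Lib.Helper12.AdjLR1
import Groth.Agent.Lib.Helper2.LpullComp
import Groth.Agent.Lib.Helper12.RDer
import Groth.Agent.Lib.Helper12.RDerSch
import Groth.Agent.Lib.Helper39.DerAdj
import Mathlib.CategoryTheory.Functor.Derived.Adjunction

set_option autoImplicit false
universe u
open CategoryTheory CategoryTheory.Limits AlgebraicGeometry

attribute [local instance] HasDerivedCategory.standard

namespace Groth.Agent.Lib.Helper12.AdjLR

open Groth.Agent.Lib.Helper12 Groth.Agent.Lib.Helper2.Lpull Groth.Agent.Lib.Helper12.RDerSch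

variable {X Y : Scheme.{u}} (f : X ⟶ Y)

noncomputable abbrev pushCx : CochainComplex X.Modules ℤ ⥤ CochainComplex Y.Modules ℤ :=
  (Scheme.Modules.pushforward f).mapHomologicalComplex (ComplexShape.up ℤ)

noncomputable def eG : pushCx f ⋙ DerivedCategory.Q ≅
    HomotopyCategory.quotient X.Modules (ComplexShape.up ℤ) ⋙ DCoh.pushKh f :=
  Functor.isoWhiskerLeft (pushCx f) (DerivedCategory.quotientCompQhIso Y.Modules).symm ≪≫
    (Functor.associator _ _ _).symm ≪≫
    Functor.isoWhiskerRight
      ((Scheme.Modules.pushforward f).mapHomotopyCategoryFactors (ComplexShape.up ℤ)).symm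
      DerivedCategory.Qh ≪≫
    Functor.associator _ _ _

variable [DCoh.HasRpush f]

noncomputable abbrev unitH : DCoh.pushKh f ⟶ DerivedCategory.Qh ⋙ DCoh.Rpush f :=
  (DCoh.pushKh f).totalRightDerivedUnit DerivedCategory.Qh
    (HomotopyCategory.quasiIso X.Modules (ComplexShape.up ℤ))

noncomputable def unitC : pushCx f ⋙ DerivedCategory.Q ⟶ DerivedCategory.Q ⋙ DCoh.Rpush f :=
  preUnit (HomotopyCategory.quotient X.Modules (ComplexShape.up ℤ)) (DCoh.Rpush f) (unitH f)
    (DerivedCategory.quotientCompQhIso X.Modules) (eG f)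

instance isRightDerivedFunctor_unitC :
    (DCoh.Rpush f).IsRightDerivedFunctor (unitC f) (LTK.qisC (X := X)) :=
  isRightDerivedFunctor_preUnit (HomotopyCategory.quotient X.Modules (ComplexShape.up ℤ))
    (HomologicalComplex.homotopyEquivalences X.Modules (ComplexShape.up ℤ))
    (DCoh.Rpush f) (unitH f) (DerivedCategory.quotientCompQhIso X.Modules) (eG f)
    (W := HomotopyCategory.quasiIso X.Modules (ComplexShape.up ℤ)) (LTK.qisC (X := X))

theorem isRightDerivedFunctor_unitC_postcomp {H' : Type*} [Category H'] (T : DCoh.D Y ⥤ H') :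
    (DCoh.Rpush f ⋙ T).IsRightDerivedFunctor
      (Functor.whiskerRight (unitC f) T ≫ (Functor.associator _ _ _).hom) (LTK.qisC (X := X)) := by
  have h1 := RDer.isRightDerivedFunctor_postcomp (DCoh.pushKh f) DerivedCategory.Qh
    (DCoh.Rpush f) (unitH f) T
  have h2 := isRightDerivedFunctor_preUnit
    (HomotopyCategory.quotient X.Modules (ComplexShape.up ℤ))
    (HomologicalComplex.homotopyEquivalences X.Modules (ComplexShape.up ℤ))
    (DCoh.Rpush f ⋙ T) (Functor.whiskerRight (unitH f) T ≫ (Functor.associator _ _ _).hom)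
    (DerivedCategory.quotientCompQhIso X.Modules)
    (Functor.isoWhiskerRight (eG f) T ≪≫ Functor.associator _ _ _)
    (W := HomotopyCategory.quasiIso X.Modules (ComplexShape.up ℤ)) (LTK.qisC (X := X))
  unfold unitC
  rw [preUnit_postcomp]
  exact h2


section Left

variable {X Y : Scheme.{u}} (f : X ⟶ Y) [DCoh.HasLpull f]

theorem isLeftDerivedFunctor_couQ_postcomp {H' : Type*} [Category H'] (T : DCoh.D X ⥤ H') :
    (DCoh.Lpull f ⋙ T).IsLeftDerivedFunctor
      ((Functor.associator _ _ _).inv ≫ Functor.whiskerRight (couQ f) T) (LTK.qisC (X := Y)) := by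
  have h0 : (DerivedCategory.Q (C := Y.Modules)).IsLocalization (KFlat.qisCx Y.sheaf) :=
    inferInstanceAs ((DerivedCategory.Q (C := Y.Modules)).IsLocalization (LTK.qisC (X := Y)))
  have hd : (KFlat.kflatΦ Y.sheaf).Derives ((pbCx f ⋙ DerivedCategory.Q) ⋙ T) := by
    intro P P' g hg
    have : QuasiIso ((pbCx f).map g.hom) := pb f _ _ g.hom P.property P'.property hg
    change IsIso (T.map (DerivedCategory.Q.map ((pbCx f).map g.hom)))
    infer_instance
  refine @LDer.isLeftDerivedFunctor_of_isIso _ _ _ _ _ _ _ _ _ _ (KFlat.kflatΦ Y.sheaf)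
    (KFlat.isLeftDerivabilityStructure_kflatΦ Y.sheaf) _ hd
    DerivedCategory.Q h0 _ ((Functor.associator _ _ _).inv ≫ Functor.whiskerRight (couQ f) T) ?_
  intro P
  have i1 : IsIso ((couQ f).app P.obj) := isIso_couQ_app f P.obj P.property
  have i2 : IsIso (T.map ((couQ f).app P.obj)) := inferInstance
  change IsIso (𝟙 _ ≫ T.map ((couQ f).app P.obj))
  infer_instance

end Left

section Adj

variable {X Y : Scheme.{u}} (f : X ⟶ Y) [DCoh.HasLpull f] [DCoh.HasRpush f]

noncomputable def adjLR : DCoh.Lpull f ⊣ DCoh.Rpush f :=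
  haveI := isLeftDerivedFunctor_couQ f
  haveI := isLeftDerivedFunctor_couQ_postcomp f (DCoh.Rpush f)
  haveI := isRightDerivedFunctor_unitC_postcomp f (DCoh.Lpull f)
  Adjunction.derived
    (Groth.Agent.Lib.Helper39.DerAdj.mapHCAdj (Scheme.Modules.pullbackPushforwardAdjunction f)
      (ComplexShape.up ℤ))
    (LTK.qisC (X := Y)) (LTK.qisC (X := X)) (couQ f) (unitC f)

end Adj

end Groth.Agent.Lib.Helper12.AdjLR
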