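import Groth.Agent.Lib.Helper12.MVGamma2

set_option autoImplicit false
universe u
open CategoryTheory CategoryTheory.Limits AlgebraicGeometry Opposite TopologicalSpace

attribute [local instance] HasDerivedCategory.standard

namespace Groth.Agent.Lib.Helper12.AffIso

open Groth.Agent.Lib.Helper26.ModMV

variable {X : Scheme.{u}}

theorem app_res {M N : X.Modules} (φ : M ⟶ N) {U V : X.Opens} (i : U ⟶ V)
    (s : M.presheaf.obj (op V)) :
    φ.app U (M.presheaf.map i.op s) = N.presheaf.map i.op (φ.app V s) := by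
  have := φ.mapPresheaf.naturality i.op
  exact congr($this s)

theorem exact_of_local_sections (S : ShortComplex X.Modules)
    (h : ∀ (x : X) (W : X.Opens), x ∈ W → ∃ U : X.Opens, x ∈ U ∧ U ≤ W ∧
      ∀ s : S.X₂.presheaf.obj (op U), S.g.app U s = 0 → ∃ t : S.X₁.presheaf.obj (op U), S.f.app U t = s) :
    S.Exact := by
  rw [StalkExact.exact_iff_stalk]
  intro x
  rw [ShortComplex.moduleCat_exact_iff]
  intro z hz
  obtain ⟨V, hxV, s, rfl⟩ := S.X₂.presheaf.exists_germ_eq (x := x) z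
  change (DerSch.stalkFunctor X x).map S.g (S.X₂.presheaf.germ V x hxV s) = 0 at hz
  rw [DerSch.stalkFunctor_map_germ] at hz
  have h0 : S.X₃.presheaf.germ V x hxV (S.g.app V s) = S.X₃.presheaf.germ V x hxV 0 := by
    exact hz.trans (map_zero _).symm
  obtain ⟨W, hxW, iU, iV, hW⟩ := TopCat.Presheaf.germ_eq _ x hxV hxV _ _ h0
  rw [map_zero] at hW
  obtain ⟨U, hxU, hUW, hU⟩ := h x W hxW
  let j : U ⟶ V := homOfLE (hUW.trans iU.le)
  have hj : j = homOfLE hUW ≫ iU := rfl
  obtain ⟨t, ht⟩ := hU (S.X₂.presheaf.map j.op s) (by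
    rw [app_res, hj, op_comp, Functor.map_comp]
    change S.X₃.presheaf.map (homOfLE hUW).op (S.X₃.presheaf.map iU.op (S.g.app V s)) = 0
    rw [hW, map_zero])
  refine ⟨S.X₁.presheaf.germ U x hxU t, ?_⟩
  change (DerSch.stalkFunctor X x).map S.f (S.X₁.presheaf.germ U x hxU t) = _
  rw [DerSch.stalkFunctor_map_germ, ht]
  exact TopCat.Presheaf.germ_res_apply _ j x hxU s

theorem exactAt_of_affine (K : CochainComplex X.Modules ℤ) (i : ℤ)
    (h : ∀ U : X.Opens, IsAffineOpen U →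
      (((H U ⋙ DCoh.gammaAb X).mapHomologicalComplex (ComplexShape.up ℤ)).obj K).ExactAt i) :
    K.ExactAt i := by
  rw [HomologicalComplex.exactAt_iff]
  apply exact_of_local_sections
  intro x W hxW
  obtain ⟨U₀, hU, hxU, hUW⟩ := Opens.isBasis_iff_nbhd.mp X.isBasis_affineOpens hxW
  let U : X.Opens := U₀
  have hU' : U.ι ''ᵁ (U.ι ⁻¹ᵁ ⊤) = U := by simp
  refine ⟨U.ι ''ᵁ (U.ι ⁻¹ᵁ ⊤), hU'.symm ▸ hxU, hU'.symm ▸ hUW, ?_⟩
  have hex := h U hU
  rw [HomologicalComplex.exactAt_iff, ShortComplex.ab_exact_iff] at hex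
  exact hex

end Groth.Agent.Lib.Helper12.AffIso
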