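import Groth.Agent.Lib.Helper12.MVSch

set_option autoImplicit false
open CategoryTheory CategoryTheory.Limits Pretriangulated

namespace Groth.Agent.Lib.Helper12.TriDer

universe w v v' u₁ u'

section Tri

variable {T : Type u'} [Category.{v'} T] [HasZeroObject T] [HasShift T ℤ]
  [Preadditive T] [∀ (n : ℤ), (shiftFunctor T n).Additive] [Pretriangulated T]

theorem exists_third_of_isos (T' : Triangle T) (hT' : T' ∈ distTriang T) {A₁ A₂ A₃ : T}
    (a : A₁ ⟶ A₂) (b : A₂ ⟶ A₃) (e₁ : A₁ ≅ T'.obj₁) (e₂ : A₂ ≅ T'.obj₂) (e₃ : A₃ ≅ T'.obj₃)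
    (h₁ : a ≫ e₂.hom = e₁.hom ≫ T'.mor₁) (h₂ : b ≫ e₃.hom = e₂.hom ≫ T'.mor₂) :
    ∃ c : A₃ ⟶ A₁⟦(1 : ℤ)⟧, Triangle.mk a b c ∈ distTriang T := by
  refine ⟨e₃.hom ≫ T'.mor₃ ≫ e₁.inv⟦(1 : ℤ)⟧', ?_⟩
  refine isomorphic_distinguished _ hT' _ (Triangle.isoMk _ _ e₁ e₂ e₃ h₁ h₂ ?_)
  change (e₃.hom ≫ T'.mor₃ ≫ e₁.inv⟦(1 : ℤ)⟧') ≫ e₁.hom⟦(1 : ℤ)⟧' = e₃.hom ≫ T'.mor₃
  rw [Category.assoc, Category.assoc, ← Functor.map_comp, Iso.inv_hom_id,
    CategoryTheory.Functor.map_id, Category.comp_id]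

end Tri

section Sq

variable {K D T : Type*} [Category K] [Category D] [Category T] {L : K ⥤ D} {G : K ⥤ T}
  {RG : D ⥤ T}

theorem unit_square (α : G ⟶ L ⋙ RG) {X₁ X₂ : K} (m : X₁ ⟶ X₂) [IsIso (α.app X₁)]
    [IsIso (α.app X₂)] {Y₁ Y₂ : D} (t : Y₁ ⟶ Y₂) (p₁ : Y₁ ≅ L.obj X₁) (p₂ : Y₂ ≅ L.obj X₂)
    (h : t ≫ p₂.hom = p₁.hom ≫ L.map m) :
    RG.map t ≫ (RG.mapIso p₂ ≪≫ (asIso (α.app X₂)).symm).hom =
      (RG.mapIso p₁ ≪≫ (asIso (α.app X₁)).symm).hom ≫ G.map m := by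
  simp only [Iso.trans_hom, Functor.mapIso_hom, Iso.symm_hom, asIso_inv]
  rw [← RG.map_comp_assoc, h, RG.map_comp_assoc, Category.assoc]
  congr 1
  rw [IsIso.comp_inv_eq, Category.assoc, α.naturality m, IsIso.inv_hom_id_assoc]
  rfl

end Sq


variable {C : Type u₁} [Category.{v} C] [Abelian C]

theorem isKInjective_mappingCone {A B : CochainComplex C ℤ} (u : A ⟶ B)
    [A.IsKInjective] [B.IsKInjective] : (CochainComplex.mappingCone u).IsKInjective := by
  rw [CochainComplex.isKInjective_iff_rightOrthogonal]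
  exact (HomotopyCategory.subcategoryAcyclic C).rightOrthogonal.ext_of_isTriangulatedClosed₃ _
    (HomotopyCategory.mappingCone_triangleh_distinguished u)
    (CochainComplex.IsKInjective.rightOrthogonal A)
    (CochainComplex.IsKInjective.rightOrthogonal B)

variable [HasDerivedCategory.{w} C]

theorem exists_Qh_map_eq (A B : CochainComplex C ℤ) [B.IsKInjective]
    (φ : DerivedCategory.Qh.obj ((HomotopyCategory.quotient C (ComplexShape.up ℤ)).obj A) ⟶
      DerivedCategory.Qh.obj ((HomotopyCategory.quotient C (ComplexShape.up ℤ)).obj B)) :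
    ∃ u : A ⟶ B,
      DerivedCategory.Qh.map ((HomotopyCategory.quotient C (ComplexShape.up ℤ)).map u) = φ := by
  obtain ⟨g, hg⟩ := (CochainComplex.IsKInjective.Qh_map_bijective
    ((HomotopyCategory.quotient C (ComplexShape.up ℤ)).obj A) B).surjective φ
  obtain ⟨u, rfl⟩ := (HomotopyCategory.quotient C (ComplexShape.up ℤ)).map_surjective g
  exact ⟨u, hg⟩

variable [IsGrothendieckAbelian.{v} C]

theorem exists_distinguished_map {T : Type u'} [Category.{v'} T] [HasZeroObject T] [HasShift T ℤ]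
    [Preadditive T] [∀ (n : ℤ), (shiftFunctor T n).Additive] [Pretriangulated T]
    (G : HomotopyCategory C (ComplexShape.up ℤ) ⥤ T) [G.CommShift ℤ] [G.IsTriangulated]
    (RG : DerivedCategory C ⥤ T) (α : G ⟶ DerivedCategory.Qh ⋙ RG)
    [RG.IsRightDerivedFunctor α (HomotopyCategory.quasiIso C (ComplexShape.up ℤ))]
    (T₀ : Triangle (DerivedCategory C)) (hT₀ : T₀ ∈ distTriang (DerivedCategory C)) :
    ∃ c : RG.obj T₀.obj₃ ⟶ (RG.obj T₀.obj₁)⟦(1 : ℤ)⟧,
      Triangle.mk (RG.map T₀.mor₁) (RG.map T₀.mor₂) c ∈ distTriang T := by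
  obtain ⟨A, hA, -, ⟨eA⟩⟩ := MVSch.exists_extProp_model T₀.obj₁
  obtain ⟨B, hB, -, ⟨eB⟩⟩ := MVSch.exists_extProp_model T₀.obj₂
  let e₁ : T₀.obj₁ ≅ DerivedCategory.Qh.obj ((HomotopyCategory.quotient C (ComplexShape.up ℤ)).obj A) :=
    eA ≪≫ ((DerivedCategory.quotientCompQhIso C).app A).symm
  let e₂ : T₀.obj₂ ≅ DerivedCategory.Qh.obj ((HomotopyCategory.quotient C (ComplexShape.up ℤ)).obj B) :=
    eB ≪≫ ((DerivedCategory.quotientCompQhIso C).app B).symm
  obtain ⟨u, hu⟩ := exists_Qh_map_eq A B (e₁.inv ≫ T₀.mor₁ ≫ e₂.hom)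
  have hcone : (CochainComplex.mappingCone u).IsKInjective := isKInjective_mappingCone u
  let TK := CochainComplex.mappingCone.triangleh u
  have hTK : TK ∈ distTriang _ := HomotopyCategory.mappingCone_triangleh_distinguished u
  have hTD : DerivedCategory.Qh.mapTriangle.obj TK ∈ distTriang (DerivedCategory C) :=
    DerivedCategory.Qh.map_distinguished _ hTK
  have hTG : G.mapTriangle.obj TK ∈ distTriang T := G.map_distinguished _ hTK
  have comm : T₀.mor₁ ≫ e₂.hom = e₁.hom ≫ (DerivedCategory.Qh.mapTriangle.obj TK).mor₁ := by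
    change T₀.mor₁ ≫ e₂.hom = e₁.hom ≫ DerivedCategory.Qh.map ((HomotopyCategory.quotient C (ComplexShape.up ℤ)).map u)
    rw [hu, Iso.hom_inv_id_assoc]
  let ψ := isoTriangleOfIso₁₂ T₀ _ hT₀ hTD e₁ e₂ comm
  have c₁ := ψ.hom.comm₁
  have c₂ := ψ.hom.comm₂
  have iA : IsIso (α.app ((HomotopyCategory.quotient C (ComplexShape.up ℤ)).obj A)) :=
    Groth.Agent.Lib.Helper25.KInjDerived.isIso_unit_homotopyCategory G
    DerivedCategory.Qh RG α A
  have iB : IsIso (α.app ((HomotopyCategory.quotient C (ComplexShape.up ℤ)).obj B)) :=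
    Groth.Agent.Lib.Helper25.KInjDerived.isIso_unit_homotopyCategory G
    DerivedCategory.Qh RG α B
  have iC : IsIso (α.app ((HomotopyCategory.quotient C (ComplexShape.up ℤ)).obj
      (CochainComplex.mappingCone u))) :=
    Groth.Agent.Lib.Helper25.KInjDerived.isIso_unit_homotopyCategory G
    DerivedCategory.Qh RG α (CochainComplex.mappingCone u)
  let ε₁ : RG.obj T₀.obj₁ ≅ (G.mapTriangle.obj TK).obj₁ :=
    RG.mapIso ((Triangle.π₁ (C := DerivedCategory C)).mapIso ψ) ≪≫ (asIso (α.app ((HomotopyCategory.quotient C (ComplexShape.up ℤ)).obj A))).symm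
  let ε₂ : RG.obj T₀.obj₂ ≅ (G.mapTriangle.obj TK).obj₂ :=
    RG.mapIso ((Triangle.π₂ (C := DerivedCategory C)).mapIso ψ) ≪≫ (asIso (α.app ((HomotopyCategory.quotient C (ComplexShape.up ℤ)).obj B))).symm
  let ε₃ : RG.obj T₀.obj₃ ≅ (G.mapTriangle.obj TK).obj₃ :=
    RG.mapIso ((Triangle.π₃ (C := DerivedCategory C)).mapIso ψ) ≪≫
      (asIso (α.app ((HomotopyCategory.quotient C (ComplexShape.up ℤ)).obj (CochainComplex.mappingCone u)))).symm
  refine exists_third_of_isos _ hTG _ _ ε₁ ε₂ ε₃ ?_ ?_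
  · exact unit_square α (X₁ := (HomotopyCategory.quotient C (ComplexShape.up ℤ)).obj A)
      (X₂ := (HomotopyCategory.quotient C (ComplexShape.up ℤ)).obj B) TK.mor₁ T₀.mor₁ _ _ c₁
  · exact unit_square α (X₁ := (HomotopyCategory.quotient C (ComplexShape.up ℤ)).obj B)
      (X₂ := (HomotopyCategory.quotient C (ComplexShape.up ℤ)).obj (CochainComplex.mappingCone u))
      TK.mor₂ T₀.mor₂ _ _ c₂

end Groth.Agent.Lib.Helper12.TriDer
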