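import Groth.Agent.Lib.Helper12.AffIso1
import Groth.Agent.Lib.Helper12.TriDer
import Groth.Agent.Lib.Helper62.SerreLoc

set_option autoImplicit false
universe u
open CategoryTheory CategoryTheory.Limits AlgebraicGeometry Opposite TopologicalSpace Pretriangulated

attribute [local instance] HasDerivedCategory.standard

namespace Groth.Agent.Lib.Helper12.AffIso

open Groth.Agent.Lib.Helper26.ModMV Groth.Agent.Lib.Helper12

variable {X : Scheme.{u}}

theorem exactAt_of_isZero_Q {A : Type*} [Category A] [Abelian A] [HasDerivedCategory A]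
    (L : CochainComplex A ℤ) (h : IsZero (DerivedCategory.Q.obj L)) (i : ℤ) : L.ExactAt i := by
  rw [HomologicalComplex.exactAt_iff_isZero_homology]
  have h1 : IsZero ((DerivedCategory.homologyFunctor A i).obj (DerivedCategory.Q.obj L)) :=
    Functor.map_isZero _ h
  exact h1.of_iso ((DerivedCategory.homologyFunctorFactors A i).app L).symm

theorem isZero_Q_of_exactAt {A : Type*} [Category A] [Abelian A] [HasDerivedCategory A]
    (L : CochainComplex A ℤ) (h : ∀ i, L.ExactAt i) : IsZero (DerivedCategory.Q.obj L) := by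
  apply Groth.Agent.Lib.Helper62.SerreLoc.isZero_of_homology
  intro n
  have := (HomologicalComplex.exactAt_iff_isZero_homology _ _).1 (h n)
  exact this.of_iso ((DerivedCategory.homologyFunctorFactors A n).app L)

end Groth.Agent.Lib.Helper12.AffIso

namespace Groth.Agent.Lib.Helper12.AffIso

open Groth.Agent.Lib.Helper26.ModMV Groth.Agent.Lib.Helper12

variable {X : Scheme.{u}}

theorem isZero_RΓ_restrictD_cone (U : X.Opens) [DCoh.HasRΓ (U : Scheme.{u})]
    (T : Triangle (DCoh.D X)) (hT : T ∈ distTriang (DCoh.D X))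
    (h : IsIso ((DCoh.RΓ (U : Scheme.{u})).map ((DCoh.restrictD U.ι).map T.mor₁))) :
    IsZero ((DCoh.RΓ (U : Scheme.{u})).obj ((DCoh.restrictD U.ι).obj T.obj₃)) := by
  have hTU : (DCoh.restrictD U.ι).mapTriangle.obj T ∈ distTriang (DCoh.D (U : Scheme.{u})) :=
    (DCoh.restrictD U.ι).map_distinguished _ hT
  obtain ⟨c, hc⟩ := TriDer.exists_distinguished_map (DCoh.gammaKh (U : Scheme.{u}))
    (DCoh.RΓ (U : Scheme.{u})) ((DCoh.gammaKh (U : Scheme.{u})).totalRightDerivedUnit DerivedCategory.Qh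
      (HomotopyCategory.quasiIso (U : Scheme.{u}).Modules (ComplexShape.up ℤ))) _ hTU
  exact (Triangle.isZero₃_iff_isIso₁ _ hc).2 h

end Groth.Agent.Lib.Helper12.AffIso

namespace Groth.Agent.Lib.Helper12.AffIso

open Groth.Agent.Lib.Helper26.ModMV Groth.Agent.Lib.Helper12

variable {X : Scheme.{u}}

theorem isIso_of_affine [hR : ∀ U : X.Opens, DCoh.HasRΓ (U : Scheme.{u})] {G₁ G₂ : DCoh.D X}
    (φ : G₁ ⟶ G₂)
    (h : ∀ U : X.Opens, IsAffineOpen U →
      IsIso ((DCoh.RΓ (U : Scheme.{u})).map ((DCoh.restrictD U.ι).map φ))) : IsIso φ := by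
  obtain ⟨C, b, c, hT⟩ := Pretriangulated.distinguished_cocone_triangle φ
  refine (Triangle.isZero₃_iff_isIso₁ _ hT).1 ?_
  obtain ⟨I, hI, -, ⟨e⟩⟩ := MVSch.exists_extProp_model C
  refine IsZero.of_iso ?_ e
  apply isZero_Q_of_exactAt
  intro i
  apply exactAt_of_affine
  intro U hU
  apply exactAt_of_isZero_Q
  have hz := isZero_RΓ_restrictD_cone U _ hT (h U hU)
  exact hz.of_iso (MVSch.restrictΓIso U C I hI e).symm

end Groth.Agent.Lib.Helper12.AffIso
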