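import Groth.Prelude.Def_AlgSp4
import Mathlib.CategoryTheory.Limits.Types.Pullbacks
import Mathlib.CategoryTheory.Sites.Limits

set_option autoImplicit false
universe u
open CategoryTheory CategoryTheory.Limits AlgebraicGeometry Opposite

namespace Groth.Agent.Lib.Helper12.AlgSpPoints

open AlgSp

variable {S : Scheme.{u}}

theorem sections_of_isPullback {A B D E : Sp S} {t : A ⟶ B} {l : A ⟶ D} {r : B ⟶ E} {b : D ⟶ E}
    (sq : IsPullback t l r b) (Z : (Over S)ᵒᵖ) (x : B.obj.obj Z) (y : D.obj.obj Z)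
    (h : r.hom.app Z x = b.hom.app Z y) : ∃ a, t.hom.app Z a = x ∧ l.hom.app Z a = y := by
  have sq1 := sq.map (sheafToPresheaf (J S) (Type (u + 1)))
  have sq2 := sq1.map ((evaluation _ _).obj Z)
  rw [Types.isPullback_iff] at sq2
  exact sq2.2.2 x y h

theorem Points.exists_of_isPullback {P F G Z : Sp S} {fst : P ⟶ F} {snd : P ⟶ Z} {f : F ⟶ G}
    {g : Z ⟶ G} (sq : IsPullback fst snd f g) (x : Points F) (z : Points Z)
    (h : Points.map f x = Points.map g z) :
    ∃ w : Points P, Points.map fst w = x ∧ Points.map snd w = z := by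
  induction x using Points.ind with | h p =>
  induction z using Points.ind with | h q =>
  rw [Points.map_mk, Points.map_mk, Points.mk_eq_mk_iff] at h
  obtain ⟨Ω, _, w, (a : Over.mk w ⟶ p.pt), (b : Over.mk w ⟶ q.pt), hab⟩ := h
  change G.obj.map a.op (f.hom.app (op p.pt) p.val) = G.obj.map b.op (g.hom.app (op q.pt) q.val) at hab
  rw [← NatTrans.naturality_apply, ← NatTrans.naturality_apply] at hab
  obtain ⟨s, hs1, hs2⟩ := sections_of_isPullback sq (op (Over.mk w)) _ _ hab
  refine ⟨Points.mk ⟨Ω, w, s⟩, ?_, ?_⟩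
  · rw [Points.map_mk, Points.mk_eq_mk_iff]
    refine ⟨Ω, inferInstance, w, 𝟙 _, a, ?_⟩
    change F.obj.map (𝟙 _).op (fst.hom.app _ s) = _
    rw [hs1]
    simp
  · rw [Points.map_mk, Points.mk_eq_mk_iff]
    refine ⟨Ω, inferInstance, w, 𝟙 _, b, ?_⟩
    change Z.obj.map (𝟙 _).op (snd.hom.app _ s) = _
    rw [hs2]
    simp

end Groth.Agent.Lib.Helper12.AlgSpPoints
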