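import Groth.Agent.Lib.Helper12.AlgSpPoints
import Mathlib.CategoryTheory.Sites.PreservesLimits

set_option autoImplicit false
universe u
open CategoryTheory CategoryTheory.Limits AlgebraicGeometry Opposite

namespace Groth.Agent.Lib.Helper12.AlgSpPoints

open AlgSp

variable {S : Scheme.{u}}

theorem Points.ofPt_yon_map {T T' : Over S} (φ : T ⟶ T') (t : ↥T.left) :
    Points.ofPt ((yon S).map φ) t = Points.ofScheme T' (φ.left t) := by
  apply (Points.schemeEquiv T').symm.injective
  change Points.toScheme T' (Points.ofPt ((yon S).map φ) t) =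
    Points.toScheme T' (Points.ofScheme T' (φ.left t))
  rw [Points.toScheme_ofPt, Points.toScheme_ofScheme]

theorem Points.ofPt_comp {F : Sp S} {T T' : Over S} (φ : T ⟶ T') (g : (yon S).obj T' ⟶ F) (t : ↥T.left) :
    Points.ofPt ((yon S).map φ ≫ g) t = Points.ofPt g (φ.left t) := by
  rw [← Points.map_ofPt, Points.ofPt_yon_map, ← Points.ofPt_eq_map_ofScheme]

theorem Points.preimage_image_of_isPullback {F G : Sp S} {f : F ⟶ G} {V W : Over S}
    {h : (yon S).obj V ⟶ G} {i : W ⟶ V} {fst : (yon S).obj W ⟶ F}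
    (sq : IsPullback fst ((yon S).map i) f h) (T : Set (Points F)) :
    Points.ofPt h ⁻¹' (Points.map f '' T) = i.left '' (Points.ofPt fst ⁻¹' T) := by
  ext v
  constructor
  · rintro ⟨x, hxT, hx⟩
    rw [Points.ofPt_eq_map_ofScheme] at hx
    obtain ⟨w', hw1, hw2⟩ := Points.exists_of_isPullback sq x (Points.ofScheme V v) hx
    obtain ⟨w, rfl⟩ := (Points.schemeHomeo W).surjective w'
    refine ⟨w, ?_, ?_⟩
    · change Points.ofPt fst w ∈ T
      rw [Points.ofPt_eq_map_ofScheme]
      change Points.map fst (Points.schemeHomeo W w) ∈ T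
      rw [hw1]; exact hxT
    · rw [Points.map_yon_map_apply] at hw2
      exact (Points.schemeHomeo V).injective hw2
  · rintro ⟨w, hw, rfl⟩
    refine ⟨Points.ofPt fst w, hw, ?_⟩
    rw [Points.map_ofPt, sq.w, Points.ofPt_comp]

end Groth.Agent.Lib.Helper12.AlgSpPoints

namespace Groth.Agent.Lib.Helper12.AlgSpPoints

open AlgSp

variable {S : Scheme.{u}}

theorem Points.isClosed_iff_affine {F : Sp S} (C : Set (Points F)) :
    IsClosed C ↔ ∀ (V : Over S), IsAffine V.left → ∀ h : (yon S).obj V ⟶ F,
      IsClosed (Points.ofPt h ⁻¹' C) := by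
  constructor
  · intro hC V _ h
    exact hC.preimage (Points.continuous_ofPt h)
  · intro H
    rw [← isOpen_compl_iff, Points.isOpen_iff]
    intro V' h'
    rw [Set.preimage_compl, isOpen_compl_iff]
    rw [TopologicalSpace.IsOpenCover.isClosed_iff_coe_preimage (iSup_affineOpens_eq_top V'.left)]
    intro U
    let Uo : Over S := Over.mk ((U : V'.left.Opens).ι ≫ V'.hom)
    let ι : Uo ⟶ V' := Over.homMk (U : V'.left.Opens).ι rfl
    have hUaff : IsAffine Uo.left := U.2
    have := H Uo hUaff ((yon S).map ι ≫ h')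
    have heq : (Points.ofPt ((yon S).map ι ≫ h') ⁻¹' C) =
        (fun u : Uo.left => ι.left u) ⁻¹' (Points.ofPt h' ⁻¹' C) := by
      ext u
      simp only [Set.mem_preimage]
      rw [Points.ofPt_comp]
    rw [heq] at this
    exact this

theorem Points.isClosedMap_of_affine_charts {F G : Sp S} (f : F ⟶ G)
    (H : ∀ (V : Over S), IsAffine V.left → ∀ h : (yon S).obj V ⟶ G,
      ∃ (W : Over S) (i : W ⟶ V) (fst : (yon S).obj W ⟶ F),
        IsPullback fst ((yon S).map i) f h ∧ IsClosedMap i.left) :
    IsClosedMap (Points.map f) := by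
  intro T hT
  rw [Points.isClosed_iff_affine]
  intro V hV h
  obtain ⟨W, i, fst, sq, hi⟩ := H V hV h
  rw [Points.preimage_image_of_isPullback sq]
  exact hi _ (hT.preimage (Points.continuous_ofPt fst))

end Groth.Agent.Lib.Helper12.AlgSpPoints
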