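import Groth.Agent.Lib.Helper12.PerfRj2
import Groth.Agent.Lib.Helper39.DerAdj
import Groth.Agent.Lib.Helper15.MQI
import Groth.Agent.Lib.Helper26.ExtZeroSch
import Mathlib.CategoryTheory.Monad.Adjunction

set_option autoImplicit false
universe u
open CategoryTheory CategoryTheory.Limits AlgebraicGeometry Pretriangulated Opposite

attribute [local instance] HasDerivedCategory.standard

namespace Groth.Agent.Lib.Helper12.Apx

open Groth.Agent.Lib.Helper12 Groth.Agent.Lib.Helper15.MQI

variable {X : Scheme.{u}}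

theorem isPerfect_of_iso {K K' : DCoh.D X} (e : K ≅ K') (hK : DCoh.IsPerfect K) :
    DCoh.IsPerfect K' := by
  intro x
  obtain ⟨V, hxV, hV⟩ := hK x
  exact ⟨V, hxV, fun F ⟨e'⟩ => hV F ⟨e' ≪≫ e.symm⟩⟩

theorem isZero_of_restrict_cover (N : X.Modules) (U W : X.Opens) (hUW : ∀ x : X, x ∈ U ∨ x ∈ W)
    (hU : IsZero ((Scheme.Modules.restrictFunctor U.ι).obj N))
    (hW : IsZero ((Scheme.Modules.restrictFunctor W.ι).obj N)) : IsZero N := by
  apply SuppZ.isZero_of_stalks
  intro x
  have hx : x ∉ CohB1.support N := by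
    rcases hUW x with h | h
    · exact SuppZ.not_mem_support_of_isZero_restrict N U hU x h
    · exact SuppZ.not_mem_support_of_isZero_restrict N W hW x h
  simpa [CohB1.support] using hx

theorem isZero_restrict_HD_of_isLE (K : DCoh.D X) (V : X.Opens) (n i : ℤ) (hi : n < i)
    (h : ((DCoh.restrictD V.ι).obj K).IsLE n) :
    IsZero ((Scheme.Modules.restrictFunctor V.ι).obj (DCoh.HD K i)) :=
  (DerivedCategory.isZero_of_isLE _ n i hi).of_iso
    (Groth.Agent.Lib.Helper62.SerreLoc.mapDerivedCategoryHomologyIso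
      (Scheme.Modules.restrictFunctor V.ι) K i).symm

theorem approx (U : X.Opens) (T : Set X) (hT : IsClosed T) (hTU : T ⊆ (U : Set X))
    (E : DCoh.D X) (m : ℤ)
    (P : DCoh.D (U : Scheme.{u})) (α : P ⟶ (DCoh.restrictD U.ι).obj E) (hP : DCoh.IsPerfect P)
    (hPs : ∀ i : ℤ, CohB1.support (DCoh.HD P i) ⊆ {v : (U : Scheme.{u}) | U.ι.base v ∈ T})
    (hα : IsMQI m α)
    (hsupp : ∀ i : ℤ, m ≤ i → CohB1.support (DCoh.HD E i) ⊆ T) :
    ∃ (P' : DCoh.D X) (α' : P' ⟶ E), DCoh.IsPerfect P' ∧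
      (∀ i : ℤ, CohB1.support (DCoh.HD P' i) ⊆ T) ∧ IsMQI m α' := by
  have hex : PreservesFiniteLimits (CxOX.extZero U.ι) :=
    Groth.Agent.Lib.Helper26.ExtZeroSch.preservesFiniteLimits_extZero U
  have hRp : DCoh.HasRpush U.ι := WKI.hasRpush _
  let adj : CxOX.extZeroD U.ι ⊣ DCoh.restrictD U.ι :=
    Groth.Agent.Lib.Helper39.DerAdj.derAdj (CxOX.extZeroAdj U.ι)
  have hη : IsIso adj.unit := adj.isIso_unit_of_iso (SuppRj.extZeroDRestrictDIso U.ι)
  have hPs' : ∀ i : ℤ, (fun x : (U : Scheme.{u}) => U.ι.base x) '' CohB1.support (DCoh.HD P i) ⊆ T := by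
    intro i x hx
    obtain ⟨y, hy, rfl⟩ := hx
    exact hPs i hy
  have hP's : ∀ i : ℤ, CohB1.support (DCoh.HD ((CxOX.extZeroD U.ι).obj P) i) ⊆ T :=
    fun i => (SuppRj.support_HD_extZeroD_subset U.ι P i).trans (hPs' i)
  refine ⟨(CxOX.extZeroD U.ι).obj P, (adj.homEquiv P E).symm α, ?_, hP's, ?_⟩
  · obtain ⟨e⟩ := SuppRj.nonempty_extZeroD_iso_Rpush U T hT hTU P hPs'
    refine isPerfect_of_iso e.symm ?_
    refine PerfRj.isPerfect_Rpush U P hP {v : (U : Scheme.{u}) | U.ι.base v ∈ T} ?_ hPs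
    have himg : (fun x : (U : Scheme.{u}) => U.ι.base x) '' {v : (U : Scheme.{u}) | U.ι.base v ∈ T} = T := by
      ext x
      constructor
      · rintro ⟨y, hy, rfl⟩
        exact hy
      · intro hx
        exact ⟨⟨x, hTU hx⟩, hx, rfl⟩
    rw [himg]
    exact hT
  · set α' := (adj.homEquiv P E).symm α with hα'
    obtain ⟨C', g, h, hTri⟩ := distinguished_cocone_triangle α'
    refine (isMQI_iff_of_distTriang m _ hTri).2 ?_
    change C'.IsLE (m - 1)
    rw [DerivedCategory.isLE_iff]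
    intro i hi
    let W : X.Opens := ⟨Tᶜ, hT.isOpen_compl⟩
    refine isZero_of_restrict_cover _ U W ?_ ?_ ?_
    · intro x
      by_cases hx : x ∈ T
      · exact Or.inl (hTU hx)
      · exact Or.inr hx
    · have hαeq : α = adj.unit.app P ≫ (DCoh.restrictD U.ι).map α' := by
        have h0 := Adjunction.homEquiv_unit adj P E α'
        rw [← h0, hα', Equiv.apply_symm_apply]
      have hmqi : IsMQI m ((DCoh.restrictD U.ι).map α') := by
        have h1 : (DCoh.restrictD U.ι).map α' = inv (adj.unit.app P) ≫ α := by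
          rw [hαeq, IsIso.inv_hom_id_assoc]
        rw [h1]
        exact IsMQI.comp (IsMQI.of_isIso m _) hα
      have hT' := (DCoh.restrictD U.ι).map_distinguished _ hTri
      have hle := (isMQI_iff_of_distTriang m _ hT').1 hmqi
      exact isZero_restrict_HD_of_isLE C' U (m - 1) i hi hle
    · have hT' := (DCoh.restrictD W.ι).map_distinguished _ hTri
      have hPW : IsZero ((DCoh.restrictD W.ι).obj ((CxOX.extZeroD U.ι).obj P)) :=
        SuppZ.isZero_restrictD_of_support _ W (fun i x hx hx' => hx (hP's i hx'))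
      have hiso : IsIso ((DCoh.restrictD W.ι).map g) :=
        (Triangle.isZero₁_iff_isIso₂ _ hT').1 hPW
      have e1 : (DCoh.restrictD W.ι).obj E ≅ (DCoh.restrictD W.ι).obj C' :=
        asIso ((DCoh.restrictD W.ι).map g)
      have hEW : IsZero ((Scheme.Modules.restrictFunctor W.ι).obj (DCoh.HD E i)) :=
        SuppZ.isZero_restrict_of_support _ W (fun x hx hx' => hx (hsupp i (by lia) hx'))
      have h2 : IsZero (DCoh.HD ((DCoh.restrictD W.ι).obj E) i) :=
        hEW.of_iso (Groth.Agent.Lib.Helper62.SerreLoc.mapDerivedCategoryHomologyIso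
          (Scheme.Modules.restrictFunctor W.ι) E i)
      have h3 : IsZero (DCoh.HD ((DCoh.restrictD W.ι).obj C') i) :=
        h2.of_iso ((DerivedCategory.homologyFunctor _ i).mapIso e1).symm
      exact h3.of_iso (Groth.Agent.Lib.Helper62.SerreLoc.mapDerivedCategoryHomologyIso
        (Scheme.Modules.restrictFunctor W.ι) C' i).symm

end Groth.Agent.Lib.Helper12.Apx
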