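import Groth.Agent.Lib.Helper89.SigmaExact

set_option autoImplicit false
universe w w' v u
open CategoryTheory CategoryTheory.Limits

namespace Groth.Agent.Lib.Helper12.DSigma

open DerivedCategory Helper89.SigmaExact

variable {A : Type u} [Category.{v} A] [Abelian A] [EnoughInjectives A]
  [HasDerivedCategory.{w'} A] {J : Type w} [HasCoproductsOfShape J A]

noncomputable def sigmaCxHomologyIso (F : J → CochainComplex A ℤ) (n : ℤ) :
    (sigmaCx F).homology n ≅ ∐ fun j => (F j).homology n :=
  (sigmaLHD (fun j => (F j).sc n) (fun j => ((F j).sc n).leftHomologyData)).homologyIso ≪≫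
    Sigma.mapIso fun j => ((F j).sc n).leftHomologyIso

noncomputable def homologyQSigmaIso (F : J → CochainComplex A ℤ) (n : ℤ) :
    (homologyFunctor A n).obj (Q.obj (sigmaCx F)) ≅
      ∐ fun j => (homologyFunctor A n).obj (Q.obj (F j)) :=
  (homologyFunctorFactors A n).app (sigmaCx F) ≪≫ sigmaCxHomologyIso F n ≪≫
    Sigma.mapIso fun j => ((homologyFunctorFactors A n).app (F j)).symm

noncomputable def sigmaIsoQ (K : J → DerivedCategory A) [HasCoproduct K] :
    ∐ K ≅ Q.obj (sigmaCx fun j => Q.objPreimage (K j)) :=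
  haveI : HasCoproductsOfShape J (DerivedCategory A) := hasCoproductsOfShape_derivedCategory
  (Sigma.mapIso fun j => (Q.objObjPreimageIso (K j)).symm) ≪≫
    (coproductIsCoproduct _).coconePointUniqueUpToIso
      (isColimitCofanQ fun j => Q.objPreimage (K j))

noncomputable def homologySigmaIso (K : J → DerivedCategory A) [HasCoproduct K] (n : ℤ) :
    (homologyFunctor A n).obj (∐ K) ≅ ∐ fun j => (homologyFunctor A n).obj (K j) :=
  (homologyFunctor A n).mapIso (sigmaIsoQ K) ≪≫ homologyQSigmaIso _ n ≪≫
    Sigma.mapIso fun j => (homologyFunctor A n).mapIso (Q.objObjPreimageIso (K j))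

end Groth.Agent.Lib.Helper12.DSigma
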