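import Groth.Agent.Lib.Helper12.DSigma

set_option autoImplicit false
universe w w' v u
open CategoryTheory CategoryTheory.Limits

namespace Groth.Agent.Lib.Helper12.DSigma

open DerivedCategory Helper89.SigmaExact

section Cx

variable {A : Type u} [Category.{v} A] [Abelian A] [EnoughInjectives A] {J : Type w}
  [HasCoproductsOfShape J A] {ι : Type*} {c : ComplexShape ι}

noncomputable def isColimitSigmaCx (X : J → HomologicalComplex A c) :
    IsColimit (Cofan.mk (sigmaCx X) (sigmaCxι X)) :=
  Cofan.IsColimit.mk _ (fun s => sigmaCxDesc X s.inj) (fun s j => sigmaCxι_desc X s.inj j)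
    (fun s m hm => by
      refine HomologicalComplex.hom_ext _ _ (fun n => ?_)
      refine Sigma.hom_ext _ _ (fun j => ?_)
      have h1 := congrArg (fun f => f.f n) (hm j)
      have h2 := congrArg (fun f => f.f n) (sigmaCxι_desc X s.inj j)
      exact h1.trans h2.symm)

end Cx

variable {A : Type u} [Category.{v} A] [Abelian A] [EnoughInjectives A]
  [HasDerivedCategory.{w'} A] {J : Type w} [HasCoproductsOfShape J A]

noncomputable def isColimitCofanQOfIsColimit (X : J → CochainComplex A ℤ) (c : Cofan X)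
    (hc : IsColimit c) :
    IsColimit (Cofan.mk (Q.obj c.pt) (fun j => (Q : _ ⥤ DerivedCategory A).map (c.inj j))) := by
  let e : sigmaCx X ≅ c.pt := (isColimitSigmaCx X).coconePointUniqueUpToIso hc
  have he : ∀ j, sigmaCxι X j ≫ e.hom = c.inj j := fun j =>
    (isColimitSigmaCx X).comp_coconePointUniqueUpToIso_hom hc ⟨j⟩
  refine IsColimit.ofIsoColimit (isColimitCofanQ X) (Cofan.ext (Q.mapIso e) (fun j => ?_))
  change Q.map (sigmaCxι X j) ≫ Q.map e.hom = Q.map (c.inj j)
  rw [← Q.map_comp, he]

end Groth.Agent.Lib.Helper12.DSigma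

namespace Groth.Agent.Lib.Helper12.DSigma

universe v₂ u₂ w₂

noncomputable def isColimitCofanOfIso {T : Type u₂} [Category.{v₂} T] {J : Type w₂} {X Y : J → T}
    (a : ∀ j, X j ≅ Y j) (c : Cofan X) (d : Cofan Y) (hd : IsColimit d) (b : c.pt ≅ d.pt)
    (hb : ∀ j, c.inj j ≫ b.hom = (a j).hom ≫ d.inj j) : IsColimit c :=
  Cofan.IsColimit.mk c
    (fun s => b.hom ≫ Cofan.IsColimit.desc hd (fun j => (a j).inv ≫ s.inj j))
    (fun s j => by
      rw [← Category.assoc, hb, Category.assoc, Cofan.IsColimit.fac, Iso.hom_inv_id_assoc])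
    (fun s m hm => by
      rw [← cancel_epi b.inv, Iso.inv_hom_id_assoc]
      refine Cofan.IsColimit.hom_ext hd _ _ (fun j => ?_)
      rw [Cofan.IsColimit.fac, ← cancel_epi (a j).hom, Iso.hom_inv_id_assoc, ← hm j,
        ← Category.assoc, ← hb, Category.assoc, Iso.hom_inv_id_assoc])

end Groth.Agent.Lib.Helper12.DSigma
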