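import Groth.Agent.Lib.Helper12.SuppRj2
import Mathlib.Algebra.Homology.CommSq

set_option autoImplicit false
universe u
open CategoryTheory CategoryTheory.Limits AlgebraicGeometry

namespace Groth.Agent.Lib.Helper12.EZMV

open Groth.Agent.Lib.Helper12

section Abstract

variable {𝒜 : Type*} [Category 𝒜] [Abelian 𝒜] {A B₁ B₂ C : 𝒜}
  {α₁ : A ⟶ B₁} {α₂ : A ⟶ B₂} {β₁ : B₁ ⟶ C} {β₂ : B₂ ⟶ C}

theorem shortExact_of_isPullback_of_epi (h : IsPullback α₁ α₂ β₁ β₂)
    (hepi : Epi (biprod.desc β₁ (-β₂))) : h.toCommSq.shortComplex'.ShortExact := by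
  have hm : Mono h.toCommSq.shortComplex'.f := h.mono_shortComplex'_f
  have he : Epi h.toCommSq.shortComplex'.g := hepi
  exact ⟨ShortComplex.exact_of_f_is_kernel _ h.isLimitKernelFork⟩

theorem shortExact_of_vert (sq : CommSq α₁ α₂ β₁ β₂) [IsIso α₂] [IsIso β₁] :
    sq.shortComplex'.ShortExact := by
  have h : IsPullback α₁ α₂ β₁ β₂ := IsPullback.of_vert_isIso sq
  exact shortExact_of_isPullback_of_epi h (epi_of_epi_fac (biprod.inl_desc β₁ (-β₂)))

theorem shortExact_of_horiz (sq : CommSq α₁ α₂ β₁ β₂) [IsIso α₁] [IsIso β₂] :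
    sq.shortComplex'.ShortExact := by
  have h : IsPullback α₁ α₂ β₁ β₂ := IsPullback.of_horiz_isIso sq
  have : IsIso (-β₂) := GlueD.isIso_neg β₂
  exact shortExact_of_isPullback_of_epi h (epi_of_epi_fac (biprod.inr_desc β₁ (-β₂)))

end Abstract

section Functor

variable {𝒞 𝒜 : Type*} [Category 𝒞] [Abelian 𝒞] [Category 𝒜] [Abelian 𝒜]
  (Φ : 𝒞 ⥤ 𝒜) [Φ.Additive] {A B₁ B₂ C : 𝒞}
  {α₁ : A ⟶ B₁} {α₂ : A ⟶ B₂} {β₁ : B₁ ⟶ C} {β₂ : B₂ ⟶ C}

attribute [local instance] preservesBinaryBiproducts_of_preservesBiproducts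

noncomputable def mapShortComplexIso (sq : CommSq α₁ α₂ β₁ β₂) :
    sq.shortComplex'.map Φ ≅ (sq.map Φ).shortComplex' :=
  ShortComplex.isoMk (Iso.refl _) (Φ.mapBiprod B₁ B₂) (Iso.refl _)
    (by
      change 𝟙 (Φ.obj A) ≫ biprod.lift (Φ.map α₁) (Φ.map α₂) =
        Φ.map (biprod.lift α₁ α₂) ≫ (Φ.mapBiprod B₁ B₂).hom
      rw [Category.id_comp, biprod.map_lift_mapBiprod])
    (by
      change (Φ.mapBiprod B₁ B₂).hom ≫ biprod.desc (Φ.map β₁) (-(Φ.map β₂)) =
        Φ.map (biprod.desc β₁ (-β₂)) ≫ 𝟙 (Φ.obj C)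
      rw [Category.comp_id, ← Φ.map_neg, biprod.mapBiprod_hom_desc])

theorem map_shortExact_of_vert (sq : CommSq α₁ α₂ β₁ β₂) [IsIso (Φ.map α₂)] [IsIso (Φ.map β₁)] :
    (sq.shortComplex'.map Φ).ShortExact :=
  ShortComplex.shortExact_of_iso (mapShortComplexIso Φ sq).symm (shortExact_of_vert (sq.map Φ))

theorem map_shortExact_of_horiz (sq : CommSq α₁ α₂ β₁ β₂) [IsIso (Φ.map α₁)] [IsIso (Φ.map β₂)] :
    (sq.shortComplex'.map Φ).ShortExact :=
  ShortComplex.shortExact_of_iso (mapShortComplexIso Φ sq).symm (shortExact_of_horiz (sq.map Φ))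

end Functor

section Stalk

variable {X : Scheme.{u}}

theorem shortExact_of_stalks (S : ShortComplex X.Modules)
    (h : ∀ x : X, (S.map (DerSch.stalkFunctor X x)).ShortExact) : S.ShortExact := by
  have hex : S.Exact := by
    rw [StalkExact.exact_iff_stalk]
    exact fun x => (h x).exact
  have hm : Mono S.f := by
    let S' : ShortComplex X.Modules := ShortComplex.mk (0 : S.X₁ ⟶ S.X₁) S.f zero_comp
    have hS' : S'.Exact := by
      rw [StalkExact.exact_iff_stalk]
      intro x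
      exact ((S'.map (DerSch.stalkFunctor X x)).exact_iff_mono
        ((DerSch.stalkFunctor X x).map_zero _ _)).2 (h x).mono_f
    exact (S'.exact_iff_mono rfl).1 hS'
  have he : Epi S.g := by
    let S' : ShortComplex X.Modules := ShortComplex.mk S.g (0 : S.X₃ ⟶ S.X₃) comp_zero
    have hS' : S'.Exact := by
      rw [StalkExact.exact_iff_stalk]
      intro x
      exact ((S'.map (DerSch.stalkFunctor X x)).exact_iff_epi
        ((DerSch.stalkFunctor X x).map_zero _ _)).2 (h x).epi_g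
    exact (S'.exact_iff_epi rfl).1 hS'
  exact ⟨hex⟩

theorem isZero_stalk_of_isZero_restrict (N : X.Modules) (W : X.Opens)
    (hN : IsZero ((Scheme.Modules.restrictFunctor W.ι).obj N)) (x : X) (hx : x ∈ W) :
    IsZero ((DerSch.stalkFunctor X x).obj N) := by
  have h := SuppZ.not_mem_support_of_isZero_restrict N W hN x hx
  have h2 : Subsingleton (N.presheaf.stalk x) := by
    simpa [CohB1.support] using h
  have h3 : Subsingleton ((DerSch.stalkFunctor X x).obj N) := h2
  exact ModuleCat.isZero_of_subsingleton _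

theorem isIso_stalk_map_of_isIso_restrict {M N : X.Modules} (f : M ⟶ N) (W : X.Opens)
    (hf : IsIso ((Scheme.Modules.restrictFunctor W.ι).map f)) (x : X) (hx : x ∈ W) :
    IsIso ((DerSch.stalkFunctor X x).map f) := by
  have hk : IsZero ((Scheme.Modules.restrictFunctor W.ι).obj (kernel f)) :=
    (isZero_kernel_of_mono ((Scheme.Modules.restrictFunctor W.ι).map f)).of_iso
      (PreservesKernel.iso _ f)
  have hc : IsZero ((Scheme.Modules.restrictFunctor W.ι).obj (cokernel f)) :=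
    (isZero_cokernel_of_epi ((Scheme.Modules.restrictFunctor W.ι).map f)).of_iso
      (PreservesCokernel.iso _ f)
  have hk' : IsZero (kernel ((DerSch.stalkFunctor X x).map f)) :=
    (isZero_stalk_of_isZero_restrict _ W hk x hx).of_iso (PreservesKernel.iso _ f).symm
  have hc' : IsZero (cokernel ((DerSch.stalkFunctor X x).map f)) :=
    (isZero_stalk_of_isZero_restrict _ W hc x hx).of_iso (PreservesCokernel.iso _ f).symm
  have := Preadditive.mono_of_isZero_kernel _ hk'
  have := Preadditive.epi_of_isZero_cokernel _ hc'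
  exact isIso_of_mono_of_epi _

end Stalk

end Groth.Agent.Lib.Helper12.EZMV
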