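import Groth.Agent.Lib.Helper26.FunctorMV
import Mathlib.Algebra.Homology.DerivedCategory.ShortExact

set_option autoImplicit false
universe w v u v' u'

open CategoryTheory Category Limits Pretriangulated

namespace Groth.Agent.Lib.Helper12.MVTri

open Groth.Agent.Lib.Helper26.FunctorMV

variable {C : Type u} [Category.{v} C] [Abelian C]
variable {D : Type u'} [Category.{v'} D] [Abelian D]
variable {G₀ G₁ G₂ G₃ : C ⥤ D} [G₀.Additive] [G₁.Additive] [G₂.Additive] [G₃.Additive]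
variable {a₁ : G₀ ⟶ G₁} {a₂ : G₀ ⟶ G₂} {b₁ : G₁ ⟶ G₃} {b₂ : G₂ ⟶ G₃}

section cx

variable (K : CochainComplex C ℤ)

noncomputable abbrev cxMap {F G : C ⥤ D} [F.Additive] [G.Additive] (α : F ⟶ G) :
    (F.mapHomologicalComplex (ComplexShape.up ℤ)).obj K ⟶
      (G.mapHomologicalComplex (ComplexShape.up ℤ)).obj K :=
  (NatTrans.mapHomologicalComplex α (ComplexShape.up ℤ)).app K

lemma cx_zero (h : MVExact a₁ a₂ b₁ b₂) :
    biprod.lift (cxMap K a₁) (cxMap K a₂) ≫ biprod.desc (cxMap K b₁) (-(cxMap K b₂)) = 0 := by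
  rw [biprod.lift_desc, Preadditive.comp_neg]
  ext i
  have := congrArg (fun t => t.app (K.X i)) h.comm
  simp only [NatTrans.comp_app] at this
  simp only [HomologicalComplex.add_f_apply, HomologicalComplex.neg_f_apply,
    HomologicalComplex.comp_f, NatTrans.mapHomologicalComplex_app_f, HomologicalComplex.zero_f]
  have key : ∀ (x y : G₀.obj (K.X i) ⟶ G₃.obj (K.X i)), x = y → x + -y = 0 :=
    fun x y hxy => by rw [hxy, add_neg_cancel]
  exact key _ _ this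

noncomputable abbrev cx (h : MVExact a₁ a₂ b₁ b₂) : ShortComplex (CochainComplex D ℤ) :=
  ShortComplex.mk _ _ (cx_zero K h)

omit [G₃.Additive] in
lemma comm₁₂_aux (i : ℤ) :
    (biprod.lift (cxMap K a₁) (cxMap K a₂)).f i ≫ (HomologicalComplex.biprodXIso _ _ i).hom =
      biprod.lift (a₁.app (K.X i)) (a₂.app (K.X i)) := by
  apply biprod.hom_ext
  · rw [assoc, HomologicalComplex.biprodXIso_hom_fst, HomologicalComplex.biprod_lift_fst_f]
    erw [biprod.lift_fst]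
    rfl
  · rw [assoc, HomologicalComplex.biprodXIso_hom_snd, HomologicalComplex.biprod_lift_snd_f]
    erw [biprod.lift_snd]
    rfl

omit [G₀.Additive] in
lemma comm₂₃_aux (i : ℤ) :
    (HomologicalComplex.biprodXIso _ _ i).inv ≫ (biprod.desc (cxMap K b₁) (-(cxMap K b₂))).f i =
      biprod.desc (b₁.app (K.X i)) (-(b₂.app (K.X i))) := by
  apply biprod.hom_ext'
  · rw [HomologicalComplex.inl_biprodXIso_inv_assoc, HomologicalComplex.biprod_inl_desc_f]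
    erw [biprod.inl_desc]
    rfl
  · rw [HomologicalComplex.inr_biprodXIso_inv_assoc, HomologicalComplex.biprod_inr_desc_f]
    erw [biprod.inr_desc]
    rfl

noncomputable def cxEvalIso (h : MVExact a₁ a₂ b₁ b₂) (i : ℤ) :
    (cx K h).map (HomologicalComplex.eval D (ComplexShape.up ℤ) i) ≅
      ShortComplex.mk _ _ (lift_desc_zero a₁ a₂ b₁ b₂ h.comm (K.X i)) :=
  ShortComplex.isoMk (Iso.refl _) (HomologicalComplex.biprodXIso _ _ i) (Iso.refl _)
    ((id_comp _).trans (comm₁₂_aux K i).symm)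
    (by
      have h1 := comm₂₃_aux (b₁ := b₁) (b₂ := b₂) K i
      exact ((Iso.inv_comp_eq _).1 h1).symm.trans (comp_id _).symm)

lemma cx_shortExact (h : MVExact a₁ a₂ b₁ b₂) (hK : ∀ i, Injective (K.X i)) :
    (cx K h).ShortExact :=
  HomologicalComplex.shortExact_of_degreewise_shortExact _ (fun i =>
    ShortComplex.shortExact_of_iso (cxEvalIso K h i).symm (h.shortExact (K.X i)))

end cx

section tri

theorem exists_triangle_of_iso {T : Type*} [Category T] [HasZeroObject T] [HasShift T ℤ]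
    [Preadditive T] [∀ (n : ℤ), (shiftFunctor T n).Additive] [Pretriangulated T]
    {X₁ X₂ X₃ A₁ A₂ A₃ : T} (f₁ : X₁ ⟶ X₂) (f₂ : X₂ ⟶ X₃) (f₃ : X₃ ⟶ X₁⟦(1 : ℤ)⟧)
    (h : Triangle.mk f₁ f₂ f₃ ∈ distTriang T) (e₁ : A₁ ≅ X₁) (e₂ : A₂ ≅ X₂) (e₃ : A₃ ≅ X₃) :
    ∃ (a : A₁ ⟶ A₂) (b : A₂ ⟶ A₃) (c : A₃ ⟶ A₁⟦(1 : ℤ)⟧),
      Triangle.mk a b c ∈ distTriang T := by
  refine ⟨e₁.hom ≫ f₁ ≫ e₂.inv, e₂.hom ≫ f₂ ≫ e₃.inv, e₃.hom ≫ f₃ ≫ e₁.inv⟦(1 : ℤ)⟧', ?_⟩
  refine isomorphic_distinguished _ h _ (Triangle.isoMk _ _ e₁ e₂ e₃ ?_ ?_ ?_)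
  · change (e₁.hom ≫ f₁ ≫ e₂.inv) ≫ e₂.hom = e₁.hom ≫ f₁
    rw [Category.assoc, Category.assoc, Iso.inv_hom_id, Category.comp_id]
  · change (e₂.hom ≫ f₂ ≫ e₃.inv) ≫ e₃.hom = e₂.hom ≫ f₂
    rw [Category.assoc, Category.assoc, Iso.inv_hom_id, Category.comp_id]
  · change (e₃.hom ≫ f₃ ≫ e₁.inv⟦(1 : ℤ)⟧') ≫ e₁.hom⟦(1 : ℤ)⟧' = e₃.hom ≫ f₃
    rw [Category.assoc, Category.assoc, ← Functor.map_comp, Iso.inv_hom_id,
      CategoryTheory.Functor.map_id, Category.comp_id]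

variable [HasDerivedCategory.{w} D]

theorem exists_triangle (h : MVExact a₁ a₂ b₁ b₂) (K : CochainComplex C ℤ)
    (hK : ∀ i, Injective (K.X i)) {A₀ A₁ A₂ A₃ : DerivedCategory D}
    (e₀ : A₀ ≅ DerivedCategory.Q.obj ((G₀.mapHomologicalComplex (ComplexShape.up ℤ)).obj K))
    (e₁ : A₁ ≅ DerivedCategory.Q.obj ((G₁.mapHomologicalComplex (ComplexShape.up ℤ)).obj K))
    (e₂ : A₂ ≅ DerivedCategory.Q.obj ((G₂.mapHomologicalComplex (ComplexShape.up ℤ)).obj K))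
    (e₃ : A₃ ≅ DerivedCategory.Q.obj ((G₃.mapHomologicalComplex (ComplexShape.up ℤ)).obj K)) :
    ∃ (a : A₀ ⟶ A₁ ⊞ A₂) (b : A₁ ⊞ A₂ ⟶ A₃) (c : A₃ ⟶ A₀⟦(1 : ℤ)⟧),
      Triangle.mk a b c ∈ distTriang (DerivedCategory D) := by
  have hS := cx_shortExact K h hK
  have hT : Triangle.mk (DerivedCategory.Q.map (cx K h).f) (DerivedCategory.Q.map (cx K h).g)
      (DerivedCategory.triangleOfSESδ hS) ∈ distTriang (DerivedCategory D) :=
    DerivedCategory.triangleOfSES_distinguished hS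
  have : PreservesBinaryBiproducts (DerivedCategory.Q : CochainComplex D ℤ ⥤ DerivedCategory D) :=
    preservesBinaryBiproducts_of_preservesBiproducts _
  exact exists_triangle_of_iso _ _ _ hT e₀
    (biprod.mapIso e₁ e₂ ≪≫ (DerivedCategory.Q.mapBiprod _ _).symm) e₃

end tri

end Groth.Agent.Lib.Helper12.MVTri
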