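import Groth.Agent.Lib.Helper12.EZMV1
import Groth.Agent.Lib.Helper12.MVTri

set_option autoImplicit false
universe u
open CategoryTheory CategoryTheory.Limits AlgebraicGeometry

namespace Groth.Agent.Lib.Helper12.EZMV

open Groth.Agent.Lib.Helper12

variable {X : Scheme.{u}}

noncomputable def P (W : X.Opens) : X.Modules ⥤ X.Modules :=
  Scheme.Modules.restrictFunctor W.ι ⋙ CxOX.extZero W.ι

instance (W : X.Opens) : (P W).Additive := by
  unfold P; infer_instance

noncomputable def ε (W : X.Opens) : P W ⟶ 𝟭 X.Modules := (CxOX.extZeroAdj W.ι).counit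

theorem isIso_restrict_map_ε (W : X.Opens) (M : X.Modules) :
    IsIso ((Scheme.Modules.restrictFunctor W.ι).map ((ε W).app M)) := by
  have h := (CxOX.extZeroAdj W.ι).right_triangle_components M
  have h0 : IsIso (CxOX.extZeroAdj W.ι).unit := SuppRj.isIso_extZeroAdj_unit W.ι
  have h1 : IsIso ((CxOX.extZeroAdj W.ι).unit.app ((Scheme.Modules.restrictFunctor W.ι).obj M)) :=
    NatIso.isIso_app_of_isIso _ _
  have h2 : IsIso (𝟙 ((Scheme.Modules.restrictFunctor W.ι).obj M)) := inferInstance
  exact @IsIso.of_isIso_fac_left _ _ _ _ _ _ _ _ h1 h2 h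

noncomputable def restrictCompIso {W' W : X.Opens} (h : W' ≤ W) :
    Scheme.Modules.restrictFunctor W.ι ⋙ Scheme.Modules.restrictFunctor (X.homOfLE h) ≅
      Scheme.Modules.restrictFunctor W'.ι :=
  (Scheme.Modules.restrictFunctorComp (X.homOfLE h) W.ι).symm ≪≫
    Scheme.Modules.restrictFunctorCongr (X.homOfLE_ι h)

theorem isIso_restrict_map_ε_of_le {W' W : X.Opens} (h : W' ≤ W) (M : X.Modules) :
    IsIso ((Scheme.Modules.restrictFunctor W'.ι).map ((ε W).app M)) := by
  rw [← NatIso.isIso_map_iff (restrictCompIso h)]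
  have := isIso_restrict_map_ε W M
  change IsIso ((Scheme.Modules.restrictFunctor (X.homOfLE h)).map
    ((Scheme.Modules.restrictFunctor W.ι).map ((ε W).app M)))
  infer_instance

theorem isIso_P_map_ε {W' W : X.Opens} (h : W' ≤ W) (M : X.Modules) :
    IsIso ((P W').map ((ε W).app M)) := by
  have := isIso_restrict_map_ε_of_le h M
  change IsIso ((CxOX.extZero W'.ι).map
    ((Scheme.Modules.restrictFunctor W'.ι).map ((ε W).app M)))
  infer_instance

theorem isIso_whiskerRight_ε {W' W : X.Opens} (h : W' ≤ W) :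
    IsIso (Functor.whiskerRight (ε W) (P W')) := by
  have : ∀ M, IsIso ((Functor.whiskerRight (ε W) (P W')).app M) := fun M => isIso_P_map_ε h M
  exact NatIso.isIso_of_isIso_app _

noncomputable def trans {W' W : X.Opens} (h : W' ≤ W) : P W' ⟶ P W :=
  haveI := isIso_whiskerRight_ε h
  (Functor.leftUnitor (P W')).inv ≫ inv (Functor.whiskerRight (ε W) (P W')) ≫
    Functor.whiskerLeft (P W) (ε W') ≫ (Functor.rightUnitor (P W)).hom

theorem trans_app {W' W : X.Opens} (h : W' ≤ W) (M : X.Modules) :
    haveI := isIso_P_map_ε h M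
    (trans h).app M = inv ((P W').map ((ε W).app M)) ≫ (ε W').app ((P W).obj M) := by
  have := isIso_whiskerRight_ε h
  have := isIso_P_map_ε h M
  simp only [trans, NatTrans.comp_app, Functor.leftUnitor_inv_app, Functor.rightUnitor_hom_app,
    Functor.whiskerLeft_app, NatIso.isIso_inv_app, Functor.whiskerRight_app]
  erw [Category.id_comp, Category.comp_id]

theorem trans_ε {W' W : X.Opens} (h : W' ≤ W) : trans h ≫ ε W = ε W' := by
  apply NatTrans.ext
  funext M
  have := isIso_P_map_ε h M
  have h3 := (ε W').naturality ((ε W).app M)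
  simp only [Functor.id_obj, Functor.id_map] at h3
  rw [NatTrans.comp_app, trans_app, Category.assoc, IsIso.inv_comp_eq]
  exact h3.symm

theorem isIso_stalk_ε (W : X.Opens) (M : X.Modules) (x : X) (hx : x ∈ W) :
    IsIso ((DerSch.stalkFunctor X x).map ((ε W).app M)) :=
  isIso_stalk_map_of_isIso_restrict _ W (isIso_restrict_map_ε W M) x hx

theorem isZero_stalk_P (W : X.Opens) (M : X.Modules) (x : X) (hx : x ∉ W) :
    IsZero ((DerSch.stalkFunctor X x).obj ((P W).obj M)) := by
  have h1 : Subsingleton (((CxOX.extZero W.ι).obj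
      ((Scheme.Modules.restrictFunctor W.ι).obj M)).presheaf.stalk x) :=
    SuppRj.subsingleton_stalk_extZero_of_not_mem W.ι _ x (by
      rintro ⟨y, rfl⟩
      exact hx y.2)
  have h2 : Subsingleton ((DerSch.stalkFunctor X x).obj ((P W).obj M)) := h1
  exact ModuleCat.isZero_of_subsingleton _

theorem isIso_stalk_trans {W' W : X.Opens} (h : W' ≤ W) (M : X.Modules) (x : X)
    (hx : x ∈ W' ∨ x ∉ W) :
    IsIso ((DerSch.stalkFunctor X x).map ((trans h).app M)) := by
  rcases hx with hx | hx
  · have h1 := isIso_stalk_ε W M x (h hx)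
    have h2 := isIso_stalk_ε W' M x hx
    have h3 : (DerSch.stalkFunctor X x).map ((trans h).app M) ≫
        (DerSch.stalkFunctor X x).map ((ε W).app M) =
        (DerSch.stalkFunctor X x).map ((ε W').app M) := by
      rw [← Functor.map_comp, ← NatTrans.comp_app, trans_ε]
    exact @IsIso.of_isIso_fac_right _ _ _ _ _ _ _ _ h1 h2 h3
  · have hs := isZero_stalk_P W' M x (fun h' => hx (h h'))
    have ht := isZero_stalk_P W M x hx
    exact ⟨⟨0, hs.eq_of_src _ _, ht.eq_of_src _ _⟩⟩

theorem mvExact (U V : X.Opens) (hUV : U ⊔ V = ⊤) :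
    Groth.Agent.Lib.Helper26.FunctorMV.MVExact
      (trans (inf_le_left : U ⊓ V ≤ U)) (trans (inf_le_right : U ⊓ V ≤ V)) (ε U) (ε V) where
  comm := by rw [trans_ε, trans_ε]
  shortExact I _ := by
    have sq : CommSq ((trans (inf_le_left : U ⊓ V ≤ U)).app I)
        ((trans (inf_le_right : U ⊓ V ≤ V)).app I) ((ε U).app I) ((ε V).app I) :=
      ⟨by rw [← NatTrans.comp_app, ← NatTrans.comp_app, trans_ε, trans_ε]⟩
    change sq.shortComplex'.ShortExact
    apply shortExact_of_stalks
    intro x
    have hx : x ∈ U ∨ x ∈ V := by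
      have : x ∈ U ⊔ V := by rw [hUV]; trivial
      exact this
    rcases hx with hx | hx
    · have h1 : IsIso ((DerSch.stalkFunctor X x).map
          ((trans (inf_le_right : U ⊓ V ≤ V)).app I)) := by
        apply isIso_stalk_trans
        by_cases hV : x ∈ V
        · exact Or.inl ⟨hx, hV⟩
        · exact Or.inr hV
      have h2 := isIso_stalk_ε U I x hx
      exact map_shortExact_of_vert _ sq
    · have h1 : IsIso ((DerSch.stalkFunctor X x).map
          ((trans (inf_le_left : U ⊓ V ≤ U)).app I)) := by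
        apply isIso_stalk_trans
        by_cases hU : x ∈ U
        · exact Or.inl ⟨hU, hx⟩
        · exact Or.inr hU
      have h2 := isIso_stalk_ε V I x hx
      exact map_shortExact_of_horiz _ sq

end Groth.Agent.Lib.Helper12.EZMV
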