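import Groth.Agent.Lib.Helper12.MVTri
import Groth.Agent.Lib.Helper12.RDerSch
import Groth.Agent.Lib.Helper26.ModMV
import Groth.Agent.Lib.Helper13.KInjMain

set_option autoImplicit false
universe u
open CategoryTheory CategoryTheory.Limits AlgebraicGeometry Pretriangulated

attribute [local instance] HasDerivedCategory.standard

namespace Groth.Agent.Lib.Helper12.MVSch

open Groth.Agent.Lib.Helper12 Groth.Agent.Lib.Helper12.RDerSch
open Groth.Agent.Lib.Helper26.ModMV Groth.Agent.Lib.Helper26.FunctorMV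

section General

universe w v v' u₁ u'

variable {C : Type u₁} [Category.{v} C] [Abelian C] [IsGrothendieckAbelian.{v} C]
  [HasDerivedCategory.{w} C]

noncomputable def rightDerivedQIso {H : Type u'} [Category.{v'} H]
    (G : HomotopyCategory C (ComplexShape.up ℤ) ⥤ H)
    (RG : DerivedCategory C ⥤ H) (α : G ⟶ DerivedCategory.Qh ⋙ RG)
    [RG.IsRightDerivedFunctor α (HomotopyCategory.quasiIso C (ComplexShape.up ℤ))]
    (J : CochainComplex C ℤ) [J.IsKInjective] :
    RG.obj (DerivedCategory.Q.obj J) ≅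
      G.obj ((HomotopyCategory.quotient C (ComplexShape.up ℤ)).obj J) :=
  haveI := Groth.Agent.Lib.Helper25.KInjDerived.isIso_unit_homotopyCategory G
    DerivedCategory.Qh RG α J
  RG.mapIso ((DerivedCategory.quotientCompQhIso C).app J).symm ≪≫
    (asIso (α.app ((HomotopyCategory.quotient C (ComplexShape.up ℤ)).obj J))).symm

theorem exists_extProp_model (E : DerivedCategory C) :
    ∃ (I : CochainComplex C ℤ), I.IsKInjective ∧ (∀ n, Injective (I.X n)) ∧
      Nonempty (E ≅ DerivedCategory.Q.obj I) := by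
  obtain ⟨I, f, h1, h2, -, h4⟩ :=
    Groth.Agent.Lib.Helper13.KInjMain.exists_kInjective_resolution (DerivedCategory.Q.objPreimage E)
  have : IsIso (DerivedCategory.Q.map f) := by
    rw [DerivedCategory.isIso_Q_map_iff_quasiIso]; exact h2
  exact ⟨I, h1, fun n => Groth.Agent.Lib.Helper13.KInjBasic.injective_of_extProp h4 n,
    ⟨(DerivedCategory.Q.objObjPreimageIso E).symm ≪≫ asIso (DerivedCategory.Q.map f)⟩⟩

end General

variable {X Y : Scheme.{u}}

noncomputable def pushKhObjIso {W : Scheme.{u}} (g : W ⟶ Y) (J : CochainComplex W.Modules ℤ) :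
    (DCoh.pushKh g).obj ((HomotopyCategory.quotient W.Modules (ComplexShape.up ℤ)).obj J) ≅
      DerivedCategory.Q.obj
        (((Scheme.Modules.pushforward g).mapHomologicalComplex (ComplexShape.up ℤ)).obj J) :=
  DerivedCategory.Qh.mapIso
      (((Scheme.Modules.pushforward g).mapHomotopyCategoryFactors (ComplexShape.up ℤ)).app J) ≪≫
    (DerivedCategory.quotientCompQhIso Y.Modules).app _

noncomputable def RpushQIso {W : Scheme.{u}} (g : W ⟶ Y) [DCoh.HasRpush g]
    (J : CochainComplex W.Modules ℤ) [J.IsKInjective] :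
    (DCoh.Rpush g).obj (DerivedCategory.Q.obj J) ≅
      DerivedCategory.Q.obj
        (((Scheme.Modules.pushforward g).mapHomologicalComplex (ComplexShape.up ℤ)).obj J) :=
  rightDerivedQIso (DCoh.pushKh g) (DCoh.Rpush g)
    ((DCoh.pushKh g).totalRightDerivedUnit DerivedCategory.Qh
      (HomotopyCategory.quasiIso W.Modules (ComplexShape.up ℤ))) J ≪≫ pushKhObjIso g J

noncomputable def QMapIso {A B : Type*} [Category A] [Abelian A] [Category B] [Abelian B]
    [HasDerivedCategory B] {Φ Ψ : A ⥤ B} [Φ.Additive] [Ψ.Additive] (e : Φ ≅ Ψ)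
    (I : CochainComplex A ℤ) :
    DerivedCategory.Q.obj ((Φ.mapHomologicalComplex (ComplexShape.up ℤ)).obj I) ≅
      DerivedCategory.Q.obj ((Ψ.mapHomologicalComplex (ComplexShape.up ℤ)).obj I) :=
  DerivedCategory.Q.mapIso ((NatIso.mapHomologicalComplex e (ComplexShape.up ℤ)).app I)

noncomputable def restrictPushIso (f : X ⟶ Y) (W : X.Opens) (g : (W : Scheme.{u}) ⟶ Y)
    (i : Scheme.Modules.pushforward W.ι ⋙ Scheme.Modules.pushforward f ≅
      Scheme.Modules.pushforward g)
    [PreservesFiniteLimits (Scheme.Modules.restrictFunctor W.ι)] [DCoh.HasRpush g]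
    (E : DCoh.D X) (I : CochainComplex X.Modules ℤ) (hI : I.IsKInjective)
    (e : E ≅ DerivedCategory.Q.obj I) :
    (DCoh.Rpush g).obj ((DCoh.restrictD W.ι).obj E) ≅
      DerivedCategory.Q.obj (((G f W).mapHomologicalComplex (ComplexShape.up ℤ)).obj I) :=
  haveI := isKInjective_restrict W I hI
  (DCoh.Rpush g).mapIso ((DCoh.restrictD W.ι).mapIso e ≪≫
    (Scheme.Modules.restrictFunctor W.ι).mapDerivedCategoryFactors.app I) ≪≫
    RpushQIso g _ ≪≫
    QMapIso (Φ := Scheme.Modules.restrictFunctor W.ι ⋙ Scheme.Modules.pushforward g)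
      (Ψ := G f W)
      (Functor.isoWhiskerLeft (Scheme.Modules.restrictFunctor W.ι) i.symm ≪≫
        (Functor.associator _ _ _).symm) I

end Groth.Agent.Lib.Helper12.MVSch
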