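import Groth.Agent.Lib.Helper12.EZMV2
import Groth.Agent.Lib.Helper12.MVSch

set_option autoImplicit false
universe u
open CategoryTheory CategoryTheory.Limits AlgebraicGeometry Pretriangulated

attribute [local instance] HasDerivedCategory.standard

namespace Groth.Agent.Lib.Helper12.EZMV

open Groth.Agent.Lib.Helper12

variable {X : Scheme.{u}}

noncomputable def extZeroDRestrictDQIso (W : X.Opens) [PreservesFiniteLimits (CxOX.extZero W.ι)]
    (E : DCoh.D X) (I : CochainComplex X.Modules ℤ) (e : E ≅ DerivedCategory.Q.obj I) :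
    (CxOX.extZeroD W.ι).obj ((DCoh.restrictD W.ι).obj E) ≅
      DerivedCategory.Q.obj (((P W).mapHomologicalComplex (ComplexShape.up ℤ)).obj I) :=
  (CxOX.extZeroD W.ι).mapIso ((DCoh.restrictD W.ι).mapIso e ≪≫
    (Scheme.Modules.restrictFunctor W.ι).mapDerivedCategoryFactors.app I) ≪≫
    (CxOX.extZero W.ι).mapDerivedCategoryFactors.app _ ≪≫
    DerivedCategory.Q.mapIso (HomologicalComplex.Hom.isoOfComponents (fun _ => Iso.refl _)
      (fun _ _ _ => (Category.id_comp _).trans (Category.comp_id _).symm))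

theorem exists_triangle (U V : X.Opens) (hUV : U ⊔ V = ⊤)
    [PreservesFiniteLimits (CxOX.extZero U.ι)] [PreservesFiniteLimits (CxOX.extZero V.ι)]
    [PreservesFiniteLimits (CxOX.extZero (U ⊓ V).ι)] (E : DCoh.D X) :
    ∃ (a : (CxOX.extZeroD (U ⊓ V).ι).obj ((DCoh.restrictD (U ⊓ V).ι).obj E) ⟶
        ((CxOX.extZeroD U.ι).obj ((DCoh.restrictD U.ι).obj E) ⊞
          (CxOX.extZeroD V.ι).obj ((DCoh.restrictD V.ι).obj E)))
      (b : ((CxOX.extZeroD U.ι).obj ((DCoh.restrictD U.ι).obj E) ⊞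
          (CxOX.extZeroD V.ι).obj ((DCoh.restrictD V.ι).obj E)) ⟶ E)
      (c : E ⟶ ((CxOX.extZeroD (U ⊓ V).ι).obj ((DCoh.restrictD (U ⊓ V).ι).obj E))⟦(1 : ℤ)⟧),
      Triangle.mk a b c ∈ distTriang (DCoh.D X) := by
  obtain ⟨I, -, hI, ⟨e⟩⟩ := MVSch.exists_extProp_model E
  exact MVTri.exists_triangle (mvExact U V hUV) I hI
    (extZeroDRestrictDQIso (U ⊓ V) E I e) (extZeroDRestrictDQIso U E I e)
    (extZeroDRestrictDQIso V E I e)
    (e ≪≫ DerivedCategory.Q.mapIso
      ((Functor.mapHomologicalComplexIdIso X.Modules (ComplexShape.up ℤ)).app I).symm)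

end Groth.Agent.Lib.Helper12.EZMV
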