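import Groth.Agent.Lib.Helper12.FlatBridge

set_option autoImplicit false
universe u
open CategoryTheory CategoryTheory.Limits AlgebraicGeometry Opposite TopologicalSpace

namespace Groth.Agent.Lib.Helper12.FlatBridge

open Groth.Agent.Lib.Helper42.EqCrit Groth.Agent.Lib.Helper42.StalkFlat ModSite

variable {X : Scheme.{u}}

theorem flatMod_of_isFlat (M : X.Modules) (h : ModSite.IsFlat (O := X.sheaf) M) :
    FlatMod.IsFlat M := by
  have hcrit := (isFlat_iff_crit (O := X.sheaf) M).mp h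
  intro x
  change Module.Flat (X.presheaf.stalk x) (M.presheaf.stalk x)
  rw [Module.Flat.iff_forall_isTrivialRelation]
  intro n f m hrel
  obtain ⟨W₁, -, hxW₁, hrep⟩ := exists_nbhd_forall (ι := Fin n ⊕ Fin n) x
    (Sum.elim
      (fun j W => ∀ hx : x ∈ W, ∃ a : Γ(X, W), X.presheaf.germ W x hx a = f j)
      (fun j W => ∀ hx : x ∈ W, ∃ t : Γ(M, W), M.presheaf.germ W x hx t = m j))
    (by
      rintro (j | j) W W' hWW' hP hx'
      · obtain ⟨a, ha⟩ := hP (hWW' hx')
        exact ⟨X.presheaf.map (homOfLE hWW').op a,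
          (TopCat.Presheaf.germ_res_apply X.presheaf (homOfLE hWW') x hx' a).trans ha⟩
      · obtain ⟨t, ht⟩ := hP (hWW' hx')
        exact ⟨M.presheaf.map (homOfLE hWW').op t,
          (TopCat.Presheaf.germ_res_apply M.presheaf (homOfLE hWW') x hx' t).trans ht⟩)
    (by
      rintro (j | j)
      · obtain ⟨W, hxW, a, ha⟩ := X.presheaf.exists_germ_eq (x := x) (f j)
        exact ⟨W, hxW, fun hx => ⟨a, ha⟩⟩
      · obtain ⟨W, hxW, t, ht⟩ := M.presheaf.exists_germ_eq (x := x) (m j)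
        exact ⟨W, hxW, fun hx => ⟨t, ht⟩⟩)
    ⊤ trivial
  choose f₁ hf₁ using fun j => hrep (Sum.inl j) hxW₁
  choose s₁ hs₁ using fun j => hrep (Sum.inr j) hxW₁
  have e0 : M.presheaf.germ W₁ x hxW₁ (∑ j, f₁ j • s₁ j) = M.presheaf.germ W₁ x hxW₁ 0 := by
    rw [map_zero, map_sum, ← hrel]
    refine Finset.sum_congr rfl fun j _ => ?_
    rw [Groth.Agent.Lib.Helper78.ModStalk.germ_smul, hf₁, hs₁]
  obtain ⟨W₂, hxW₂, iU, iV, hW⟩ := TopCat.Presheaf.germ_eq M.presheaf x hxW₁ hxW₁ _ _ e0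
  have hiV : iV = iU := Subsingleton.elim _ _
  rw [hiV, map_zero] at hW
  let f₂ : Fin n → Γ(X, W₂) := fun j => X.presheaf.map iU.op (f₁ j)
  let s₂ : Fin n → Γ(M, W₂) := fun j => M.presheaf.map iU.op (s₁ j)
  have hrel₂ : ∑ j, f₂ j • s₂ j = 0 := by
    rw [← hW, map_sum]
    exact Finset.sum_congr rfl fun j _ => (Scheme.Modules.map_smul M _ _ _).symm
  obtain ⟨S, hS, hdata⟩ := hcrit W₂ n f₂ s₂ hrel₂
  obtain ⟨V, g, hSg, hxV⟩ := hS x hxW₂
  obtain ⟨l, t, a, h1, h2⟩ := hdata g hSg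
  let t' : Fin l → Γ(M, V) := t
  let a' : Fin n → Fin l → Γ(X, V) := a
  refine ⟨l, fun j k => X.presheaf.germ V x hxV (a' j k),
    fun k => M.presheaf.germ V x hxV (t' k), ?_, ?_⟩
  · intro j
    have h1j : M.presheaf.map g.op (s₂ j) = ∑ k, a' j k • t' k := h1 j
    have := congrArg (M.presheaf.germ V x hxV) h1j
    rw [TopCat.Presheaf.germ_res_apply M.presheaf g x hxV (s₂ j)] at this
    rw [TopCat.Presheaf.germ_res_apply M.presheaf iU x (leOfHom g hxV) (s₁ j)] at this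
    rw [← hs₁ j]
    refine this.trans ?_
    rw [map_sum]
    exact Finset.sum_congr rfl fun k _ =>
      Groth.Agent.Lib.Helper78.ModStalk.germ_smul M x V hxV (a' j k) (t' k)
  · intro k
    have h2k : ∑ j, a' j k * X.presheaf.map g.op (f₂ j) = 0 := h2 k
    have := congrArg (X.presheaf.germ V x hxV) h2k
    rw [map_zero, map_sum] at this
    rw [← this]
    refine Finset.sum_congr rfl fun j _ => ?_
    rw [map_mul, TopCat.Presheaf.germ_res_apply X.presheaf g x hxV (f₂ j),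
      TopCat.Presheaf.germ_res_apply X.presheaf iU x (leOfHom g hxV) (f₁ j), hf₁, mul_comm]

theorem isFlat_iff_flatMod (M : X.Modules) :
    ModSite.IsFlat (O := X.sheaf) M ↔ FlatMod.IsFlat M :=
  ⟨flatMod_of_isFlat M, isFlat_of_flatMod M⟩

end Groth.Agent.Lib.Helper12.FlatBridge
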