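import Groth.Agent.Lib.Helper12.KFlat21

set_option autoImplicit false
universe u
open CategoryTheory CategoryTheory.Limits

namespace Groth.Agent.Lib.Helper12.KFlat

open ModSite Groth.Agent.Lib.Helper42.Flat Groth.Agent.Lib.Helper42.Flat2
  Groth.Agent.Lib.Helper42.TensorColim Groth.Agent.Lib.Helper42.FlatCx

variable {C : Type u} [SmallCategory C] {J : GrothendieckTopology C} {O : Sheaf J CommRingCat.{u}}

section FlatCrit

noncomputable def tb (M G : Mod O) : Mod O := ((tensorBi O).obj M).obj G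

noncomputable def mapL (M : Mod O) {G' G : Mod O} (u : G' ⟶ G) : tb M G' ⟶ tb M G :=
  ((tensorBi O).obj M).map u

noncomputable def mapR {M M' : Mod O} (f : M ⟶ M') (G : Mod O) : tb M G ⟶ tb M' G :=
  ((tensorBi O).map f).app G

theorem mapL_eq (M : Mod O) {G' G : Mod O} (u : G' ⟶ G) : mapL M u = (tensL O M).map u := rfl

theorem mapR_eq {M M' : Mod O} (f : M ⟶ M') (G : Mod O) : mapR f G = (tensR O G).map f := rfl

theorem LR_comm {M M' G' G : Mod O} (f : M ⟶ M') (u : G' ⟶ G) :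
    mapL M u ≫ mapR f G = mapR f G' ≫ mapL M' u :=
  ((tensorBi O).map f).naturality u

theorem mapR_comp_zero {M M' M'' : Mod O} (f : M ⟶ M') (g : M' ⟶ M'') (h : f ≫ g = 0)
    (G : Mod O) : mapR f G ≫ mapR g G = 0 := by
  change (tensR O G).map f ≫ (tensR O G).map g = 0
  rw [← Functor.map_comp, h, Functor.map_zero]

theorem mapL_comp_zero (M : Mod O) {G G' G'' : Mod O} (f : G ⟶ G') (g : G' ⟶ G'')
    (h : f ≫ g = 0) : mapL M f ≫ mapL M g = 0 := by
  change (tensL O M).map f ≫ (tensL O M).map g = 0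
  rw [← Functor.map_comp, h, Functor.map_zero]

theorem epi_mapR {M M' : Mod O} (f : M ⟶ M') [Epi f] (G : Mod O) : Epi (mapR f G) :=
  inferInstanceAs (Epi ((tensR O G).map f))

theorem epi_mapL (M : Mod O) {G' G : Mod O} (u : G' ⟶ G) [Epi u] : Epi (mapL M u) :=
  inferInstanceAs (Epi ((tensL O M).map u))

theorem mono_mapL (M : Mod O) (hM : IsFlat M) {G' G : Mod O} (u : G' ⟶ G) [Mono u] :
    Mono (mapL M u) := by
  have hpm : (tensL O M).PreservesMonomorphisms := (isFlat_iff_preservesMono' O M).mp hM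
  exact inferInstanceAs (Mono ((tensL O M).map u))

theorem exact_mapR_cokernel {M M' : Mod O} (f : M ⟶ M') (G : Mod O) :
    (ShortComplex.mk (mapR f G) (mapR (cokernel.π f) G)
      (mapR_comp_zero f _ (cokernel.condition f) G)).Exact :=
  (ShortComplex.exact_cokernel f).map_of_epi_of_preservesCokernel (tensR O G)
    (inferInstanceAs (Epi (cokernel.π f))) inferInstance

theorem exact_mapL_cokernel {G' G : Mod O} (u : G' ⟶ G) (M : Mod O) :
    (ShortComplex.mk (mapL M u) (mapL M (cokernel.π u))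
      (mapL_comp_zero M u _ (cokernel.condition u))).Exact :=
  (ShortComplex.exact_cokernel u).map_of_epi_of_preservesCokernel (tensL O M)
    (inferInstanceAs (Epi (cokernel.π u))) inferInstance

variable (E : CochainComplex (Mod O) ℤ) (i j k : ℤ)

theorem mono_mapL_cokernel (hfl : IsFlat (E.X k))
    (hH : ∀ G : Mod O, (ShortComplex.mk (mapR (E.d i j) G) (mapR (E.d j k) G)
      (mapR_comp_zero _ _ (E.d_comp_d i j k) G)).Exact)
    {G' G : Mod O} (u : G' ⟶ G) [Mono u] :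
    Mono (mapL (cokernel (E.d j k)) u) := by
  have hmono : Mono (mapL (E.X k) u) := mono_mapL _ hfl u
  apply Preadditive.mono_of_cancel_zero
  intro W x hx
  have hepi1 : Epi (mapR (cokernel.π (E.d j k)) G') := epi_mapR _ _
  obtain ⟨W₁, p₁, hp₁, y, hy⟩ := surjective_up_to_refinements_of_epi
    (mapR (cokernel.π (E.d j k)) G') x
  have h2 : (y ≫ mapL (E.X k) u) ≫ mapR (cokernel.π (E.d j k)) G = 0 := by
    rw [Category.assoc, LR_comm, ← Category.assoc, ← hy, Category.assoc, hx, comp_zero]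
  obtain ⟨W₂, p₂, hp₂, z, hz⟩ := (exact_mapR_cokernel (E.d j k) G).exact_up_to_refinements
    (y ≫ mapL (E.X k) u) h2
  have hz' : p₂ ≫ y ≫ mapL (E.X k) u = z ≫ mapR (E.d j k) G := hz
  have huv : mapL (E.X k) u ≫ mapL (E.X k) (cokernel.π u) = 0 :=
    mapL_comp_zero _ _ _ (cokernel.condition u)
  have h3 : (z ≫ mapL (E.X j) (cokernel.π u)) ≫ mapR (E.d j k) (cokernel u) = 0 := by
    rw [Category.assoc, LR_comm, ← Category.assoc, ← hz', Category.assoc, Category.assoc, huv,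
      comp_zero, comp_zero]
  obtain ⟨W₃, p₃, hp₃, w'', hw''⟩ := (hH (cokernel u)).exact_up_to_refinements
    (z ≫ mapL (E.X j) (cokernel.π u)) h3
  have hw3 : p₃ ≫ z ≫ mapL (E.X j) (cokernel.π u) = w'' ≫ mapR (E.d i j) (cokernel u) := hw''
  have hepi4 : Epi (mapL (E.X i) (cokernel.π u)) := epi_mapL _ _
  obtain ⟨W₄, p₄, hp₄, w, hw⟩ := surjective_up_to_refinements_of_epi
    (mapL (E.X i) (cokernel.π u)) w''
  have hdd : mapR (E.d i j) G ≫ mapR (E.d j k) G = 0 := mapR_comp_zero _ _ (E.d_comp_d i j k) G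
  have h5a : (p₄ ≫ p₃ ≫ z - w ≫ mapR (E.d i j) G) ≫ mapR (E.d j k) G =
      p₄ ≫ p₃ ≫ z ≫ mapR (E.d j k) G := by
    simp only [Preadditive.sub_comp, Category.assoc, hdd, comp_zero, sub_zero]
  have h5b : (p₄ ≫ p₃ ≫ z - w ≫ mapR (E.d i j) G) ≫ mapL (E.X j) (cokernel.π u) = 0 := by
    have e1 : p₄ ≫ p₃ ≫ z ≫ mapL (E.X j) (cokernel.π u) =
        w ≫ mapL (E.X i) (cokernel.π u) ≫ mapR (E.d i j) (cokernel u) := by
      rw [hw3, ← Category.assoc, hw, Category.assoc]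
    simp only [Preadditive.sub_comp, Category.assoc]
    rw [e1, LR_comm, sub_self]
  obtain ⟨W₅, p₅, hp₅, z', hz''⟩ := (exact_mapL_cokernel u (E.X j)).exact_up_to_refinements
    (p₄ ≫ p₃ ≫ z - w ≫ mapR (E.d i j) G) h5b
  have hz₁ : p₅ ≫ (p₄ ≫ p₃ ≫ z - w ≫ mapR (E.d i j) G) = z' ≫ mapL (E.X j) u := hz''
  have h6 : z' ≫ mapR (E.d j k) G' = p₅ ≫ p₄ ≫ p₃ ≫ p₂ ≫ y := by
    rw [← cancel_mono (mapL (E.X k) u), Category.assoc, ← LR_comm, ← Category.assoc,
      ← hz₁, Category.assoc, h5a, ← hz']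
    simp only [Category.assoc]
  have hdπ : mapR (E.d j k) G' ≫ mapR (cokernel.π (E.d j k)) G' = 0 :=
    mapR_comp_zero _ _ (cokernel.condition _) G'
  have h7 : (p₅ ≫ p₄ ≫ p₃ ≫ p₂ ≫ p₁) ≫ x = 0 := by
    have e1 : (p₅ ≫ p₄ ≫ p₃ ≫ p₂ ≫ p₁) ≫ x =
        (p₅ ≫ p₄ ≫ p₃ ≫ p₂ ≫ y) ≫ mapR (cokernel.π (E.d j k)) G' := by
      simp only [Category.assoc]
      rw [hy]
    rw [e1, ← h6, Category.assoc, hdπ, comp_zero]
  have : Epi (p₅ ≫ p₄ ≫ p₃ ≫ p₂ ≫ p₁) := inferInstance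
  exact (cancel_epi (p₅ ≫ p₄ ≫ p₃ ≫ p₂ ≫ p₁)).mp (h7.trans comp_zero.symm)

theorem isFlat_cokernel_of_exact (hfl : IsFlat (E.X k))
    (hH : ∀ G : Mod O, (ShortComplex.mk (mapR (E.d i j) G) (mapR (E.d j k) G)
      (mapR_comp_zero _ _ (E.d_comp_d i j k) G)).Exact) :
    IsFlat (cokernel (E.d j k)) := by
  rw [isFlat_iff_preservesMono']
  constructor
  intro G' G u hu
  exact mono_mapL_cokernel E i j k hfl hH u

end FlatCrit

end Groth.Agent.Lib.Helper12.KFlat
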