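import Groth.Agent.Lib.Helper12.FreeRes6
import Groth.Agent.Lib.Helper12.KFlat22

set_option autoImplicit false
universe u
open CategoryTheory CategoryTheory.Limits

namespace Groth.Agent.Lib.Helper12.FreeRes

open ModSite Groth.Agent.Lib.Helper42.Flat Groth.Agent.Lib.Helper42.Flat2
  Groth.Agent.Lib.Helper42.TensorColim Groth.Agent.Lib.Helper42.FlatCx
open CochainComplex CochainComplex.HomComplex ZeroObject

variable {C : Type u} [SmallCategory C] {J : GrothendieckTopology C} {O : Sheaf J CommRingCat.{u}}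

section FlatRes

theorem isFlat_of_isFreeish (M : Mod O) (h : IsFreeish M) : IsFlat M := by
  obtain ⟨ι, U, ⟨e⟩⟩ := h
  refine isFlat_of_iso O e.symm ?_
  exact KFlat.isFlat_of_isColimit_cofan (fun j => freeOn O (U j)) _
    (coproductIsCoproduct (fun j => freeOn O (U j))) (fun j => isFlat_freeOn O (U j))

theorem exists_bddLE_flat_resolution (G : CochainComplex (Mod O) ℤ) (b : ℤ) (hG : BddLE G b) :
    ∃ (R : CochainComplex (Mod O) ℤ) (q : R ⟶ G), QuasiIso q ∧ BddLE R b ∧
      (∀ i, IsFlat (R.X i)) ∧ IsKFlat R := by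
  let s₀ : Over G := Over.mk (0 : (0 : CochainComplex (Mod O) ℤ) ⟶ G)
  have h₀ : BddLE s₀.left b := fun i _ => isZero_zero_X i
  have hb : BddLE (fromCocone s₀).pt b := bddLE_fromK s₀ b h₀ hG
  have hfl : ∀ i, IsFlat ((fromCocone s₀).pt.X i) := by
    intro i
    apply isFlat_of_isFreeish
    refine isFreeish_of_iso (fromXIso s₀ i) (isFreeish_biprod ?_ (isFreeish_attZ s₀ i))
    exact isFreeish_of_isZero _ (isZero_zero_X i)
  exact ⟨(fromCocone s₀).pt, fromQ s₀, quasiIso_fromQ s₀, hb, hfl,
    KFlat.isKFlat_of_bounded_above _ b hb hfl⟩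

end FlatRes

section HomologyCokernel

universe v₂ u₂

variable {A : Type u₂} [Category.{v₂} A] [Abelian A]

noncomputable def homologyIsoCokernel (K : CochainComplex A ℤ) (i j k : ℤ) (hij : i + 1 = j)
    (hjk : j + 1 = k) (hz : IsZero (K.X k)) : K.homology j ≅ cokernel (K.d i j) :=
  K.homologyIsoSc' i j k (by simp; omega) (by simp; omega) ≪≫
    (ShortComplex.HomologyData.ofIsColimitCokernelCofork (K.sc' i j k) (hz.eq_of_tgt _ _)
      (CokernelCofork.ofπ (cokernel.π (K.d i j)) (cokernel.condition _))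
      (cokernelIsCokernel (K.d i j))).left.homologyIso

end HomologyCokernel

end Groth.Agent.Lib.Helper12.FreeRes
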