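import Groth.Prelude.Def_DerSch
import Groth.Agent.Lib.Helper78.ModStalkExact
import Mathlib.Algebra.Homology.ShortComplex.ModuleCat
import Mathlib.Algebra.Homology.ShortComplex.ExactFunctor

set_option autoImplicit false
universe u
open CategoryTheory CategoryTheory.Limits AlgebraicGeometry

namespace Groth.Agent.Lib.Helper12.StalkExact

variable {X : Scheme.{u}}

theorem stalkFunctor_map_apply {M N : X.Modules} (φ : M ⟶ N) (x : X) (m : M.presheaf.stalk x) :
    (DerSch.stalkFunctor X x).map φ m = Groth.Agent.Lib.Helper78.ModStalk.stalkMap φ x m := rfl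

theorem shortExact_map_stalkFunctor (S : ShortComplex X.Modules) (hS : S.ShortExact) (x : X) :
    (S.map (DerSch.stalkFunctor X x)).ShortExact := by
  have h1 := Groth.Agent.Lib.Helper78.ModStalkExact.stalk_function_exact S hS x
  have h2 := Groth.Agent.Lib.Helper78.ModStalkExact.stalk_injective S hS x
  have h3 := Groth.Agent.Lib.Helper78.ModStalkExact.stalk_surjective S hS x
  have hex : (S.map (DerSch.stalkFunctor X x)).Exact := by
    rw [ShortComplex.ShortExact.moduleCat_exact_iff_function_exact]
    exact h1
  have : Mono (S.map (DerSch.stalkFunctor X x)).f := by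
    rw [ModuleCat.mono_iff_injective]
    exact h2
  have : Epi (S.map (DerSch.stalkFunctor X x)).g := by
    rw [ModuleCat.epi_iff_surjective]
    exact h3
  exact ShortComplex.ShortExact.mk hex

theorem exact_props (x : X) :
    PreservesFiniteLimits (DerSch.stalkFunctor X x) ∧
      PreservesFiniteColimits (DerSch.stalkFunctor X x) :=
  ((Functor.exact_tfae (DerSch.stalkFunctor X x)).out 0 3).1
    (fun S hS => shortExact_map_stalkFunctor S hS x)

instance preservesFiniteLimits_stalkFunctor (x : X) :
    PreservesFiniteLimits (DerSch.stalkFunctor X x) := (exact_props x).1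

instance preservesFiniteColimits_stalkFunctor (x : X) :
    PreservesFiniteColimits (DerSch.stalkFunctor X x) := (exact_props x).2

theorem exact_iff_stalk (S : ShortComplex X.Modules) :
    S.Exact ↔ ∀ x : X, (S.map (DerSch.stalkFunctor X x)).Exact := by
  constructor
  · intro h x
    exact h.map (DerSch.stalkFunctor X x)
  · intro h
    have hfaith : (Groth.Agent.Lib.Helper78.ModStalkExact.toSh X).Faithful :=
      inferInstanceAs (SheafOfModules.toSheaf.{u} X.ringCatSheaf).Faithful
    rw [← ShortComplex.exact_map_iff_of_faithful S (Groth.Agent.Lib.Helper78.ModStalkExact.toSh X)]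
    rw [TopCat.Sheaf.exact_iff_stalkFunctor_map_exact]
    intro x
    rw [ShortComplex.ab_exact_iff_function_exact]
    exact (ShortComplex.ShortExact.moduleCat_exact_iff_function_exact _).1 (h x)

noncomputable abbrev stalkCx (X : Scheme.{u}) (x : X) :
    CochainComplex X.Modules ℤ ⥤ DRing.Cx (X.presheaf.stalk x) :=
  (DerSch.stalkFunctor X x).mapHomologicalComplex (ComplexShape.up ℤ)

theorem exactAt_iff_stalk (K : CochainComplex X.Modules ℤ) (i : ℤ) :
    K.ExactAt i ↔ ∀ x : X, ((stalkCx X x).obj K).ExactAt i := by
  rw [HomologicalComplex.exactAt_iff, exact_iff_stalk]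
  exact Iff.rfl

theorem quasiIso_stalkCx_map {K L : CochainComplex X.Modules ℤ} (f : K ⟶ L) [QuasiIso f]
    (x : X) : QuasiIso ((stalkCx X x).map f) := by
  infer_instance

noncomputable def stalkOpcyclesIso (K : CochainComplex X.Modules ℤ) (x : X) (i : ℤ) :
    ((stalkCx X x).obj K).opcycles i ≅ (DerSch.stalkFunctor X x).obj (K.opcycles i) :=
  (K.sc i).mapOpcyclesIso (DerSch.stalkFunctor X x)

theorem flatMod_of_iso {M N : X.Modules} (e : M ≅ N) (h : FlatMod.IsFlat M) :
    FlatMod.IsFlat N := by
  intro x
  have hx : Module.Flat (X.presheaf.stalk x) ((DerSch.stalkFunctor X x).obj M) := h x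
  exact Module.Flat.of_linearEquiv
    ((DerSch.stalkFunctor X x).mapIso e).toLinearEquiv.symm

theorem flatMod_of_isZero {M : X.Modules} (h : IsZero M) : FlatMod.IsFlat M := by
  intro x
  have hz : IsZero ((DerSch.stalkFunctor X x).obj M) := Functor.map_isZero _ h
  have := ModuleCat.isZero_iff_subsingleton.1 hz
  exact (inferInstance : Module.Flat (X.presheaf.stalk x) ((DerSch.stalkFunctor X x).obj M))

end Groth.Agent.Lib.Helper12.StalkExact
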