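import Groth.Prelude.Def_CxOX
import Groth.Agent.Lib.Helper12.FreeRes7
import Groth.Agent.Lib.Helper12.FlatBridge2
import Groth.Agent.Lib.Helper12.StalkExact

set_option autoImplicit false
universe u
open CategoryTheory CategoryTheory.Limits AlgebraicGeometry

namespace Groth.Agent.Lib.Helper12.EZUnit

variable {X : Scheme.{u}}

noncomputable def overUnitIso (V : X.Opens) :
    (SheafOfModules.overFunctor X.ringCatSheaf V).obj (SheafOfModules.unit X.ringCatSheaf) ≅
      SheafOfModules.unit (X.ringCatSheaf.over V) := Iso.refl _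

noncomputable def inverseUnitIso (V : X.Opens) :
    (Scheme.Modules.overEquiv V).inverse.obj (Coh.structureModule V) ≅
      SheafOfModules.unit (X.ringCatSheaf.over V) :=
  (Scheme.Modules.overEquiv V).inverse.mapIso
      ((Scheme.Modules.restrictUnitIso V.ι).symm ≪≫
        ((Scheme.Modules.overFunctorEquiv V).app (SheafOfModules.unit X.ringCatSheaf)).symm) ≪≫
    ((Scheme.Modules.overEquiv V).unitIso.app _).symm ≪≫ overUnitIso V

noncomputable def unitIso (V : X.Opens) :
    CxOX.extZeroUnit V.ι ≅ ModSite.freeOn X.sheaf V :=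
  (CxOX.extZeroIsoSite V).app (Coh.structureModule V) ≪≫
    (ModSite.extZero X.sheaf V).mapIso (inverseUnitIso V)

end Groth.Agent.Lib.Helper12.EZUnit

namespace Groth.Agent.Lib.Helper12.EZUnit

open Groth.Agent.Lib.Helper12

variable {X : Scheme.{u}}

theorem main (F : X.Modules) :
    ∃ (ι : Type u) (U : ι → X.Opens) (p : (∐ fun i => CxOX.extZeroUnit (U i).ι) ⟶ F),
      Epi p ∧ FlatMod.IsFlat (∐ fun i => CxOX.extZeroUnit (U i).ι) := by
  let ι : Type u := FreeRes.GenIdx (O := X.sheaf) F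
  let U : ι → X.Opens := fun i => i.1.1
  let e : (∐ fun i => CxOX.extZeroUnit (U i).ι) ≅ FreeRes.genObj (O := X.sheaf) F :=
    Sigma.mapIso (fun i => unitIso (U i))
  refine ⟨ι, U, e.hom ≫ FreeRes.genπ (O := X.sheaf) F, ?_, ?_⟩
  · have h1 := FreeRes.epi_genπ (O := X.sheaf) F
    have h2 : Epi e.hom := @IsIso.epi_of_iso _ _ _ _ e.hom (Iso.isIso_hom e)
    exact @epi_comp _ _ _ _ _ e.hom h2 (FreeRes.genπ (O := X.sheaf) F) h1
  · refine StalkExact.flatMod_of_iso e.symm ?_
    refine (FlatBridge.isFlat_iff_flatMod _).1 ?_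
    exact FreeRes.isFlat_of_isFreeish _ (FreeRes.isFreeish_genObj (O := X.sheaf) F)

end Groth.Agent.Lib.Helper12.EZUnit
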