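import Groth.Agent.Lib.Helper42.StalkFlat2
import Groth.Agent.Lib.Helper78.ModStalk
import Groth.Prelude.Def_FlatMod2

set_option autoImplicit false
universe u
open CategoryTheory CategoryTheory.Limits AlgebraicGeometry Opposite TopologicalSpace

namespace Groth.Agent.Lib.Helper12.FlatBridge

section Top

variable {X : Type u} [TopologicalSpace X]

theorem exists_nbhd_forall {ι : Type} [Fintype ι] (x : X) (P : ι → Opens X → Prop)
    (hP : ∀ i (W W' : Opens X), W' ≤ W → P i W → P i W')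
    (h : ∀ i, ∃ W : Opens X, x ∈ W ∧ P i W) (U : Opens X) (hU : x ∈ U) :
    ∃ W : Opens X, W ≤ U ∧ x ∈ W ∧ ∀ i, P i W := by
  classical
  have key : ∀ s : Finset ι, ∃ W : Opens X, W ≤ U ∧ x ∈ W ∧ ∀ i ∈ s, P i W := by
    intro s
    induction s using Finset.induction_on with
    | empty => exact ⟨U, le_rfl, hU, fun i hi => absurd hi (Finset.notMem_empty i)⟩
    | insert a s ha ih =>
      obtain ⟨W, hWU, hxW, hW⟩ := ih
      obtain ⟨W', hxW', hW'⟩ := h a
      refine ⟨W ⊓ W', inf_le_left.trans hWU, ⟨hxW, hxW'⟩, ?_⟩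
      intro i hi
      rcases Finset.mem_insert.mp hi with rfl | hi
      · exact hP _ _ _ inf_le_right hW'
      · exact hP _ _ _ inf_le_left (hW i hi)
  obtain ⟨W, h1, h2, h3⟩ := key Finset.univ
  exact ⟨W, h1, h2, fun i => h3 i (Finset.mem_univ i)⟩

end Top


open Groth.Agent.Lib.Helper42.EqCrit Groth.Agent.Lib.Helper42.StalkFlat ModSite

variable {X : Scheme.{u}}

theorem germ_rs (M : X.Modules) {U V : X.Opens} (g : V ⟶ U) (x : X) (hx : x ∈ V)
    (s : sect (O := X.sheaf) M U) :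
    M.presheaf.germ V x hx (rs (O := X.sheaf) M g s) =
      M.presheaf.germ U x (leOfHom g hx) (show Γ(M, U) from s) :=
  TopCat.Presheaf.germ_res_apply M.presheaf g x hx (show Γ(M, U) from s)

theorem germ_Omap {U V : X.Opens} (g : V ⟶ U) (x : X) (hx : x ∈ V) (r : Γ(X, U)) :
    X.presheaf.germ V x hx ((X.sheaf.obj.map g.op).hom r) =
      X.presheaf.germ U x (leOfHom g hx) r :=
  TopCat.Presheaf.germ_res_apply X.presheaf g x hx r

theorem isFlat_of_flatMod (M : X.Modules) (h : FlatMod.IsFlat M) :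
    ModSite.IsFlat (O := X.sheaf) M := by
  refine (isFlat_iff_crit (O := X.sheaf) M).mpr ?_
  intro U n f s hrel
  refine ⟨trivSieve (O := X.sheaf) M f s, ?_, fun V g hg => hg⟩
  intro x hxU
  have hflat : Module.Flat (X.presheaf.stalk x) (M.presheaf.stalk x) := h x
  let f' : Fin n → Γ(X, U) := f
  let s' : Fin n → Γ(M, U) := s
  have hrel' : ∑ j, f' j • s' j = 0 := hrel
  have hg : ∑ j, X.presheaf.germ U x hxU (f' j) • M.presheaf.germ U x hxU (s' j) = 0 := by
    have := congrArg (M.presheaf.germ U x hxU) hrel'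
    rw [map_sum, map_zero] at this
    rw [← this]
    refine Finset.sum_congr rfl fun j _ => ?_
    exact (Groth.Agent.Lib.Helper78.ModStalk.germ_smul M x U hxU (f' j) (s' j)).symm
  obtain ⟨k, A, Y, hA1, hA2⟩ := Module.Flat.isTrivialRelation_of_sum_smul_eq_zero hg
  obtain ⟨W₁, hW₁U, hxW₁, hrep⟩ := exists_nbhd_forall (ι := (Fin n × Fin k) ⊕ Fin k) x
    (Sum.elim
      (fun jk W => ∀ hx : x ∈ W, ∃ a : Γ(X, W), X.presheaf.germ W x hx a = A jk.1 jk.2)
      (fun k' W => ∀ hx : x ∈ W, ∃ t : Γ(M, W), M.presheaf.germ W x hx t = Y k'))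
    (by
      rintro (jk | k') W W' hWW' hP hx'
      · obtain ⟨a, ha⟩ := hP (hWW' hx')
        exact ⟨X.presheaf.map (homOfLE hWW').op a,
          (TopCat.Presheaf.germ_res_apply X.presheaf (homOfLE hWW') x hx' a).trans ha⟩
      · obtain ⟨t, ht⟩ := hP (hWW' hx')
        exact ⟨M.presheaf.map (homOfLE hWW').op t,
          (TopCat.Presheaf.germ_res_apply M.presheaf (homOfLE hWW') x hx' t).trans ht⟩)
    (by
      rintro (jk | k')
      · obtain ⟨W, hxW, a, ha⟩ := X.presheaf.exists_germ_eq (x := x) (A jk.1 jk.2)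
        exact ⟨W, hxW, fun hx => ⟨a, ha⟩⟩
      · obtain ⟨W, hxW, t, ht⟩ := M.presheaf.exists_germ_eq (x := x) (Y k')
        exact ⟨W, hxW, fun hx => ⟨t, ht⟩⟩)
    U hxU
  choose a ha using fun j k' => hrep (Sum.inl (j, k')) hxW₁
  choose t ht using fun k' => hrep (Sum.inr k') hxW₁
  let g₁ : W₁ ⟶ U := homOfLE hW₁U
  have e1 : ∀ j, M.presheaf.germ W₁ x hxW₁ (M.presheaf.map g₁.op (s' j)) =
      M.presheaf.germ W₁ x hxW₁ (∑ k', a j k' • t k') := by
    intro j
    rw [TopCat.Presheaf.germ_res_apply M.presheaf g₁ x hxW₁ (s' j)]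
    refine (hA1 j).trans ?_
    rw [map_sum]
    refine Finset.sum_congr rfl fun k' _ => ?_
    rw [Groth.Agent.Lib.Helper78.ModStalk.germ_smul, ha, ht]
  have e2 : ∀ k', X.presheaf.germ W₁ x hxW₁
      (∑ j, a j k' * X.presheaf.map g₁.op (f' j)) = X.presheaf.germ W₁ x hxW₁ 0 := by
    intro k'
    rw [map_zero, map_sum, ← hA2 k']
    refine Finset.sum_congr rfl fun j _ => ?_
    rw [map_mul, TopCat.Presheaf.germ_res_apply X.presheaf g₁ x hxW₁ (f' j), mul_comm, ha]
  obtain ⟨W₂, hW₂W₁, hxW₂, heq⟩ := exists_nbhd_forall (ι := Fin n ⊕ Fin k) x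
    (Sum.elim
      (fun j W => ∃ hW : W ≤ W₁, M.presheaf.map (homOfLE hW).op (M.presheaf.map g₁.op (s' j)) =
        M.presheaf.map (homOfLE hW).op (∑ k', a j k' • t k'))
      (fun k' W => ∃ hW : W ≤ W₁, X.presheaf.map (homOfLE hW).op
        (∑ j, a j k' * X.presheaf.map g₁.op (f' j)) = X.presheaf.map (homOfLE hW).op 0))
    (by
      rintro (j | k') W W' hWW' ⟨hW, hP⟩
      · refine ⟨hWW'.trans hW, ?_⟩
        have hc : homOfLE (hWW'.trans hW) = homOfLE hWW' ≫ homOfLE hW := rfl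
        rw [hc, op_comp, Functor.map_comp]
        exact congrArg (M.presheaf.map (homOfLE hWW').op) hP
      · refine ⟨hWW'.trans hW, ?_⟩
        have hc : homOfLE (hWW'.trans hW) = homOfLE hWW' ≫ homOfLE hW := rfl
        rw [hc, op_comp, Functor.map_comp]
        exact congrArg (X.presheaf.map (homOfLE hWW').op) hP)
    (by
      rintro (j | k')
      · obtain ⟨W, hxW, iU, iV, hW⟩ := TopCat.Presheaf.germ_eq M.presheaf x hxW₁ hxW₁ _ _ (e1 j)
        refine ⟨W, hxW, leOfHom iU, ?_⟩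
        have h1 : homOfLE (leOfHom iU) = iU := Subsingleton.elim _ _
        have h2 : homOfLE (leOfHom iU) = iV := Subsingleton.elim _ _
        rw [h1]
        rw [h1] at h2
        rw [← h2] at hW
        exact hW
      · obtain ⟨W, hxW, iU, iV, hW⟩ := TopCat.Presheaf.germ_eq X.presheaf x hxW₁ hxW₁ _ _ (e2 k')
        refine ⟨W, hxW, leOfHom iU, ?_⟩
        have h1 : homOfLE (leOfHom iU) = iU := Subsingleton.elim _ _
        have h2 : homOfLE (leOfHom iU) = iV := Subsingleton.elim _ _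
        rw [h1]
        rw [h1] at h2
        rw [← h2] at hW
        exact hW)
    W₁ hxW₁
  let g₂ : W₂ ⟶ W₁ := homOfLE hW₂W₁
  refine ⟨W₂, g₂ ≫ g₁, ⟨k, fun k' => M.presheaf.map g₂.op (t k'),
    fun j k' => X.presheaf.map g₂.op (a j k'), ?_, ?_⟩, hxW₂⟩
  · intro j
    obtain ⟨hW, hj⟩ := heq (Sum.inl j)
    change M.presheaf.map (g₂ ≫ g₁).op (s' j) =
      ∑ k', X.presheaf.map g₂.op (a j k') • M.presheaf.map g₂.op (t k')
    rw [op_comp, Functor.map_comp]
    refine (hj : _).trans ?_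
    rw [map_sum]
    exact Finset.sum_congr rfl fun k' _ => Scheme.Modules.map_smul M _ _ _
  · intro k'
    obtain ⟨hW, hk⟩ := heq (Sum.inr k')
    change ∑ j, X.presheaf.map g₂.op (a j k') * X.presheaf.map (g₂ ≫ g₁).op (f' j) = 0
    rw [map_zero] at hk
    rw [← hk, map_sum]
    refine Finset.sum_congr rfl fun j _ => ?_
    rw [map_mul, op_comp, Functor.map_comp]
    rfl

end Groth.Agent.Lib.Helper12.FlatBridge
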