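import Groth.Agent.Lib.Helper12.KFlat13

set_option autoImplicit false
universe u
open CategoryTheory CategoryTheory.Limits

namespace Groth.Agent.Lib.Helper12.FreeRes

open ModSite Groth.Agent.Lib.Helper42.Flat Groth.Agent.Lib.Helper42.Flat2
  Groth.Agent.Lib.Helper42.TensorColim Groth.Agent.Lib.Helper42.FlatCx
open CochainComplex CochainComplex.HomComplex

variable {C : Type u} [SmallCategory C] {J : GrothendieckTopology C} {O : Sheaf J CommRingCat.{u}}

section Gen

abbrev GenIdx (M : Mod O) : Type u := {p : Σ U : C, (freeOn O U ⟶ M) // p.2 ≠ 0}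

noncomputable def genObj (M : Mod O) : Mod O := ∐ (fun i : GenIdx M => freeOn O i.1.1)

noncomputable def genπ (M : Mod O) : genObj M ⟶ M := Sigma.desc (fun i => i.1.2)

noncomputable def genι (M : Mod O) (i : GenIdx M) : freeOn O i.1.1 ⟶ genObj M :=
  Sigma.ι (fun i : GenIdx M => freeOn O i.1.1) i

@[reassoc]
theorem genι_π (M : Mod O) (i : GenIdx M) : genι M i ≫ genπ M = i.1.2 :=
  Sigma.ι_desc (fun i : GenIdx M => i.1.2) i

instance epi_genπ (M : Mod O) : Epi (genπ M) := by
  constructor
  intro N f g hfg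
  apply freeOn_isSeparating O
  rintro G ⟨U⟩ h
  by_cases h0 : h = 0
  · rw [h0, zero_comp, zero_comp]
  · have : h = genι M ⟨⟨U, h⟩, h0⟩ ≫ genπ M := (genι_π M ⟨⟨U, h⟩, h0⟩).symm
    rw [this, Category.assoc, Category.assoc, hfg]

theorem isZero_sigma_of_isEmpty {ι : Type u} [IsEmpty ι] (f : ι → Mod O) : IsZero (∐ f) := by
  rw [IsZero.iff_id_eq_zero]
  apply Sigma.hom_ext
  intro j
  exact isEmptyElim j

theorem isZero_genObj (M : Mod O) (hM : IsZero M) : IsZero (genObj M) := by
  have : IsEmpty (GenIdx M) := ⟨fun i => i.2 (hM.eq_of_tgt _ _)⟩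
  exact isZero_sigma_of_isEmpty _

end Gen

section Step

variable {K G : CochainComplex (Mod O) ℤ} (q : K ⟶ G)

noncomputable def attX (p : ℤ) : Mod O := genObj ((mappingCone q).cycles (p - 1))

noncomputable def attCx : CochainComplex (Mod O) ℤ := KFlat.zeroCx (attX q)

noncomputable def attGen (p : ℤ) : (attCx q).X p ⟶ (mappingCone q).cycles (p - 1) :=
  genπ ((mappingCone q).cycles (p - 1))

instance epi_attGen (p : ℤ) : Epi (attGen q p) := epi_genπ _

noncomputable def attCyc (p : ℤ) : (attCx q).X p ⟶ (mappingCone q).X (p - 1) :=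
  attGen q p ≫ (mappingCone q).iCycles (p - 1)

theorem attCx_d (p p' : ℤ) : (attCx q).d p p' = 0 := rfl

theorem attCyc_d (p : ℤ) (p' : ℤ) : attCyc q p ≫ (mappingCone q).d (p - 1) p' = 0 := by
  rw [attCyc, Category.assoc, HomologicalComplex.iCycles_d, comp_zero]

noncomputable def att : attCx q ⟶ K where
  f p := attCyc q p ≫ (mappingCone.fst q).1.v (p - 1) p (by omega)
  comm' p p' h := by
    have h' : p + 1 = p' := h
    rw [attCx_d, zero_comp, Category.assoc]
    have := mappingCone.d_fst_v q (p - 1) p p' (by omega) h'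
    have h2 : (mappingCone.fst q).1.v (p - 1) p (by omega) ≫ K.d p p' =
        -((mappingCone q).d (p - 1) p ≫ (mappingCone.fst q).1.v p p' h') := by
      rw [this, neg_neg]
    rw [h2, Preadditive.comp_neg, ← Category.assoc, attCyc_d, zero_comp, neg_zero]

noncomputable def attα : Cochain (attCx q) G (-1) :=
  Cochain.mk (fun p p' hpp' => -(attCyc q p ≫ (mappingCone.snd q).v (p - 1) p' (by omega)))

theorem attα_eq : δ (-1) 0 (attα q) = Cochain.ofHom (att q ≫ q) := by
  apply Cochain.ext₀
  intro p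
  rw [δ_v (-1) 0 (by omega) (attα q) p p (add_zero p) (p - 1) (p + 1) rfl rfl]
  rw [attCx_d, zero_comp, smul_zero, add_zero, Cochain.ofHom_v]
  change (-(attCyc q p ≫ (mappingCone.snd q).v (p - 1) (p - 1) (by omega))) ≫ G.d (p - 1) p =
    (attCyc q p ≫ (mappingCone.fst q).1.v (p - 1) p (by omega)) ≫ q.f p
  have h := mappingCone.d_snd_v q (p - 1) p (by omega)
  have h2 : attCyc q p ≫ ((mappingCone q).d (p - 1) p ≫ (mappingCone.snd q).v p p (add_zero p)) =
      attCyc q p ≫ ((mappingCone.fst q).1.v (p - 1) p (by omega) ≫ q.f p +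
        (mappingCone.snd q).v (p - 1) (p - 1) (add_zero _) ≫ G.d (p - 1) p) := by rw [h]
  rw [← Category.assoc, attCyc_d, zero_comp, Preadditive.comp_add] at h2
  rw [Preadditive.neg_comp, Category.assoc, Category.assoc]
  exact (eq_neg_of_add_eq_zero_left h2.symm).symm


noncomputable abbrev stepK : CochainComplex (Mod O) ℤ := mappingCone (att q)

noncomputable abbrev stepJ : K ⟶ stepK q := mappingCone.inr (att q)

noncomputable def stepQ : stepK q ⟶ G := mappingCone.desc (att q) (attα q) q (attα_eq q)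

@[reassoc (attr := simp)]
theorem stepJ_Q : stepJ q ≫ stepQ q = q := mappingCone.inr_desc _ _ _ _

noncomputable def stepφ : mappingCone q ⟶ mappingCone (stepQ q) :=
  mappingCone.map q (stepQ q) (stepJ q) (𝟙 G) (by rw [Category.comp_id, stepJ_Q])

theorem inl_stepφ (p p' : ℤ) (h : p + (-1) = p') :
    (mappingCone.inl q).v p p' h ≫ (stepφ q).f p' =
      (stepJ q).f p ≫ (mappingCone.inl (stepQ q)).v p p' h := by
  unfold stepφ mappingCone.map
  rw [mappingCone.inl_v_desc_f, Cochain.zero_cochain_comp_v, Cochain.ofHom_v]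

theorem inr_stepφ (p : ℤ) :
    (mappingCone.inr q).f p ≫ (stepφ q).f p = (mappingCone.inr (stepQ q)).f p := by
  unfold stepφ mappingCone.map
  rw [mappingCone.inr_f_desc_f, Category.id_comp]

noncomputable def stepE (p m : ℤ) (hm : m + 1 = p - 1) :
    (attCx q).X p ⟶ (mappingCone (stepQ q)).X m :=
  (mappingCone.inl (att q)).v p (p - 1) (by omega) ≫
    (mappingCone.inl (stepQ q)).v (p - 1) m (by omega)

theorem stepE_d (p m : ℤ) (hm : m + 1 = p - 1) :
    stepE q p m hm ≫ (mappingCone (stepQ q)).d m (p - 1) = -(attCyc q p ≫ (stepφ q).f (p - 1)) := by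
  have h1 := mappingCone.inl_v_d (stepQ q) (p - 1) m p (by omega) (by omega)
  have h2 := mappingCone.inl_v_d (att q) p (p - 1) (p + 1) (by omega) (by omega)
  rw [attCx_d, zero_comp, sub_zero] at h2
  have h3 : (mappingCone.inl (att q)).v p (p - 1) (by omega) ≫ (stepQ q).f (p - 1) =
      -(attCyc q p ≫ (mappingCone.snd q).v (p - 1) (p - 1) (add_zero _)) :=
    mappingCone.inl_v_desc_f _ _ _ _ _ _ _
  have hid := mappingCone.id_X q (p - 1) p (by omega)
  have h4 : attCyc q p ≫ (stepφ q).f (p - 1) =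
      attCyc q p ≫ ((mappingCone.fst q).1.v (p - 1) p (by omega) ≫
        (mappingCone.inl q).v p (p - 1) (by omega) +
        (mappingCone.snd q).v (p - 1) (p - 1) (add_zero _) ≫ (mappingCone.inr q).f (p - 1)) ≫
        (stepφ q).f (p - 1) := by
    rw [hid, Category.id_comp]
  rw [h4]
  unfold stepE
  rw [Category.assoc, h1, Preadditive.comp_sub, ← Category.assoc, h3]
  rw [← Category.assoc ((mappingCone.inl (att q)).v p (p - 1) _), h2]
  simp only [Preadditive.add_comp, Preadditive.comp_add, Category.assoc, inl_stepφ, inr_stepφ,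
    Preadditive.neg_comp]
  have h5 : attCyc q p ≫ (mappingCone.fst q).1.v (p - 1) p (by omega) = (att q).f p := rfl
  rw [← Category.assoc (attCyc q p) ((mappingCone.fst q).1.v (p - 1) p _), h5]
  unfold stepJ
  abel


theorem homologyMap_stepφ (i : ℤ) : HomologicalComplex.homologyMap (stepφ q) i = 0 := by
  obtain ⟨p, rfl⟩ : ∃ p, i = p - 1 := ⟨i + 1, by omega⟩
  rw [← cancel_epi ((mappingCone q).homologyπ (p - 1)), comp_zero,
    HomologicalComplex.homologyπ_naturality]
  rw [← cancel_epi (attGen q p), comp_zero]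
  have key : attGen q p ≫ HomologicalComplex.cyclesMap (stepφ q) (p - 1) =
      (-(stepE q p (p - 1 - 1) (by omega))) ≫
        (mappingCone (stepQ q)).toCycles (p - 1 - 1) (p - 1) := by
    rw [← cancel_mono ((mappingCone (stepQ q)).iCycles (p - 1))]
    rw [Category.assoc, HomologicalComplex.cyclesMap_i, Category.assoc,
      HomologicalComplex.toCycles_i, Preadditive.neg_comp, stepE_d, neg_neg]
    rfl
  rw [← Category.assoc, key, Category.assoc, HomologicalComplex.toCycles_comp_homologyπ,
    comp_zero]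

end Step

section StepProps

variable {K G : CochainComplex (Mod O) ℤ} (q : K ⟶ G)

theorem epi_stepQ_f (n : ℤ) (h : Epi (q.f n)) : Epi ((stepQ q).f n) := by
  have h' : (stepJ q).f n ≫ (stepQ q).f n = q.f n := by
    rw [← HomologicalComplex.comp_f, stepJ_Q]
  exact epi_of_epi_fac h'

end StepProps

section Start

variable (G : CochainComplex (Mod O) ℤ)

noncomputable def startX (p : ℤ) : Mod O := genObj (G.X (p - 1))

noncomputable def startZ : CochainComplex (Mod O) ℤ := KFlat.zeroCx (startX G)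

noncomputable def startGen (p : ℤ) : (startZ G).X p ⟶ G.X (p - 1) := genπ (G.X (p - 1))

instance epi_startGen (p : ℤ) : Epi (startGen G p) := epi_genπ _

theorem startZ_d (p p' : ℤ) : (startZ G).d p p' = 0 := rfl

noncomputable def startα : Cochain (startZ G) G (-1) :=
  Cochain.mk (fun p p' _ => startGen G p ≫ (Cochain.ofHom (𝟙 G)).v (p - 1) p' (by omega))

theorem startα_v (p : ℤ) :
    (startα G).v p (p - 1) (by omega) = startGen G p := by
  change startGen G p ≫ (Cochain.ofHom (𝟙 G)).v (p - 1) (p - 1) _ = _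
  rw [Cochain.ofHom_v, HomologicalComplex.id_f, Category.comp_id]

noncomputable def startβ : startZ G ⟶ G where
  f p := startGen G p ≫ G.d (p - 1) p
  comm' p p' _ := by
    rw [startZ_d, zero_comp, Category.assoc, G.d_comp_d, comp_zero]

theorem startα_eq : δ (-1) 0 (startα G) = Cochain.ofHom (𝟙 (startZ G) ≫ startβ G) := by
  apply Cochain.ext₀
  intro p
  rw [δ_v (-1) 0 (by omega) (startα G) p p (add_zero p) (p - 1) (p + 1) rfl rfl]
  rw [startZ_d, zero_comp, smul_zero, add_zero, Cochain.ofHom_v, startα_v, Category.id_comp]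
  rfl

noncomputable def startK : CochainComplex (Mod O) ℤ := mappingCone (𝟙 (startZ G))

noncomputable def startQ : startK G ⟶ G :=
  mappingCone.desc (𝟙 (startZ G)) (startα G) (startβ G) (startα_eq G)

theorem epi_startQ_f (n : ℤ) : Epi ((startQ G).f n) := by
  obtain ⟨p, rfl⟩ : ∃ p, n = p - 1 := ⟨n + 1, by omega⟩
  have h : (mappingCone.inl (𝟙 (startZ G))).v p (p - 1) (by omega) ≫ (startQ G).f (p - 1) =
      startGen G p := by
    unfold startQ
    rw [mappingCone.inl_v_desc_f, startα_v]
  exact epi_of_epi_fac h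

end Start

section Iterate

variable {G : CochainComplex (Mod O) ℤ}

noncomputable def nextO (s : Over G) : Over G := Over.mk (stepQ s.hom)

noncomputable def nextJ (s : Over G) : s ⟶ nextO s := Over.homMk (stepJ s.hom) (stepJ_Q s.hom)

end Iterate

section IterateFrom

variable {G : CochainComplex (Mod O) ℤ} (s₀ : Over G)

noncomputable def stageFrom : ℕ → Over G := fun n => Nat.rec s₀ (fun _ s => nextO s) n

noncomputable def towerFrom : ℕ ⥤ Over G :=
  Functor.ofSequence (X := stageFrom s₀) (fun n => nextJ (stageFrom s₀ n))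

theorem towerFrom_map_succ (n : ℕ) :
    (towerFrom s₀).map (homOfLE (Nat.le_succ n)) = nextJ (stageFrom s₀ n) :=
  Functor.ofSequence_map_homOfLE_succ _ n

theorem homologyMap_coneTowerFrom (n : ℕ) (i : ℤ) :
    HomologicalComplex.homologyMap
      ((towerFrom s₀ ⋙ KFlat.coneFunctor G).map (homOfLE (Nat.le_succ n))) i = 0 := by
  have h : (towerFrom s₀ ⋙ KFlat.coneFunctor G).map (homOfLE (Nat.le_succ n)) =
      stepφ (stageFrom s₀ n).hom := by
    change (KFlat.coneFunctor G).map ((towerFrom s₀).map (homOfLE (Nat.le_succ n))) = _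
    rw [towerFrom_map_succ]
    rfl
  rw [h]
  exact homologyMap_stepφ _ i

noncomputable def towerFromF : ℕ ⥤ CochainComplex (Mod O) ℤ := towerFrom s₀ ⋙ Over.forget G

noncomputable def fromCocone : Cocone (towerFrom s₀ ⋙ Over.forget G) :=
  colimit.cocone (towerFromF s₀)

noncomputable def fromIsColimit : IsColimit (fromCocone s₀) := colimit.isColimit (towerFromF s₀)

noncomputable def fromIsColimitEval (j : ℤ) :
    IsColimit ((HomologicalComplex.eval (Mod O) (ComplexShape.up ℤ) j).mapCocone
      (fromCocone s₀)) :=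
  isColimitOfPreserves _ (fromIsColimit s₀)

noncomputable def fromQ : (fromCocone s₀).pt ⟶ G :=
  (fromIsColimit s₀).desc ((Over.forgetCocone G).whisker (towerFrom s₀))

theorem fromQ_fac (n : ℕ) :
    KFlat.cι (towerFrom s₀) (fromCocone s₀) n ≫ fromQ s₀ = ((towerFrom s₀).obj n).hom :=
  (fromIsColimit s₀).fac ((Over.forgetCocone G).whisker (towerFrom s₀)) n

theorem acyc_cone_fromQ : KFlat.Acyc (mappingCone (fromQ s₀)) :=
  KFlat.acyc_of_isColimit_of_homologyMap_eq_zero (towerFrom s₀ ⋙ KFlat.coneFunctor G)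
    (KFlat.coneCocone (towerFrom s₀) (fromCocone s₀) (fromQ s₀) (fromQ_fac s₀))
    (fun j => KFlat.isColimitConeCocone (towerFrom s₀) (fromCocone s₀) (fromQ s₀) (fromQ_fac s₀) j
      (fromIsColimitEval s₀))
    (homologyMap_coneTowerFrom s₀)

theorem quasiIso_fromQ : QuasiIso (fromQ s₀) :=
  (KFlat.acyclic_mappingCone_iff (fromQ s₀)).mp ((KFlat.acyclic_iff_acyc _).mpr (acyc_cone_fromQ s₀))

noncomputable def fromB : s₀.left ⟶ (fromCocone s₀).pt := KFlat.cι (towerFrom s₀) (fromCocone s₀) 0

theorem fromB_Q : fromB s₀ ≫ fromQ s₀ = s₀.hom := fromQ_fac s₀ 0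

end IterateFrom

end Groth.Agent.Lib.Helper12.FreeRes
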