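import Groth.Agent.Lib.Helper12.FreeRes1

set_option autoImplicit false
universe u
open CategoryTheory CategoryTheory.Limits

namespace Groth.Agent.Lib.Helper12.FreeRes

section SplitTower

universe v₂ u₂

variable {A : Type u₂} [Category.{v₂} A] [Preadditive A] [HasBinaryBiproducts A]

structure SplitData (F : ℕ ⥤ A) (Z : ℕ → A) where
  r : ∀ m, F.obj (m + 1) ⟶ F.obj m
  i : ∀ m, Z m ⟶ F.obj (m + 1)
  p : ∀ m, F.obj (m + 1) ⟶ Z m
  map_r : ∀ m, F.map (homOfLE (Nat.le_succ m)) ≫ r m = 𝟙 _
  i_p : ∀ m, i m ≫ p m = 𝟙 _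
  map_p : ∀ m, F.map (homOfLE (Nat.le_succ m)) ≫ p m = 0
  i_r : ∀ m, i m ≫ r m = 0
  total : ∀ m, r m ≫ F.map (homOfLE (Nat.le_succ m)) + p m ≫ i m = 𝟙 _

variable {F : ℕ ⥤ A} {Z : ℕ → A} [HasCoproduct Z] (D : SplitData F Z)

namespace SplitData

noncomputable abbrev T (_ : SplitData F Z) : A := F.obj 0 ⊞ ∐ Z

noncomputable def φ : ∀ m, F.obj m ⟶ D.T
  | 0 => biprod.inl
  | (m + 1) => D.r m ≫ φ m + D.p m ≫ Sigma.ι Z m ≫ biprod.inr

theorem φ_zero : D.φ 0 = biprod.inl := rfl

theorem φ_succ (m : ℕ) :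
    D.φ (m + 1) = D.r m ≫ D.φ m + D.p m ≫ Sigma.ι Z m ≫ biprod.inr := rfl

theorem map_φ (m : ℕ) : F.map (homOfLE (Nat.le_succ m)) ≫ D.φ (m + 1) = D.φ m := by
  rw [φ_succ, Preadditive.comp_add, ← Category.assoc, D.map_r, Category.id_comp,
    ← Category.assoc, D.map_p, zero_comp, add_zero]

theorem i_φ (m : ℕ) : D.i m ≫ D.φ (m + 1) = Sigma.ι Z m ≫ biprod.inr := by
  rw [φ_succ, Preadditive.comp_add, ← Category.assoc, D.i_r, zero_comp, zero_add,
    ← Category.assoc, D.i_p, Category.id_comp]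

noncomputable def cocone : Cocone F where
  pt := D.T
  ι := NatTrans.ofSequence (G := (Functor.const ℕ).obj D.T) D.φ (fun m => by
    rw [D.map_φ m]
    exact (Category.comp_id _).symm)

theorem cocone_ι_app (m : ℕ) : D.cocone.ι.app m = D.φ m := rfl

noncomputable def descT (s : Cocone F) : D.T ⟶ s.pt :=
  biprod.desc (s.ι.app 0) (Sigma.desc (fun m => D.i m ≫ s.ι.app (m + 1)))

theorem φ_descT (s : Cocone F) (m : ℕ) : D.φ m ≫ D.descT s = s.ι.app m := by
  induction m with
  | zero => exact biprod.inl_desc _ _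
  | succ m ih =>
    rw [φ_succ, Preadditive.add_comp, Category.assoc, ih, Category.assoc, Category.assoc]
    unfold descT
    rw [biprod.inr_desc, Sigma.ι_desc, ← s.w (homOfLE (Nat.le_succ m)), ← Category.assoc,
      ← Category.assoc (D.p m)]
    exact (Preadditive.add_comp _ _ _ _ _ _).symm.trans
      ((congrArg (fun x => x ≫ s.ι.app (m + 1)) (D.total m)).trans (Category.id_comp _))

noncomputable def isColimit : IsColimit D.cocone where
  desc s := D.descT s
  fac s m := D.φ_descT s m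
  uniq s g hg := by
    suffices key : ∀ (g : D.T ⟶ s.pt), (∀ m, D.φ m ≫ g = s.ι.app m) → g = D.descT s from
      key g hg
    clear hg g
    intro g hg'
    unfold descT
    apply biprod.hom_ext'
    · rw [biprod.inl_desc]
      exact hg' 0
    · rw [biprod.inr_desc]
      apply Sigma.hom_ext
      intro m
      rw [Sigma.ι_desc, ← hg' (m + 1), ← Category.assoc, ← Category.assoc, D.i_φ]

end SplitData

noncomputable def splitIso (c : Cocone F) (hc : IsColimit c) : c.pt ≅ F.obj 0 ⊞ ∐ Z :=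
  hc.coconePointUniqueUpToIso D.isColimit

theorem ι_splitIso (c : Cocone F) (hc : IsColimit c) :
    c.ι.app 0 ≫ (splitIso D c hc).hom = biprod.inl :=
  hc.comp_coconePointUniqueUpToIso_hom D.isColimit 0

end SplitTower

section Coker

universe v₂ u₂

variable {A : Type u₂} [Category.{v₂} A] [Preadditive A] [HasBinaryBiproducts A]

noncomputable def cokerIso {X Y Z : A} (f : X ⟶ Y) (e : Y ≅ X ⊞ Z) (h : f ≫ e.hom = biprod.inl)
    [HasCokernel f] : cokernel f ≅ Z := by
  have hc : IsColimit (CokernelCofork.ofπ (f := f) (e.hom ≫ biprod.snd)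
      (by rw [← Category.assoc, h, biprod.inl_snd])) :=
    CokernelCofork.IsColimit.ofπ _ _
      (fun g hg => biprod.inr ≫ e.inv ≫ g)
      (fun g hg => by
        have h1 : f = biprod.inl ≫ e.inv := by rw [← h, Category.assoc, e.hom_inv_id, Category.comp_id]
        rw [← cancel_epi e.inv, Category.assoc, e.inv_hom_id_assoc]
        apply biprod.hom_ext'
        · rw [biprod.inl_snd_assoc, zero_comp, ← Category.assoc, ← h1, hg]
        · rw [biprod.inr_snd_assoc])
      (fun g hg b hb => by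
        rw [← hb, ← Category.assoc, ← Category.assoc, ← Category.assoc, Category.assoc biprod.inr,
          e.inv_hom_id, Category.comp_id, biprod.inr_snd, Category.id_comp])
  exact (colimit.isColimit _).coconePointUniqueUpToIso hc

end Coker

end Groth.Agent.Lib.Helper12.FreeRes
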