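import Groth.Agent.Lib.Helper12.FreeRes2
import Mathlib.CategoryTheory.Limits.Shapes.CombinedProducts

set_option autoImplicit false
universe u
open CategoryTheory CategoryTheory.Limits

namespace Groth.Agent.Lib.Helper12.FreeRes

open ModSite Groth.Agent.Lib.Helper42.Flat Groth.Agent.Lib.Helper42.Flat2
  Groth.Agent.Lib.Helper42.TensorColim Groth.Agent.Lib.Helper42.FlatCx
open CochainComplex CochainComplex.HomComplex

variable {C : Type u} [SmallCategory C] {J : GrothendieckTopology C} {O : Sheaf J CommRingCat.{u}}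

section Freeish

def IsFreeish (M : Mod O) : Prop :=
  ∃ (ι : Type u) (U : ι → C), Nonempty (M ≅ ∐ fun j => freeOn O (U j))

theorem isFreeish_of_iso {M N : Mod O} (e : M ≅ N) (h : IsFreeish N) : IsFreeish M := by
  obtain ⟨ι, U, ⟨e'⟩⟩ := h
  exact ⟨ι, U, ⟨e ≪≫ e'⟩⟩

theorem isFreeish_genObj (M : Mod O) : IsFreeish (genObj M) :=
  ⟨GenIdx M, fun i => i.1.1, ⟨Iso.refl _⟩⟩

theorem isFreeish_of_isZero (M : Mod O) (h : IsZero M) : IsFreeish (O := O) M :=
  ⟨PEmpty, PEmpty.elim, ⟨h.iso (isZero_sigma_of_isEmpty _)⟩⟩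

theorem isFreeish_biprod {M N : Mod O} (hM : IsFreeish M) (hN : IsFreeish N) :
    IsFreeish (M ⊞ N) := by
  obtain ⟨ι₁, U₁, ⟨e₁⟩⟩ := hM
  obtain ⟨ι₂, U₂, ⟨e₂⟩⟩ := hN
  refine ⟨ι₁ ⊕ ι₂, Sum.elim U₁ U₂, ⟨biprod.mapIso e₁ e₂ ≪≫ ?_⟩⟩
  have hc := Cofan.combPairIsColimit
    (c₁ := Cofan.mk _ (Sigma.ι fun j => freeOn O (U₁ j)))
    (c₂ := Cofan.mk _ (Sigma.ι fun j => freeOn O (U₂ j)))
    (bc := (BinaryBiproduct.bicone (∐ fun j => freeOn O (U₁ j))
      (∐ fun j => freeOn O (U₂ j))).toCocone)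
    (coproductIsCoproduct _) (coproductIsCoproduct _) (BinaryBiproduct.isColimit _ _)
  refine hc.coconePointUniqueUpToIso (coproductIsCoproduct _) ≪≫ ?_
  exact Sigma.mapIso (fun j => by
    cases j
    · exact Iso.refl _
    · exact Iso.refl _)

theorem isFreeish_sigma {κ : Type} (Z : κ → Mod O) (h : ∀ k, IsFreeish (Z k)) :
    IsFreeish (∐ Z) := by
  choose ι U e using h
  refine ⟨Σ k, ι k, fun p => U p.1 p.2, ⟨?_⟩⟩
  exact Sigma.mapIso (fun k => (e k).some) ≪≫
    sigmaSigmaIso ι (fun k j => freeOn O (U k j))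

end Freeish

section Bdd

def BddLE (K : CochainComplex (Mod O) ℤ) (b : ℤ) : Prop := ∀ i, b < i → IsZero (K.X i)

theorem BddLE.mono {K : CochainComplex (Mod O) ℤ} {b b' : ℤ} (h : BddLE K b) (hb : b ≤ b') :
    BddLE K b' := fun i hi => h i (by omega)

theorem isZero_cone_X {K₁ K₂ : CochainComplex (Mod O) ℤ} (φ : K₁ ⟶ K₂) (i : ℤ)
    (h₁ : IsZero (K₁.X (i + 1))) (h₂ : IsZero (K₂.X i)) : IsZero ((mappingCone φ).X i) := by
  rw [IsZero.iff_id_eq_zero, ← mappingCone.id_X φ i (i + 1) rfl,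
    h₁.eq_of_tgt ((mappingCone.fst φ).1.v i (i + 1) rfl) 0,
    h₂.eq_of_tgt ((mappingCone.snd φ).v i i (add_zero i)) 0, zero_comp, zero_comp, add_zero]

noncomputable def coneXIso {K₁ K₂ : CochainComplex (Mod O) ℤ} (φ : K₁ ⟶ K₂) (i : ℤ) :
    (mappingCone φ).X i ≅ K₁.X (i + 1) ⊞ K₂.X i where
  hom := biprod.lift ((mappingCone.fst φ).1.v i (i + 1) rfl) ((mappingCone.snd φ).v i i (add_zero i))
  inv := biprod.desc ((mappingCone.inl φ).v (i + 1) i (by omega)) ((mappingCone.inr φ).f i)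
  hom_inv_id := by
    rw [biprod.lift_desc]
    exact mappingCone.id_X φ i (i + 1) rfl
  inv_hom_id := by
    apply biprod.hom_ext' <;> apply biprod.hom_ext <;>
      simp [mappingCone.inl_v_fst_v, mappingCone.inl_v_snd_v, mappingCone.inr_f_fst_v,
        mappingCone.inr_f_snd_v]

variable {K G : CochainComplex (Mod O) ℤ}

theorem bddLE_stepK (q : K ⟶ G) (b : ℤ) (hK : BddLE K b) (hG : BddLE G b) :
    BddLE (stepK q) b := by
  intro i hi
  apply isZero_cone_X
  · change IsZero (genObj ((mappingCone q).cycles (i + 1 - 1)))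
    apply isZero_genObj
    have h0 : IsZero ((mappingCone q).X (i + 1 - 1)) :=
      isZero_cone_X q _ (hK _ (by omega)) (hG _ (by omega))
    exact IsZero.of_mono ((mappingCone q).iCycles (i + 1 - 1)) h0
  · exact hK i hi

theorem bddLE_startK (b : ℤ) (hG : BddLE G b) : BddLE (startK G) (b + 1) := by
  intro i hi
  apply isZero_cone_X
  · change IsZero (genObj (G.X (i + 1 - 1)))
    exact isZero_genObj _ (hG _ (by omega))
  · change IsZero (genObj (G.X (i - 1)))
    exact isZero_genObj _ (hG _ (by omega))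

theorem bddLE_biprod (K L : CochainComplex (Mod O) ℤ) (b : ℤ) (hK : BddLE K b) (hL : BddLE L b) :
    BddLE (K ⊞ L) b := by
  intro i hi
  rw [IsZero.iff_id_eq_zero]
  have h : (𝟙 (K ⊞ L) : K ⊞ L ⟶ K ⊞ L).f i = 𝟙 _ := rfl
  rw [← h, ← biprod.total, HomologicalComplex.add_f_apply, HomologicalComplex.comp_f,
    HomologicalComplex.comp_f, (hK i hi).eq_of_tgt ((biprod.fst : K ⊞ L ⟶ K).f i) 0,
    (hL i hi).eq_of_tgt ((biprod.snd : K ⊞ L ⟶ L).f i) 0, zero_comp, zero_comp, add_zero]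

theorem bddLE_stageFrom (s₀ : Over G) (b : ℤ) (h₀ : BddLE s₀.left b) (hG : BddLE G b) (n : ℕ) :
    BddLE (stageFrom s₀ n).left b := by
  induction n with
  | zero => exact h₀
  | succ n ih => exact bddLE_stepK _ b ih hG

theorem bddLE_fromK (s₀ : Over G) (b : ℤ) (h₀ : BddLE s₀.left b) (hG : BddLE G b) :
    BddLE (fromCocone s₀).pt b := by
  intro i hi
  rw [IsZero.iff_id_eq_zero]
  apply (fromIsColimitEval s₀ i).hom_ext
  intro n
  exact (bddLE_stageFrom s₀ b h₀ hG n i hi).eq_of_src _ _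

end Bdd

section Degreewise

variable {G : CochainComplex (Mod O) ℤ} (s₀ : Over G) (i : ℤ)

noncomputable def attZ (m : ℕ) : Mod O := attX (stageFrom s₀ m).hom (i + 1)

theorem towerFromF_map_succ_f (m : ℕ) :
    ((towerFromF s₀ ⋙ HomologicalComplex.eval (Mod O) (ComplexShape.up ℤ) i).map
      (homOfLE (Nat.le_succ m))) = (mappingCone.inr (att (stageFrom s₀ m).hom)).f i := by
  change ((towerFrom s₀).map (homOfLE (Nat.le_succ m))).left.f i = _
  rw [towerFrom_map_succ]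
  rfl

noncomputable def splitData :
    SplitData (towerFromF s₀ ⋙ HomologicalComplex.eval (Mod O) (ComplexShape.up ℤ) i)
      (attZ s₀ i) where
  r m := (mappingCone.snd (att (stageFrom s₀ m).hom)).v i i (add_zero i)
  i m := (mappingCone.inl (att (stageFrom s₀ m).hom)).v (i + 1) i (by omega)
  p m := (mappingCone.fst (att (stageFrom s₀ m).hom)).1.v i (i + 1) rfl
  map_r m := by
    rw [towerFromF_map_succ_f]
    exact mappingCone.inr_f_snd_v _ _
  i_p m := mappingCone.inl_v_fst_v _ _ _ _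
  map_p m := by
    rw [towerFromF_map_succ_f]
    exact mappingCone.inr_f_fst_v _ _ _ _
  i_r m := mappingCone.inl_v_snd_v _ _ _ _
  total m := by
    have h := towerFromF_map_succ_f s₀ i m
    have h2 := mappingCone.id_X (att (stageFrom s₀ m).hom) i (i + 1) rfl
    rw [add_comm] at h2
    exact (congrArg (fun x : (stageFrom s₀ m).left.X i ⟶ (mappingCone (att (stageFrom s₀ m).hom)).X i =>
      (mappingCone.snd (att (stageFrom s₀ m).hom)).v i i (add_zero i) ≫ x +
      (mappingCone.fst (att (stageFrom s₀ m).hom)).1.v i (i + 1) rfl ≫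
        (mappingCone.inl (att (stageFrom s₀ m).hom)).v (i + 1) i (by omega)) h).trans h2

noncomputable def fromXIso : (fromCocone s₀).pt.X i ≅ s₀.left.X i ⊞ ∐ (attZ s₀ i) :=
  splitIso (splitData s₀ i)
    ((HomologicalComplex.eval (Mod O) (ComplexShape.up ℤ) i).mapCocone (fromCocone s₀))
    (fromIsColimitEval s₀ i)

theorem fromB_fromXIso : (fromB s₀).f i ≫ (fromXIso s₀ i).hom = biprod.inl :=
  ι_splitIso (splitData s₀ i) _ (fromIsColimitEval s₀ i)

theorem isFreeish_attZ : IsFreeish (∐ (attZ s₀ i)) :=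
  isFreeish_sigma _ (fun _ => isFreeish_genObj _)

end Degreewise

end Groth.Agent.Lib.Helper12.FreeRes
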