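import Groth.Agent.Lib.Helper12.FreeRes3

set_option autoImplicit false
universe u
open CategoryTheory CategoryTheory.Limits

namespace Groth.Agent.Lib.Helper12.FreeRes

open ModSite Groth.Agent.Lib.Helper42.Flat Groth.Agent.Lib.Helper42.Flat2
  Groth.Agent.Lib.Helper42.TensorColim Groth.Agent.Lib.Helper42.FlatCx
open CochainComplex CochainComplex.HomComplex

variable {C : Type u} [SmallCategory C] {J : GrothendieckTopology C} {O : Sheaf J CommRingCat.{u}}

section Aux

theorem inl_inl_associator (P Q R : Mod O) :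
    (biprod.inl : P ⟶ P ⊞ Q) ≫ (biprod.inl : P ⊞ Q ⟶ (P ⊞ Q) ⊞ R) ≫
      (biprod.associator P Q R).hom = biprod.inl := by
  apply biprod.hom_ext
  · simp
  · apply biprod.hom_ext <;> simp

noncomputable def evalBiprodIso (K L : CochainComplex (Mod O) ℤ) (i : ℤ) :
    (K ⊞ L).X i ≅ K.X i ⊞ L.X i :=
  (HomologicalComplex.eval (Mod O) (ComplexShape.up ℤ) i).mapBiprod K L

theorem inl_f_evalBiprodIso (K L : CochainComplex (Mod O) ℤ) (i : ℤ) :
    (biprod.inl : K ⟶ K ⊞ L).f i ≫ (evalBiprodIso K L i).hom = biprod.inl := by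
  have h : (evalBiprodIso K L i).hom = biprod.lift ((biprod.fst : K ⊞ L ⟶ K).f i)
      ((biprod.snd : K ⊞ L ⟶ L).f i) := rfl
  rw [h]
  apply biprod.hom_ext
  · rw [Category.assoc, biprod.lift_fst, biprod.inl_fst, ← HomologicalComplex.comp_f,
      biprod.inl_fst, HomologicalComplex.id_f]
  · rw [Category.assoc, biprod.lift_snd, biprod.inl_snd, ← HomologicalComplex.comp_f,
      biprod.inl_snd, HomologicalComplex.zero_f]

end Aux

section Res

variable {H : CochainComplex (Mod O) ℤ} (s : Over H)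

noncomputable def epiO : Over H := Over.mk (biprod.desc s.hom (startQ H))

noncomputable def RK : CochainComplex (Mod O) ℤ := (fromCocone (epiO s)).pt

noncomputable def RQ : RK s ⟶ H := fromQ (epiO s)

noncomputable def epiB : s.left ⊞ startK H ⟶ RK s := fromB (epiO s)

theorem epiB_Q : epiB s ≫ RQ s = biprod.desc s.hom (startQ H) := fromB_Q (epiO s)

noncomputable def RJ : s.left ⟶ RK s := biprod.inl ≫ epiB s

theorem RJ_Q : RJ s ≫ RQ s = s.hom := by
  unfold RJ
  rw [Category.assoc, epiB_Q]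
  exact biprod.inl_desc _ _

theorem quasiIso_RQ : QuasiIso (RQ s) := quasiIso_fromQ (epiO s)

theorem epi_RQ_f (i : ℤ) : Epi ((RQ s).f i) := by
  have h : (biprod.inr ≫ epiB s) ≫ RQ s = startQ H := by
    rw [Category.assoc, epiB_Q]
    exact biprod.inr_desc _ _
  have h' : (biprod.inr ≫ epiB s).f i ≫ (RQ s).f i = (startQ H).f i := by
    rw [← HomologicalComplex.comp_f, h]
  have := epi_startQ_f H i
  exact epi_of_epi_fac h'

theorem bddLE_RK (b : ℤ) (hs : BddLE s.left (b + 1)) (hH : BddLE H b) : BddLE (RK s) (b + 1) :=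
  bddLE_fromK (epiO s) (b + 1) (bddLE_biprod _ _ _ hs (bddLE_startK b hH)) (hH.mono (by omega))

theorem isFreeish_startK_X (i : ℤ) : IsFreeish ((startK H).X i) :=
  isFreeish_of_iso (coneXIso _ i) (isFreeish_biprod (isFreeish_genObj _) (isFreeish_genObj _))

noncomputable abbrev RW (i : ℤ) : Mod O := (startK H).X i ⊞ ∐ (attZ (epiO s) i)

theorem isFreeish_RW (i : ℤ) : IsFreeish (RW s i) :=
  isFreeish_biprod (isFreeish_startK_X i) (isFreeish_attZ _ _)

noncomputable def epiXIso (i : ℤ) :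
    (RK s).X i ≅ (s.left ⊞ startK H).X i ⊞ ∐ (attZ (epiO s) i) := fromXIso (epiO s) i

theorem epiB_epiXIso (i : ℤ) : (epiB s).f i ≫ (epiXIso s i).hom = biprod.inl :=
  fromB_fromXIso (epiO s) i

noncomputable def RXIso (i : ℤ) : (RK s).X i ≅ s.left.X i ⊞ RW s i :=
  epiXIso s i ≪≫ biprod.mapIso (evalBiprodIso s.left (startK H) i) (Iso.refl _) ≪≫
    biprod.associator _ _ _

theorem RJ_RXIso (i : ℤ) : (RJ s).f i ≫ (RXIso s i).hom = biprod.inl := by
  have h1 : (RJ s).f i = (biprod.inl : s.left ⟶ s.left ⊞ startK H).f i ≫ (epiB s).f i := rfl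
  have h2 : (RXIso s i).hom = (epiXIso s i).hom ≫
      biprod.map (evalBiprodIso s.left (startK H) i).hom (𝟙 _) ≫
        (biprod.associator _ _ _).hom := rfl
  rw [h1, h2, Category.assoc, ← Category.assoc ((epiB s).f i), epiB_epiXIso,
    biprod.inl_map_assoc, ← Category.assoc, inl_f_evalBiprodIso]
  exact inl_inl_associator _ _ _

theorem isFreeish_RK_X (i : ℤ) (h : IsFreeish (s.left.X i)) : IsFreeish ((RK s).X i) :=
  isFreeish_of_iso (RXIso s i) (isFreeish_biprod h (isFreeish_RW s i))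

theorem RJ_split (i : ℤ) : ∃ r : (RK s).X i ⟶ s.left.X i, (RJ s).f i ≫ r = 𝟙 _ :=
  ⟨(RXIso s i).hom ≫ biprod.fst, by rw [← Category.assoc, RJ_RXIso, biprod.inl_fst]⟩

theorem isFreeish_cokernel_RJ (i : ℤ) : IsFreeish (cokernel ((RJ s).f i)) :=
  isFreeish_of_iso (cokerIso _ (RXIso s i) (RJ_RXIso s i)) (isFreeish_RW s i)

end Res

end Groth.Agent.Lib.Helper12.FreeRes
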