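import Groth.Agent.Lib.Helper12.FreeRes4

set_option autoImplicit false
universe u
open CategoryTheory CategoryTheory.Limits

namespace Groth.Agent.Lib.Helper12.FreeRes

section ColimZero

universe v₂ u₂

variable {A : Type u₂} [Category.{v₂} A] [Abelian A] [HasColimitsOfShape ℕ A]

theorem isZero_colimit_of_eventually_zero (H : ℕ ⥤ A) (N : ℕ)
    (h : ∀ n : ℕ, N ≤ n → H.map (homOfLE (Nat.le_succ n)) = 0) : IsZero (colimit H) := by
  rw [IsZero.iff_id_eq_zero]
  apply colimit.hom_ext
  intro n
  rw [Category.comp_id, comp_zero, ← colimit.w H (homOfLE (le_max_left n N)),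
    ← colimit.w H (homOfLE (Nat.le_succ (max n N))), h _ (le_max_right n N), zero_comp, comp_zero]

variable [HasExactColimitsOfShape ℕ A]

theorem acyc_of_isColimit_of_eventually_homologyMap_eq_zero (L : ℕ ⥤ CochainComplex A ℤ) (c : Cocone L)
    (hc : ∀ j : ℤ, IsColimit ((HomologicalComplex.eval A (ComplexShape.up ℤ) j).mapCocone c))
    (hz : ∀ (i : ℤ), ∃ N : ℕ, ∀ n : ℕ, N ≤ n →
      HomologicalComplex.homologyMap (L.map (homOfLE (Nat.le_succ n))) i = 0) : KFlat.Acyc c.pt := by
  rw [KFlat.acyc_iff_sc']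
  intro i
  let S := KFlat.scNat L i
  obtain ⟨N, hN⟩ := hz i
  have hH : ∀ n : ℕ, N ≤ n → S.homology.map (homOfLE (Nat.le_succ n)) = 0 := by
    intro n hn
    have h1 := ShortComplex.homologyMap_mapNatTrans S
      ((evaluation ℕ A).map (homOfLE (Nat.le_succ n)))
    have h2 : ShortComplex.homologyMap
        (S.mapNatTrans ((evaluation ℕ A).map (homOfLE (Nat.le_succ n)))) = 0 :=
      KFlat.homologyMap_sc'_eq_zero (L.map (homOfLE (Nat.le_succ n))) i (hN n hn)
    rw [h2] at h1
    have h3 : ((evaluation ℕ A).map (homOfLE (Nat.le_succ n))).app S.homology =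
        S.homology.map (homOfLE (Nat.le_succ n)) := rfl
    rw [h3] at h1
    have h4 := congrArg (fun x => (S.mapHomologyIso ((evaluation ℕ A).obj n)).inv ≫ x ≫
      (S.mapHomologyIso ((evaluation ℕ A).obj (n + 1))).hom) h1
    simp only [zero_comp, comp_zero, Category.assoc, Iso.inv_hom_id, Category.comp_id,
      Iso.inv_hom_id_assoc] at h4
    exact h4.symm
  have hz' : IsZero (S.map colim).homology :=
    IsZero.of_iso (isZero_colimit_of_eventually_zero S.homology N hH) (S.mapHomologyIso colim)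
  have hex : (S.map colim).Exact := (ShortComplex.exact_iff_isZero_homology _).mpr hz'
  let e₁ : colimit (L ⋙ HomologicalComplex.eval A (ComplexShape.up ℤ) (i - 1)) ≅ c.pt.X (i - 1) :=
    (colimit.isColimit _).coconePointUniqueUpToIso (hc (i - 1))
  let e₂ : colimit (L ⋙ HomologicalComplex.eval A (ComplexShape.up ℤ) i) ≅ c.pt.X i :=
    (colimit.isColimit _).coconePointUniqueUpToIso (hc i)
  let e₃ : colimit (L ⋙ HomologicalComplex.eval A (ComplexShape.up ℤ) (i + 1)) ≅ c.pt.X (i + 1) :=
    (colimit.isColimit _).coconePointUniqueUpToIso (hc (i + 1))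
  let e : S.map colim ≅ c.pt.sc' (i - 1) i (i + 1) :=
    ShortComplex.isoMk e₁ e₂ e₃
      (by
        apply colimit.hom_ext
        intro n
        change colimit.ι _ n ≫ e₁.hom ≫ c.pt.d (i - 1) i =
          colimit.ι _ n ≫ colimMap (KFlat.dNat L (i - 1) i) ≫ e₂.hom
        rw [ι_colimMap_assoc]
        have h1 : colimit.ι (L ⋙ HomologicalComplex.eval A (ComplexShape.up ℤ) (i - 1)) n ≫
            e₁.hom = (c.ι.app n).f (i - 1) :=
          IsColimit.comp_coconePointUniqueUpToIso_hom _ (hc (i - 1)) n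
        have h2 : colimit.ι (L ⋙ HomologicalComplex.eval A (ComplexShape.up ℤ) i) n ≫
            e₂.hom = (c.ι.app n).f i :=
          IsColimit.comp_coconePointUniqueUpToIso_hom _ (hc i) n
        rw [reassoc_of% h1, h2]
        exact ((c.ι.app n).comm (i - 1) i))
      (by
        apply colimit.hom_ext
        intro n
        change colimit.ι _ n ≫ e₂.hom ≫ c.pt.d i (i + 1) =
          colimit.ι _ n ≫ colimMap (KFlat.dNat L i (i + 1)) ≫ e₃.hom
        rw [ι_colimMap_assoc]
        have h1 : colimit.ι (L ⋙ HomologicalComplex.eval A (ComplexShape.up ℤ) i) n ≫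
            e₂.hom = (c.ι.app n).f i :=
          IsColimit.comp_coconePointUniqueUpToIso_hom _ (hc i) n
        have h2 : colimit.ι (L ⋙ HomologicalComplex.eval A (ComplexShape.up ℤ) (i + 1)) n ≫
            e₃.hom = (c.ι.app n).f (i + 1) :=
          IsColimit.comp_coconePointUniqueUpToIso_hom _ (hc (i + 1)) n
        rw [reassoc_of% h1, h2]
        exact ((c.ι.app n).comm i (i + 1)))
  exact ShortComplex.exact_of_iso e hex

end ColimZero

section ConeHomology

universe v₂ u₂

variable {A : Type u₂} [Category.{v₂} A] [Abelian A]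

open CochainComplex in
theorem isZero_homology_mappingCone {K L : CochainComplex A ℤ} (φ : K ⟶ L) (n₀ n₁ : ℤ)
    (h : n₀ + 1 = n₁) (h₀ : QuasiIsoAt φ n₀) (h₁ : QuasiIsoAt φ n₁) :
    IsZero ((mappingCone φ).homology n₀) := by
  let F := HomotopyCategory.homologyFunctor A (ComplexShape.up ℤ) 0
  have hT := HomotopyCategory.mappingCone_triangleh_distinguished φ
  have e₁ := (F.homologySequence_exact₃ _ hT n₀ n₁ h).isZero_X₂_iff
  have e₂ := F.homologySequence_mono_shift_map_mor₁_iff _ hT n₀ n₁ h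
  have e₃ := F.homologySequence_epi_shift_map_mor₁_iff _ hT n₀
  have iso : ∀ n : ℤ, QuasiIsoAt φ n →
      IsIso ((F.shift n).map ((HomotopyCategory.quotient A (ComplexShape.up ℤ)).map φ)) := by
    intro n hn
    rw [quasiIsoAt_iff_isIso_homologyMap] at hn
    exact (NatIso.isIso_map_iff
      (HomotopyCategory.homologyFunctorFactors A (ComplexShape.up ℤ) n) φ).mpr hn
  have i₀ := iso n₀ h₀
  have i₁ := iso n₁ h₁
  have z : IsZero ((F.shift n₀).obj
      ((HomotopyCategory.quotient A (ComplexShape.up ℤ)).obj (mappingCone φ))) :=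
    e₁.mpr ⟨e₃.mp (@IsIso.epi_of_iso _ _ _ _ _ i₀), e₂.mp (@IsIso.mono_of_iso _ _ _ _ _ i₁)⟩
  exact IsZero.of_iso z
    ((HomotopyCategory.homologyFunctorFactors A (ComplexShape.up ℤ) n₀).app (mappingCone φ)).symm

end ConeHomology

end Groth.Agent.Lib.Helper12.FreeRes
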