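import Groth.Agent.Lib.Helper12.FreeRes5

set_option autoImplicit false
universe u
open CategoryTheory CategoryTheory.Limits

namespace Groth.Agent.Lib.Helper12.FreeRes

open ModSite Groth.Agent.Lib.Helper42.Flat Groth.Agent.Lib.Helper42.Flat2
  Groth.Agent.Lib.Helper42.TensorColim Groth.Agent.Lib.Helper42.FlatCx
open CochainComplex CochainComplex.HomComplex ZeroObject

variable {C : Type u} [SmallCategory C] {J : GrothendieckTopology C} {O : Sheaf J CommRingCat.{u}}

section Tower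

variable (G : CochainComplex (Mod O) ℤ)

noncomputable def trans (a a' : ℤ) (h : a ≤ a') : G.truncLE a ⟶ G.truncLE a' :=
  haveI : (G.truncLE a).IsStrictlyLE a' := isStrictlyLE_of_le _ a a' h
  inv ((G.truncLE a).ιTruncLE a') ≫ truncLEMap (G.ιTruncLE a) a'

theorem trans_ι (a a' : ℤ) (h : a ≤ a') : trans G a a' h ≫ G.ιTruncLE a' = G.ιTruncLE a := by
  have : (G.truncLE a).IsStrictlyLE a' := isStrictlyLE_of_le _ a a' h
  unfold trans
  rw [Category.assoc, ιTruncLE_naturality, IsIso.inv_hom_id_assoc]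

theorem bddLE_truncLE (a : ℤ) : BddLE (G.truncLE a) a :=
  fun i hi => (G.truncLE a).isZero_of_isStrictlyLE a i hi

noncomputable def nextS (n : ℕ) (s : Over (G.truncLE ((n : ℤ) + 1))) :
    Over (G.truncLE (((n + 1 : ℕ) : ℤ) + 1)) :=
  Over.mk (s.hom ≫ trans G ((n : ℤ) + 1) (((n + 1 : ℕ) : ℤ) + 1) (by push_cast; omega))

noncomputable def stage : (n : ℕ) → Over (G.truncLE ((n : ℤ) + 1))
  | 0 => Over.mk (RQ (Over.mk (0 : (0 : CochainComplex (Mod O) ℤ) ⟶ G.truncLE (((0 : ℕ) : ℤ) + 1))))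
  | (n + 1) => Over.mk (RQ (nextS G n (stage n)))

noncomputable def stageK (n : ℕ) : CochainComplex (Mod O) ℤ := (stage G n).left

noncomputable def stageπ (n : ℕ) : stageK G n ⟶ G.truncLE ((n : ℤ) + 1) := (stage G n).hom

noncomputable def stageJ (n : ℕ) : stageK G n ⟶ stageK G (n + 1) := RJ (nextS G n (stage G n))

theorem stageJ_π (n : ℕ) :
    stageJ G n ≫ stageπ G (n + 1) ≫ G.ιTruncLE (((n + 1 : ℕ) : ℤ) + 1) =
      stageπ G n ≫ G.ιTruncLE ((n : ℤ) + 1) := by
  have h1 : stageJ G n ≫ stageπ G (n + 1) = stageπ G n ≫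
      trans G ((n : ℤ) + 1) (((n + 1 : ℕ) : ℤ) + 1) (by push_cast; omega) :=
    RJ_Q (nextS G n (stage G n))
  rw [← Category.assoc, h1, Category.assoc, trans_ι]

theorem quasiIso_stageπ (n : ℕ) : QuasiIso (stageπ G n) := by
  cases n with
  | zero => exact quasiIso_RQ _
  | succ n => exact quasiIso_RQ _

theorem epi_stageπ_f (n : ℕ) (i : ℤ) : Epi ((stageπ G n).f i) := by
  cases n with
  | zero => exact epi_RQ_f _ i
  | succ n => exact epi_RQ_f _ i

theorem isZero_zero_X (i : ℤ) : IsZero ((0 : CochainComplex (Mod O) ℤ).X i) :=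
  Functor.map_isZero (HomologicalComplex.eval (Mod O) (ComplexShape.up ℤ) i) (isZero_zero _)

theorem bddLE_stageK (n : ℕ) : BddLE (stageK G n) ((n : ℤ) + 1 + 1) := by
  induction n with
  | zero =>
    exact bddLE_RK _ _ (fun i _ => isZero_zero_X i) (bddLE_truncLE G _)
  | succ n ih =>
    exact bddLE_RK (nextS G n (stage G n)) (((n + 1 : ℕ) : ℤ) + 1)
      (BddLE.mono ih (by push_cast; omega)) (bddLE_truncLE G _)

theorem isFreeish_stageK_X (n : ℕ) (i : ℤ) : IsFreeish ((stageK G n).X i) := by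
  induction n with
  | zero => exact isFreeish_RK_X _ i (isFreeish_of_isZero _ (isZero_zero_X i))
  | succ n ih => exact isFreeish_RK_X (nextS G n (stage G n)) i ih

theorem stageJ_split (n : ℕ) (i : ℤ) :
    ∃ r : (stageK G (n + 1)).X i ⟶ (stageK G n).X i, (stageJ G n).f i ≫ r = 𝟙 _ :=
  RJ_split (nextS G n (stage G n)) i

theorem isFreeish_cokernel_stageJ (n : ℕ) (i : ℤ) : IsFreeish (cokernel ((stageJ G n).f i)) :=
  isFreeish_cokernel_RJ (nextS G n (stage G n)) i

noncomputable def stageO (n : ℕ) : Over G := Over.mk (stageπ G n ≫ G.ιTruncLE ((n : ℤ) + 1))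

noncomputable def towerT : ℕ ⥤ Over G :=
  Functor.ofSequence (X := stageO G) (fun n => Over.homMk (stageJ G n) (by
    change stageJ G n ≫ (stageπ G (n + 1) ≫ G.ιTruncLE (((n + 1 : ℕ) : ℤ) + 1)) = _
    exact stageJ_π G n))

noncomputable def Kc : ℕ ⥤ CochainComplex (Mod O) ℤ := towerT G ⋙ Over.forget G

theorem Kc_obj (n : ℕ) : (Kc G).obj n = stageK G n := rfl

theorem Kc_map_succ (n : ℕ) : (Kc G).map (homOfLE (Nat.le_succ n)) = stageJ G n := by
  change ((towerT G).map (homOfLE (Nat.le_succ n))).left = _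
  unfold towerT
  rw [Functor.ofSequence_map_homOfLE_succ]
  rfl

noncomputable def colimQ : colimit (Kc G) ⟶ G :=
  colimit.desc (Kc G) ((Over.forgetCocone G).whisker (towerT G))

theorem colimQ_fac (n : ℕ) :
    colimit.ι (Kc G) n ≫ colimQ G = stageπ G n ≫ G.ιTruncLE ((n : ℤ) + 1) :=
  colimit.ι_desc _ _

theorem colimQ_fac' (n : ℕ) :
    KFlat.cι (towerT G) (colimit.cocone (Kc G)) n ≫ colimQ G = ((towerT G).obj n).hom :=
  colimQ_fac G n

theorem quasiIsoAt_stageO (n : ℕ) (q : ℤ) (hq : q ≤ (n : ℤ) + 1) :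
    QuasiIsoAt (stageO G n).hom q := by
  have h1 : QuasiIso (stageπ G n) := quasiIso_stageπ G n
  have h2 : QuasiIsoAt (G.ιTruncLE ((n : ℤ) + 1)) q := G.quasiIsoAt_ιTruncLE _ q hq
  have h3 : QuasiIsoAt (stageπ G n) q := h1.quasiIsoAt q
  exact quasiIsoAt_comp (stageπ G n) (G.ιTruncLE ((n : ℤ) + 1)) q

theorem isZero_homology_cone_stageO (n : ℕ) (i : ℤ) (hi : i ≤ (n : ℤ)) :
    IsZero ((mappingCone (stageO G n).hom).homology i) :=
  isZero_homology_mappingCone _ i (i + 1) rfl (quasiIsoAt_stageO G n i (by omega))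
    (quasiIsoAt_stageO G n (i + 1) (by omega))

theorem quasiIso_colimQ : QuasiIso (colimQ G) := by
  refine (KFlat.acyclic_mappingCone_iff (colimQ G)).mp ((KFlat.acyclic_iff_acyc _).mpr ?_)
  refine acyc_of_isColimit_of_eventually_homologyMap_eq_zero (towerT G ⋙ KFlat.coneFunctor G)
    (KFlat.coneCocone (towerT G) (colimit.cocone (Kc G)) (colimQ G) (colimQ_fac' G))
    (fun j => KFlat.isColimitConeCocone (towerT G) (colimit.cocone (Kc G)) (colimQ G)
      (colimQ_fac' G) j
      (fun j => isColimitOfPreserves (HomologicalComplex.eval (Mod O) (ComplexShape.up ℤ) j)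
        (colimit.isColimit (Kc G)))) ?_
  intro i
  refine ⟨i.toNat, fun n hn => ?_⟩
  have hz : IsZero ((mappingCone ((towerT G).obj n).hom).homology i) :=
    isZero_homology_cone_stageO G n i (by omega)
  exact hz.eq_of_src _ _

end Tower

end Groth.Agent.Lib.Helper12.FreeRes
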