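import Groth.Agent.Lib.Helper12.SuppRj2
import Groth.Agent.Lib.Helper12.EZMV1

set_option autoImplicit false
universe u
open CategoryTheory CategoryTheory.Limits AlgebraicGeometry

namespace Groth.Agent.Lib.Helper12.GZInj

variable {U X : Scheme.{u}} (j : U ⟶ X) [IsOpenImmersion j]

theorem restrict_map_eq_zero_iff_comp_unit {F G : X.Modules} (φ : F ⟶ G) :
    (Scheme.Modules.restrictFunctor j).map φ = 0 ↔
      φ ≫ (Scheme.Modules.restrictAdjunction j).unit.app G = 0 := by
  constructor
  · intro h
    have := (Scheme.Modules.restrictAdjunction j).unit.naturality φ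
    dsimp at this
    rw [this, h, Functor.map_zero, comp_zero]
  · intro h
    have h1 : (Scheme.Modules.restrictFunctor j).map φ ≫
        (Scheme.Modules.restrictFunctor j).map ((Scheme.Modules.restrictAdjunction j).unit.app G) = 0 := by
      rw [← Functor.map_comp, h, Functor.map_zero]
    have h2 := (Scheme.Modules.restrictAdjunction j).left_triangle_components G
    calc (Scheme.Modules.restrictFunctor j).map φ
        = (Scheme.Modules.restrictFunctor j).map φ ≫
            ((Scheme.Modules.restrictFunctor j).map ((Scheme.Modules.restrictAdjunction j).unit.app G) ≫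
              (Scheme.Modules.restrictAdjunction j).counit.app _) := by
          rw [h2, Category.comp_id]
      _ = 0 := by rw [← Category.assoc, h1, zero_comp]

theorem restrict_map_eq_zero_iff_counit_comp {F G : X.Modules} (φ : F ⟶ G) :
    (Scheme.Modules.restrictFunctor j).map φ = 0 ↔
      (CxOX.extZeroAdj j).counit.app F ≫ φ = 0 := by
  constructor
  · intro h
    have := (CxOX.extZeroAdj j).counit.naturality φ
    dsimp at this
    rw [← this, h, Functor.map_zero, zero_comp]
  · intro h
    have h1 : (Scheme.Modules.restrictFunctor j).map ((CxOX.extZeroAdj j).counit.app F) ≫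
        (Scheme.Modules.restrictFunctor j).map φ = 0 := by
      rw [← Functor.map_comp, h, Functor.map_zero]
    have h2 := (CxOX.extZeroAdj j).right_triangle_components F
    calc (Scheme.Modules.restrictFunctor j).map φ
        = ((CxOX.extZeroAdj j).unit.app _ ≫
            (Scheme.Modules.restrictFunctor j).map ((CxOX.extZeroAdj j).counit.app F)) ≫
              (Scheme.Modules.restrictFunctor j).map φ := by
          rw [h2]
          exact (Category.id_comp _).symm
      _ = 0 := by rw [Category.assoc, h1, comp_zero]

end Groth.Agent.Lib.Helper12.GZInj
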