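import Groth.Agent.Lib.Helper12.GZInj1

set_option autoImplicit false
universe u
open CategoryTheory CategoryTheory.Limits AlgebraicGeometry

namespace Groth.Agent.Lib.Helper12.GZInj

variable {U X : Scheme.{u}} (j : U ⟶ X) [IsOpenImmersion j]

theorem mono_of_stalks {A B : X.Modules} (f : A ⟶ B)
    (h : ∀ x : X, Mono ((DerSch.stalkFunctor X x).map f)) : Mono f := by
  let S' : ShortComplex X.Modules := ShortComplex.mk (0 : A ⟶ A) f zero_comp
  have hS' : S'.Exact := by
    rw [StalkExact.exact_iff_stalk]
    intro x
    exact ((S'.map (DerSch.stalkFunctor X x)).exact_iff_mono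
      ((DerSch.stalkFunctor X x).map_zero _ _)).2 (h x)
  exact (S'.exact_iff_mono rfl).1 hS'

noncomputable abbrev ε (A : X.Modules) :
    (CxOX.extZero j).obj ((Scheme.Modules.restrictFunctor j).obj A) ⟶ A :=
  (CxOX.extZeroAdj j).counit.app A

theorem isZero_restrict_cokernel_ε (A : X.Modules) :
    IsZero ((Scheme.Modules.restrictFunctor j).obj (cokernel (ε j A))) := by
  have h2 := (CxOX.extZeroAdj j).right_triangle_components A
  have : IsSplitEpi ((Scheme.Modules.restrictFunctor j).map (ε j A)) :=
    IsSplitEpi.mk' ⟨(CxOX.extZeroAdj j).unit.app _, h2⟩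
  exact (isZero_cokernel_of_epi ((Scheme.Modules.restrictFunctor j).map (ε j A))).of_iso
    (PreservesCokernel.iso (Scheme.Modules.restrictFunctor j) (ε j A))

theorem isZero_stalk_cokernel_ε (A : X.Modules) (x : X) (hx : x ∈ Set.range j) :
    IsZero ((DerSch.stalkFunctor X x).obj (cokernel (ε j A))) := by
  obtain ⟨u, rfl⟩ := hx
  have h1 : Subsingleton (((Scheme.Modules.restrictFunctor j).obj
      (cokernel (ε j A))).presheaf.stalk u) := by
    have h2 : IsZero ((DerSch.stalkFunctor U u).obj
        ((Scheme.Modules.restrictFunctor j).obj (cokernel (ε j A)))) :=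
      Functor.map_isZero _ (isZero_restrict_cokernel_ε j A)
    exact ModuleCat.subsingleton_of_isZero h2
  rw [SuppZ.subsingleton_stalk_restrict] at h1
  have h3 : Subsingleton ((DerSch.stalkFunctor X (j u)).obj (cokernel (ε j A))) := h1
  exact ModuleCat.isZero_of_subsingleton _

theorem isIso_stalk_cokernel_π (A : X.Modules) (x : X) (hx : x ∉ Set.range j) :
    IsIso ((DerSch.stalkFunctor X x).map (cokernel.π (ε j A))) := by
  let S : ShortComplex X.Modules :=
    ShortComplex.mk (ε j A) (cokernel.π (ε j A)) (cokernel.condition _)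
  have hS : S.Exact := ShortComplex.exact_cokernel _
  have hSx : (S.map (DerSch.stalkFunctor X x)).Exact := hS.map (DerSch.stalkFunctor X x)
  have hz : IsZero ((DerSch.stalkFunctor X x).obj
      ((CxOX.extZero j).obj ((Scheme.Modules.restrictFunctor j).obj A))) := by
    have := SuppRj.subsingleton_stalk_extZero_of_not_mem j
      ((Scheme.Modules.restrictFunctor j).obj A) x hx
    have h3 : Subsingleton ((DerSch.stalkFunctor X x).obj
      ((CxOX.extZero j).obj ((Scheme.Modules.restrictFunctor j).obj A))) := this
    exact ModuleCat.isZero_of_subsingleton _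
  have hf : (S.map (DerSch.stalkFunctor X x)).f = 0 := hz.eq_of_src _ _
  have hm : Mono ((DerSch.stalkFunctor X x).map (cokernel.π (ε j A))) :=
    ((S.map (DerSch.stalkFunctor X x)).exact_iff_mono hf).1 hSx
  have he : Epi ((DerSch.stalkFunctor X x).map (cokernel.π (ε j A))) := inferInstance
  exact isIso_of_mono_of_epi _

end Groth.Agent.Lib.Helper12.GZInj
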