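import Groth.Agent.Lib.Helper12.GZInj2
import Groth.Prelude.Def_DCoh2

set_option autoImplicit false
universe u
open CategoryTheory CategoryTheory.Limits AlgebraicGeometry

namespace Groth.Agent.Lib.Helper12.GZInj

variable {U X : Scheme.{u}} (j : U ⟶ X) [IsOpenImmersion j]

noncomputable def Lmap {A B : X.Modules} (m : A ⟶ B) :
    cokernel (ε j A) ⟶ cokernel (ε j B) :=
  cokernel.map (ε j A) (ε j B)
    ((CxOX.extZero j).map ((Scheme.Modules.restrictFunctor j).map m)) m
    ((CxOX.extZeroAdj j).counit.naturality m).symm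

theorem π_Lmap {A B : X.Modules} (m : A ⟶ B) :
    cokernel.π (ε j A) ≫ Lmap j m = m ≫ cokernel.π (ε j B) := by
  simp [Lmap]

theorem mono_Lmap {A B : X.Modules} (m : A ⟶ B) [Mono m] : Mono (Lmap j m) := by
  apply mono_of_stalks
  intro x
  by_cases hx : x ∈ Set.range j
  · exact (isZero_stalk_cokernel_ε j A x hx).mono _
  · have hA := isIso_stalk_cokernel_π j A x hx
    have hB := isIso_stalk_cokernel_π j B x hx
    have hm : Mono ((DerSch.stalkFunctor X x).map m) := inferInstance
    have hfac : (DerSch.stalkFunctor X x).map (Lmap j m) =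
        inv ((DerSch.stalkFunctor X x).map (cokernel.π (ε j A))) ≫
          (DerSch.stalkFunctor X x).map m ≫
            (DerSch.stalkFunctor X x).map (cokernel.π (ε j B)) := by
      rw [IsIso.eq_inv_comp, ← Functor.map_comp, ← Functor.map_comp, π_Lmap]
    rw [hfac]
    infer_instance

theorem injective_kernel_unit (I : X.Modules) [Injective I] :
    Injective (kernel ((Scheme.Modules.restrictAdjunction j).unit.app I)) := by
  constructor
  intro A B a m hm
  let η := (Scheme.Modules.restrictAdjunction j).unit.app I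
  let ι : kernel η ⟶ I := kernel.ι η
  let φ : A ⟶ I := a ≫ ι
  have hφη : φ ≫ η = 0 := by
    change (a ≫ kernel.ι η) ≫ η = 0
    rw [Category.assoc, kernel.condition, comp_zero]
  have hφ0 : (Scheme.Modules.restrictFunctor j).map φ = 0 :=
    (restrict_map_eq_zero_iff_comp_unit j φ).2 hφη
  have hεφ : ε j A ≫ φ = 0 := (restrict_map_eq_zero_iff_counit_comp j φ).1 hφ0
  let φbar : cokernel (ε j A) ⟶ I := cokernel.desc (ε j A) φ hεφ
  have := mono_Lmap j m
  let ψbar : cokernel (ε j B) ⟶ I := Injective.factorThru φbar (Lmap j m)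
  have hψbar : Lmap j m ≫ ψbar = φbar := Injective.comp_factorThru φbar (Lmap j m)
  let ψ : B ⟶ I := cokernel.π (ε j B) ≫ ψbar
  have hεψ : ε j B ≫ ψ = 0 := by
    change ε j B ≫ cokernel.π (ε j B) ≫ ψbar = 0
    rw [cokernel.condition_assoc, zero_comp]
  have hψ0 : (Scheme.Modules.restrictFunctor j).map ψ = 0 :=
    (restrict_map_eq_zero_iff_counit_comp j ψ).2 hεψ
  have hψη : ψ ≫ η = 0 := (restrict_map_eq_zero_iff_comp_unit j ψ).1 hψ0
  refine ⟨kernel.lift η ψ hψη, ?_⟩
  have hι : Mono ι := inferInstanceAs (Mono (kernel.ι η))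
  rw [← cancel_mono ι]
  change (m ≫ kernel.lift η ψ hψη) ≫ kernel.ι η = a ≫ kernel.ι η
  rw [Category.assoc, kernel.lift_ι]
  change m ≫ cokernel.π (ε j B) ≫ ψbar = φ
  rw [← Category.assoc, ← π_Lmap, Category.assoc, hψbar]
  exact cokernel.π_desc _ _ _

theorem injective_gammaZ (I : X.Modules) [Injective I] :
    Injective ((DCoh.gammaZ j).obj I) :=
  injective_kernel_unit j I

end Groth.Agent.Lib.Helper12.GZInj
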