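import Mathlib.CategoryTheory.Triangulated.Pretriangulated
import Mathlib.CategoryTheory.Preadditive.Basic

set_option autoImplicit false
open CategoryTheory CategoryTheory.Limits Pretriangulated

namespace Groth.Agent.Lib.Helper12.GlueD

universe v' u'

section L5

variable {T : Type u'} [Category.{v'} T] [HasZeroObject T] [HasShift T ℤ]
  [Preadditive T] [∀ (n : ℤ), (shiftFunctor T n).Additive] [Pretriangulated T]

theorem isIso_comp_fst {F Y Z X₁ X₂ : T} (f : F ⟶ Y) (g : Y ⟶ Z) (h : Z ⟶ F⟦(1 : ℤ)⟧)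
    (hT : Triangle.mk f g h ∈ distTriang T)
    (i₁ : X₁ ⟶ Y) (i₂ : X₂ ⟶ Y) (p₁ : Y ⟶ X₁) (p₂ : Y ⟶ X₂)
    (h11 : i₁ ≫ p₁ = 𝟙 _) (h21 : i₂ ≫ p₁ = 0)
    (hsum : p₁ ≫ i₁ + p₂ ≫ i₂ = 𝟙 Y) (hw : IsIso (i₂ ≫ g)) : IsIso (f ≫ p₁) := by
  let w := i₂ ≫ g
  have hw' : IsIso w := hw
  have hsec : (inv w ≫ i₂) ≫ g = 𝟙 Z := by
    rw [Category.assoc]
    exact IsIso.inv_hom_id w
  have hepi : Epi g := ⟨fun a b hab => by
    have := congrArg (fun t => (inv w ≫ i₂) ≫ t) hab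
    simpa only [← Category.assoc, hsec, Category.id_comp] using this⟩
  have hh : h = 0 := (Triangle.mk f g h).mor₃_eq_zero_of_epi₂ hT hepi
  have hmono : Mono f := (Triangle.mk f g h).mono₁ hT hh
  have hfg : f ≫ g = 0 := comp_distTriang_mor_zero₁₂ _ hT
  have hmono' : Mono (f ≫ p₁) := by
    rw [Preadditive.mono_iff_cancel_zero]
    intro P x hx
    rw [← Category.assoc] at hx
    have hx : x ≫ f ≫ p₁ = 0 := by rw [← Category.assoc]; exact hx
    have h1 : x ≫ f = (x ≫ f ≫ p₂) ≫ i₂ := by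
      calc x ≫ f = (x ≫ f) ≫ (p₁ ≫ i₁ + p₂ ≫ i₂) := by rw [hsum, Category.comp_id]
        _ = (x ≫ f ≫ p₁) ≫ i₁ + (x ≫ f ≫ p₂) ≫ i₂ := by
          simp only [Preadditive.comp_add, Category.assoc]
        _ = (x ≫ f ≫ p₂) ≫ i₂ := by rw [hx, zero_comp, zero_add]
    have h2 : (x ≫ f ≫ p₂) ≫ w = 0 := by
      have : (x ≫ f) ≫ g = 0 := by rw [Category.assoc, hfg, comp_zero]
      rw [h1, Category.assoc] at this
      exact this
    have h3 : x ≫ f ≫ p₂ = 0 := by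
      have := congrArg (fun t => t ≫ inv w) h2
      simpa only [Category.assoc, IsIso.hom_inv_id, Category.comp_id, zero_comp] using this
    have h4 : x ≫ f = 0 := by rw [h1, h3, zero_comp]
    exact (cancel_mono f).1 (h4.trans zero_comp.symm)
  let σ : X₁ ⟶ Y := i₁ - (i₁ ≫ g) ≫ inv w ≫ i₂
  have hσ : σ ≫ g = 0 := by
    dsimp only [σ]
    rw [Preadditive.sub_comp, Category.assoc, Category.assoc, Category.assoc]
    change i₁ ≫ g - i₁ ≫ g ≫ inv w ≫ w = 0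
    rw [IsIso.inv_hom_id, Category.comp_id, sub_self]
  obtain ⟨s', hs⟩ := (Triangle.mk f g h).coyoneda_exact₂ hT σ hσ
  let s : X₁ ⟶ F := s'
  have hs' : s ≫ f = σ := hs.symm
  have hsp : s ≫ f ≫ p₁ = 𝟙 X₁ := by
    rw [← Category.assoc s f p₁, hs']
    dsimp only [σ]
    rw [Preadditive.sub_comp, h11, Category.assoc, Category.assoc, Category.assoc, h21,
      comp_zero, comp_zero, comp_zero, sub_zero]
  have hps : (f ≫ p₁) ≫ s = 𝟙 F := by
    apply (cancel_mono (f ≫ p₁)).1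
    rw [Category.assoc, hsp, Category.comp_id, Category.id_comp]
  exact ⟨⟨s, hps, hsp⟩⟩

end L5

end Groth.Agent.Lib.Helper12.GlueD
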