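import Groth.Agent.Lib.Helper12.GlueD1
import Mathlib.CategoryTheory.Triangulated.Functor
import Mathlib.CategoryTheory.Adjunction.Basic

set_option autoImplicit false
open CategoryTheory CategoryTheory.Limits Pretriangulated

namespace Groth.Agent.Lib.Helper12.GlueD

section Adj

variable {C D : Type*} [Category C] [Category D] {L : C ⥤ D} {R : D ⥤ C} (adj : L ⊣ R)

theorem isIso_map_unit [IsIso adj.counit] (N : C) : IsIso (L.map (adj.unit.app N)) := by
  have h := adj.left_triangle_components N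
  have : L.map (adj.unit.app N) = inv (adj.counit.app (L.obj N)) :=
    IsIso.eq_inv_of_inv_hom_id h
  rw [this]
  infer_instance

theorem isIso_unit_app_R [IsIso adj.counit] (N' : D) : IsIso (adj.unit.app (R.obj N')) := by
  have h := adj.right_triangle_components N'
  have : adj.unit.app (R.obj N') = inv (R.map (adj.counit.app N')) :=
    IsIso.eq_inv_of_inv_hom_id h
  rw [this]
  infer_instance

theorem isIso_unit_of_iso [IsIso adj.counit] {N : C} {N' : D} (e : N ≅ R.obj N') :
    IsIso (adj.unit.app N) :=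
  (NatTrans.isIso_app_iff_of_iso adj.unit e).2 (isIso_unit_app_R adj N')

end Adj

section Neg

variable {C : Type*} [Category C] [Preadditive C]

theorem isIso_neg {X Y : C} (f : X ⟶ Y) [IsIso f] : IsIso (-f) :=
  ⟨⟨-inv f, by simp, by simp⟩⟩

end Neg

section Glue

variable {DX DU DV DW : Type*} [Category DX] [Category DU] [Category DV] [Category DW]
  [HasZeroObject DX] [HasShift DX ℤ] [Preadditive DX] [∀ n : ℤ, (shiftFunctor DX n).Additive]
  [Pretriangulated DX]
  [HasZeroObject DU] [HasShift DU ℤ] [Preadditive DU] [∀ n : ℤ, (shiftFunctor DU n).Additive]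
  [Pretriangulated DU]
  [HasZeroObject DV] [HasShift DV ℤ] [Preadditive DV] [∀ n : ℤ, (shiftFunctor DV n).Additive]
  [Pretriangulated DV]
  {rU : DX ⥤ DU} {pU : DU ⥤ DX} (aU : rU ⊣ pU) [IsIso aU.counit]
  {rV : DX ⥤ DV} {pV : DV ⥤ DX} (aV : rV ⊣ pV) [IsIso aV.counit]
  {sU : DU ⥤ DW} {qU : DW ⥤ DU} (bU : sU ⊣ qU) [IsIso bU.counit]
  (sV : DV ⥤ DW) (ζ : rU ⋙ sU ≅ rV ⋙ sV)
  [rU.CommShift ℤ] [rU.IsTriangulated] [rU.Additive]
  [rV.CommShift ℤ] [rV.IsTriangulated] [rV.Additive]

include aU aV bU ζ in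
theorem exists_glue
    (H1 : ∀ {M M' : DU} (m : M ⟶ M'), IsIso (sU.map m) → IsIso (rV.map (pU.map m)))
    (H2 : ∀ B : DV, ∃ N' : DW, Nonempty (rU.obj (pV.obj B) ≅ qU.obj N'))
    (A : DU) (B : DV) (c : sU.obj A ≅ sV.obj B) :
    ∃ F : DX, Nonempty (rU.obj F ≅ A) ∧ Nonempty (rV.obj F ≅ B) := by
  let A' := pU.obj A
  let B' := pV.obj B
  let C := sU.obj A
  let C' := pU.obj (qU.obj C)
  let α : A' ⟶ C' := pU.map (bU.unit.app A)
  let θ : sU.obj (rU.obj B') ≅ C :=
    ζ.app B' ≪≫ sV.mapIso (asIso (aV.counit.app B)) ≪≫ c.symm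
  let β' : rU.obj B' ⟶ qU.obj C := bU.unit.app (rU.obj B') ≫ qU.map θ.hom
  let β : B' ⟶ C' := aU.unit.app B' ≫ pU.map β'
  have hβ' : IsIso β' := by
    obtain ⟨N', ⟨e⟩⟩ := H2 B
    have := isIso_unit_of_iso bU e
    exact IsIso.comp_isIso
  have hrβ : IsIso (rU.map β) := by
    have := isIso_map_unit aU B'
    have h2 : IsIso (rU.map (pU.map β')) := inferInstance
    change IsIso (rU.map (aU.unit.app B' ≫ pU.map β'))
    rw [Functor.map_comp]
    exact IsIso.comp_isIso
  have hrα : IsIso (rV.map α) := H1 _ (isIso_map_unit bU A)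
  obtain ⟨F, f, h, hT⟩ := distinguished_cocone_triangle₁ (biprod.desc α (-β))
  refine ⟨F, ⟨?_⟩, ⟨?_⟩⟩
  · have hT' := rU.map_distinguished _ hT
    have hw : IsIso (rU.map biprod.inr ≫ rU.map (biprod.desc α (-β))) := by
      rw [← Functor.map_comp, biprod.inr_desc, Functor.map_neg]
      exact isIso_neg _
    have := isIso_comp_fst (rU.map f) (rU.map (biprod.desc α (-β))) _ hT'
      (rU.map biprod.inl) (rU.map biprod.inr) (rU.map biprod.fst) (rU.map biprod.snd)
      (by rw [← Functor.map_comp, biprod.inl_fst, CategoryTheory.Functor.map_id])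
      (by rw [← Functor.map_comp, biprod.inr_fst, Functor.map_zero])
      (by rw [← Functor.map_comp, ← Functor.map_comp, ← Functor.map_add, biprod.total,
        CategoryTheory.Functor.map_id]) hw
    exact asIso (rU.map f ≫ rU.map biprod.fst) ≪≫ asIso (aU.counit.app A)
  · have hT' := rV.map_distinguished _ hT
    have hw : IsIso (rV.map biprod.inl ≫ rV.map (biprod.desc α (-β))) := by
      rw [← Functor.map_comp, biprod.inl_desc]
      exact hrα
    have := isIso_comp_fst (rV.map f) (rV.map (biprod.desc α (-β))) _ hT'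
      (rV.map biprod.inr) (rV.map biprod.inl) (rV.map biprod.snd) (rV.map biprod.fst)
      (by rw [← Functor.map_comp, biprod.inr_snd, CategoryTheory.Functor.map_id])
      (by rw [← Functor.map_comp, biprod.inl_snd, Functor.map_zero])
      (by rw [← Functor.map_comp, ← Functor.map_comp, ← Functor.map_add, add_comm, biprod.total,
        CategoryTheory.Functor.map_id]) hw
    exact asIso (rV.map f ≫ rV.map biprod.snd) ≪≫ asIso (aV.counit.app B)

end Glue

end Groth.Agent.Lib.Helper12.GlueD
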