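import Groth.Agent.Lib.Helper12.RDer

set_option autoImplicit false

open CategoryTheory Limits Pretriangulated

namespace Groth.Agent.Lib.Helper12.RDer

universe v u v' u'

open Groth.Agent.Lib.Helper25.KInjDerived

variable {C : Type u} [Category.{v} C] [Abelian C] [IsGrothendieckAbelian.{v} C]

theorem hasRightDerivedFunctor {H : Type u'} [Category.{v'} H]
    (G : HomotopyCategory C (ComplexShape.up ℤ) ⥤ H) :
    G.HasRightDerivedFunctor (HomotopyCategory.quasiIso C (ComplexShape.up ℤ)) := by
  have hW : HomotopyCategory.quasiIso C (ComplexShape.up ℤ) = (Acyc C).trW :=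
    HomotopyCategory.quasiIso_eq_trW_subcategoryAcyclic C
  rw [hW]
  have := Groth.Agent.Lib.Helper89.TriRes.isRightDerivabilityStructure (hasRes (C := C))
  have := (derives G).hasPointwiseRightDerivedFunctor
  infer_instance

end Groth.Agent.Lib.Helper12.RDer
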