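import Groth.Agent.Lib.Helper12.WKI6
import Groth.Agent.Lib.Helper12.RDer2

set_option autoImplicit false
universe u
open CategoryTheory CategoryTheory.Limits AlgebraicGeometry Opposite

attribute [local instance] HasDerivedCategory.standard

namespace Groth.Agent.Lib.Helper12.WKI

open Groth.Agent.Lib.Helper12 Groth.Agent.Lib.Helper12.RDerSch

variable {X Y : Scheme.{u}} (f : X ⟶ Y)

theorem hasRpush : DCoh.HasRpush f :=
  Groth.Agent.Lib.Helper12.RDer.hasRightDerivedFunctor (DCoh.pushKh f)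

theorem hasRΓ (X : Scheme.{u}) : DCoh.HasRΓ X :=
  Groth.Agent.Lib.Helper12.RDer.hasRightDerivedFunctor (DCoh.gammaKh X)

theorem nonempty_restrict_RΓ_iso (V : Y.Opens) [DCoh.HasRpush f]
    [DCoh.HasRΓ (V : Scheme.{u})] [DCoh.HasRΓ (f ⁻¹ᵁ V : Scheme.{u})]
    [PreservesFiniteLimits (Scheme.Modules.restrictFunctor V.ι)]
    [PreservesFiniteLimits (Scheme.Modules.restrictFunctor (f ⁻¹ᵁ V).ι)] :
    Nonempty (DCoh.restrictD (f ⁻¹ᵁ V).ι ⋙ DCoh.RΓ (f ⁻¹ᵁ V : Scheme.{u}) ≅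
      DCoh.Rpush f ⋙ DCoh.restrictD V.ι ⋙ DCoh.RΓ (V : Scheme.{u})) := by
  have : DCoh.HasRpush (f ∣_ V) := hasRpush (f ∣_ V)
  obtain ⟨e1⟩ := nonempty_Rpush_restrictD_iso f V
  obtain ⟨e2⟩ := nonempty_Rpush_RΓ_iso (f ∣_ V)
  exact ⟨Functor.isoWhiskerLeft _ e2.symm ≪≫ (Functor.associator _ _ _).symm ≪≫
    Functor.isoWhiskerRight e1.symm _ ≪≫ Functor.associator _ _ _⟩

end Groth.Agent.Lib.Helper12.WKI
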