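import Groth.Agent.Lib.Helper12.GlueD2
import Groth.Agent.Lib.Helper13.KInjDerAdjH
import Groth.Agent.Lib.Helper15.ExactFunctorD
import Groth.Agent.Lib.Helper12.RDerSch
import Groth.Agent.Lib.Helper12.WKI7
import Groth.Prelude.Def_CxOX

set_option autoImplicit false
universe u
open CategoryTheory CategoryTheory.Limits AlgebraicGeometry Pretriangulated

attribute [local instance] HasDerivedCategory.standard

namespace Groth.Agent.Lib.Helper12.GlueD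

open Groth.Agent.Lib.Helper12.RDerSch

section AdjD

variable {W X : Scheme.{u}} (j : W ⟶ X) [IsOpenImmersion j] [DCoh.HasRpush j]

theorem exists_adjD : ∃ adj : DCoh.restrictD j ⊣ DCoh.Rpush j, IsIso adj.counit := by
  obtain ⟨adj₁⟩ := Groth.Agent.Lib.Helper13.KInjDerAdj.nonempty_adjunction_h
    (Scheme.Modules.restrictAdjunction j) (DCoh.Rpush j)
    ((DCoh.pushKh j).totalRightDerivedUnit DerivedCategory.Qh
      (HomotopyCategory.quasiIso W.Modules (ComplexShape.up ℤ)))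
  exact ⟨adj₁, Groth.Agent.Lib.Helper13.KInjDerAdj.isIso_counit_of_adjunction
    (Scheme.Modules.restrictAdjunction j) adj₁⟩

end AdjD


section Comp

variable {W' W X : Scheme.{u}} (k : W' ⟶ W) (j : W ⟶ X) (l : W' ⟶ X)
  [IsOpenImmersion k] [IsOpenImmersion j] [IsOpenImmersion l] (h : k ≫ j = l)

noncomputable def restrictDComp : DCoh.restrictD j ⋙ DCoh.restrictD k ≅ DCoh.restrictD l :=
  (Groth.Agent.Lib.Helper15.ExactFunctorD.mapDerivedCategoryComp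
    (Scheme.Modules.restrictFunctor j) (Scheme.Modules.restrictFunctor k)).symm ≪≫
    Groth.Agent.Lib.Helper15.ExactFunctorD.mapDerivedCategoryIso
      ((Scheme.Modules.restrictFunctorComp k j).symm ≪≫ Scheme.Modules.restrictFunctorCongr h)

end Comp

section Range

variable {X : Scheme.{u}} (U V : X.Opens)

theorem mem_range_homOfLE (x : X) (hU : x ∈ U) (hV : x ∈ V) :
    (⟨x, hU⟩ : U) ∈ Set.range (X.homOfLE (inf_le_left : U ⊓ V ≤ U)) :=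
  ⟨⟨x, ⟨hU, hV⟩⟩, X.homOfLE_apply' (inf_le_left : U ⊓ V ≤ U) x (show x ∈ U ⊓ V from ⟨hU, hV⟩)⟩

theorem range_preimage_ι_subset :
    Set.range (U.ι ⁻¹ᵁ V).ι ⊆ Set.range (X.homOfLE (inf_le_left : U ⊓ V ≤ U)) := by
  rintro _ ⟨x, rfl⟩
  exact mem_range_homOfLE U V x.1.1 x.1.2 x.2

theorem range_morphismRestrict_subset :
    Set.range (V.ι ∣_ U) ⊆ Set.range (X.homOfLE (inf_le_left : U ⊓ V ≤ U)) := by
  rintro _ ⟨x, rfl⟩
  have h1 := morphismRestrict_base_coe V.ι U x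
  have h2 : (((V.ι ∣_ U) x).1 : X) ∈ V := by
    rw [h1]
    exact (x.1).2
  exact mem_range_homOfLE U V ((V.ι ∣_ U) x).1 ((V.ι ∣_ U) x).2 h2

end Range


section Factor

variable {W' W U' : Scheme.{u}}

theorem rpush_factor (g : W' ⟶ U') (e : W' ⟶ W) (k : W ⟶ U') (h : e ≫ k = g)
    [DCoh.HasRpush g] [DCoh.HasRpush e] [DCoh.HasRpush k] (M : DCoh.D W') :
    ∃ N' : DCoh.D W, Nonempty ((DCoh.Rpush g).obj M ≅ (DCoh.Rpush k).obj N') := by
  subst h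
  obtain ⟨Θ⟩ := Groth.Agent.Lib.Helper12.WKI.nonempty_Rpush_comp_iso e k
  exact ⟨(DCoh.Rpush e).obj M, ⟨(Θ.app M).symm⟩⟩

end Factor

section Main

variable {X : Scheme.{u}} (U V : X.Opens)

theorem H1 [DCoh.HasRpush U.ι] {M M' : DCoh.D (U : Scheme.{u})} (m : M ⟶ M')
    (hm : IsIso ((DCoh.restrictD (X.homOfLE (inf_le_left : U ⊓ V ≤ U))).map m)) :
    IsIso ((DCoh.restrictD V.ι).map ((DCoh.Rpush U.ι).map m)) := by
  have : DCoh.HasRpush (U.ι ∣_ V) := Groth.Agent.Lib.Helper12.WKI.hasRpush _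
  obtain ⟨Ψ⟩ := nonempty_Rpush_restrictD_iso U.ι V
  change IsIso ((DCoh.Rpush U.ι ⋙ DCoh.restrictD V.ι).map m)
  rw [NatIso.isIso_map_iff Ψ m]
  let e := IsOpenImmersion.lift (X.homOfLE (inf_le_left : U ⊓ V ≤ U)) (U.ι ⁻¹ᵁ V).ι
    (range_preimage_ι_subset U V)
  have he : e ≫ X.homOfLE (inf_le_left : U ⊓ V ≤ U) = (U.ι ⁻¹ᵁ V).ι :=
    IsOpenImmersion.lift_fac _ _ _
  have hoe : IsOpenImmersion (e ≫ X.homOfLE (inf_le_left : U ⊓ V ≤ U)) := by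
    rw [he]; infer_instance
  have : IsOpenImmersion e := IsOpenImmersion.of_comp e (X.homOfLE (inf_le_left : U ⊓ V ≤ U))
  have Φ := restrictDComp e (X.homOfLE (inf_le_left : U ⊓ V ≤ U)) (U.ι ⁻¹ᵁ V).ι he
  have h1 : IsIso ((DCoh.restrictD (U.ι ⁻¹ᵁ V).ι).map m) := by
    rw [← NatIso.isIso_map_iff Φ m]
    change IsIso ((DCoh.restrictD e).map
      ((DCoh.restrictD (X.homOfLE (inf_le_left : U ⊓ V ≤ U))).map m))
    infer_instance
  change IsIso ((DCoh.Rpush (U.ι ∣_ V)).map ((DCoh.restrictD (U.ι ⁻¹ᵁ V).ι).map m))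
  infer_instance

theorem H2 [DCoh.HasRpush V.ι] [DCoh.HasRpush (X.homOfLE (inf_le_left : U ⊓ V ≤ U))]
    (B : DCoh.D (V : Scheme.{u})) :
    ∃ N' : DCoh.D ((U ⊓ V : X.Opens) : Scheme.{u}),
      Nonempty ((DCoh.restrictD U.ι).obj ((DCoh.Rpush V.ι).obj B) ≅
        (DCoh.Rpush (X.homOfLE (inf_le_left : U ⊓ V ≤ U))).obj N') := by
  have : DCoh.HasRpush (V.ι ∣_ U) := Groth.Agent.Lib.Helper12.WKI.hasRpush _
  obtain ⟨Ψ⟩ := nonempty_Rpush_restrictD_iso V.ι U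
  let e := IsOpenImmersion.lift (X.homOfLE (inf_le_left : U ⊓ V ≤ U)) (V.ι ∣_ U)
    (range_morphismRestrict_subset U V)
  have he : e ≫ X.homOfLE (inf_le_left : U ⊓ V ≤ U) = V.ι ∣_ U :=
    IsOpenImmersion.lift_fac _ _ _
  have : DCoh.HasRpush e := Groth.Agent.Lib.Helper12.WKI.hasRpush _
  obtain ⟨N', ⟨hN'⟩⟩ := rpush_factor (V.ι ∣_ U) e (X.homOfLE (inf_le_left : U ⊓ V ≤ U)) he
    ((DCoh.restrictD (V.ι ⁻¹ᵁ U).ι).obj B)
  exact ⟨N', ⟨Ψ.app B ≪≫ hN'⟩⟩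

theorem exists_glue_scheme (A : DCoh.D (U : Scheme.{u})) (B : DCoh.D (V : Scheme.{u}))
    (c : (DCoh.restrictD (X.homOfLE (inf_le_left : U ⊓ V ≤ U))).obj A ≅
      (DCoh.restrictD (X.homOfLE (inf_le_right : U ⊓ V ≤ V))).obj B) :
    ∃ F : DCoh.D X, Nonempty ((DCoh.restrictD U.ι).obj F ≅ A) ∧
      Nonempty ((DCoh.restrictD V.ι).obj F ≅ B) := by
  have : DCoh.HasRpush U.ι := Groth.Agent.Lib.Helper12.WKI.hasRpush _
  have : DCoh.HasRpush V.ι := Groth.Agent.Lib.Helper12.WKI.hasRpush _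
  have : DCoh.HasRpush (X.homOfLE (inf_le_left : U ⊓ V ≤ U)) :=
    Groth.Agent.Lib.Helper12.WKI.hasRpush _
  obtain ⟨aU, haU⟩ := exists_adjD U.ι
  obtain ⟨aV, haV⟩ := exists_adjD V.ι
  obtain ⟨bU, hbU⟩ := exists_adjD (X.homOfLE (inf_le_left : U ⊓ V ≤ U))
  have ζ : DCoh.restrictD U.ι ⋙ DCoh.restrictD (X.homOfLE (inf_le_left : U ⊓ V ≤ U)) ≅
      DCoh.restrictD V.ι ⋙ DCoh.restrictD (X.homOfLE (inf_le_right : U ⊓ V ≤ V)) :=
    restrictDComp (X.homOfLE (inf_le_left : U ⊓ V ≤ U)) U.ι (U ⊓ V).ι (X.homOfLE_ι _) ≪≫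
      (restrictDComp (X.homOfLE (inf_le_right : U ⊓ V ≤ V)) V.ι (U ⊓ V).ι (X.homOfLE_ι _)).symm
  exact exists_glue aU aV bU (DCoh.restrictD (X.homOfLE (inf_le_right : U ⊓ V ≤ V))) ζ
    (fun m hm => H1 U V m hm) (H2 U V) A B c

end Main

end Groth.Agent.Lib.Helper12.GlueD
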