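import Mathlib.Algebra.Homology.HomologySequence
import Mathlib.Algebra.Homology.HomologicalComplexAbelian
import Mathlib.CategoryTheory.Abelian.Exact
import Mathlib.Algebra.Homology.ShortComplex.ExactFunctor

set_option autoImplicit false
universe v₁ u₁ v₂ u₂
open CategoryTheory CategoryTheory.Limits

namespace Groth.Agent.Lib.Helper12.HomSeq

variable {A : Type u₁} [Category.{v₁} A] [Abelian A] {B : Type u₂} [Category.{v₂} B] [Abelian B]
  (G : A ⥤ CochainComplex B ℤ) [G.Additive]
  (hG : ∀ S : ShortComplex A, S.ShortExact → (S.map G).ShortExact)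

include hG

theorem exact_map (S : ShortComplex A) (hS : S.ShortExact) (p : ℤ) :
    (S.map (G ⋙ HomologicalComplex.homologyFunctor B (ComplexShape.up ℤ) p)).Exact :=
  (hG S hS).homology_exact₂ p

theorem epi_iff_mono (S : ShortComplex A) (hS : S.ShortExact) (p : ℤ) :
    Epi ((G ⋙ HomologicalComplex.homologyFunctor B (ComplexShape.up ℤ) p).map S.g) ↔
      Mono ((G ⋙ HomologicalComplex.homologyFunctor B (ComplexShape.up ℤ) (p + 1)).map S.f) := by
  have h3 := (hG S hS).homology_exact₃ p (p + 1) rfl
  have h1 := (hG S hS).homology_exact₁ p (p + 1) rfl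
  have e3 := h3.epi_f_iff
  have e1 := h1.mono_g_iff
  exact e3.trans e1.symm

theorem preservesFiniteColimits_iff (p : ℤ) :
    PreservesFiniteColimits (G ⋙ HomologicalComplex.homologyFunctor B (ComplexShape.up ℤ) p) ↔
      ∀ S : ShortComplex A, S.ShortExact →
        Mono ((G ⋙ HomologicalComplex.homologyFunctor B (ComplexShape.up ℤ) (p + 1)).map S.f) := by
  rw [Functor.preservesFiniteColimits_iff_forall_exact_map_and_epi]
  constructor
  · intro h S hS
    exact (epi_iff_mono G hG S hS p).mp (h S hS).2
  · intro h S hS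
    exact ⟨exact_map G hG S hS p, (epi_iff_mono G hG S hS p).mpr (h S hS)⟩

theorem preservesFiniteLimits_iff (p : ℤ) :
    PreservesFiniteLimits (G ⋙ HomologicalComplex.homologyFunctor B (ComplexShape.up ℤ) p) ↔
      ∀ S : ShortComplex A, S.ShortExact →
        Mono ((G ⋙ HomologicalComplex.homologyFunctor B (ComplexShape.up ℤ) p).map S.f) := by
  rw [Functor.preservesFiniteLimits_iff_forall_exact_map_and_mono]
  constructor
  · intro h S hS
    exact (h S hS).2
  · intro h S hS
    exact ⟨exact_map G hG S hS p, h S hS⟩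

theorem preservesFiniteColimits_iff_preservesFiniteLimits (p : ℤ) :
    PreservesFiniteColimits (G ⋙ HomologicalComplex.homologyFunctor B (ComplexShape.up ℤ) p) ↔
      PreservesFiniteLimits
        (G ⋙ HomologicalComplex.homologyFunctor B (ComplexShape.up ℤ) (p + 1)) :=
  (preservesFiniteColimits_iff G hG p).trans (preservesFiniteLimits_iff G hG (p + 1)).symm

end Groth.Agent.Lib.Helper12.HomSeq
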