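import Groth.Prelude.Def_KFlatSite
import Groth.Agent.Lib.Helper42.ModSheaf
import Mathlib.CategoryTheory.Abelian.GrothendieckAxioms.Colim
import Mathlib.Algebra.Homology.HomologicalComplexAbelian
import Mathlib.Algebra.Homology.HomologySequence
import Mathlib.Algebra.Homology.HomotopyCategory.DegreewiseSplit
import Mathlib.Algebra.Homology.HomotopyCategory.ShiftSequence
import Mathlib.Algebra.Homology.BifunctorShift

set_option autoImplicit false
universe u
open CategoryTheory CategoryTheory.Limits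

namespace Groth.Agent.Lib.Helper12.KFlat

section FunctorExact

universe v₁ u₁ v₂ u₂

variable {J : Type u₁} [Category.{v₁} J] {A : Type u₂} [Category.{v₂} A] [Abelian A]

theorem exact_of_pointwise (S : ShortComplex (J ⥤ A))
    (h : ∀ j, (S.map ((evaluation J A).obj j)).Exact) : S.Exact := by
  rw [ShortComplex.exact_iff_isZero_homology]
  rw [Functor.isZero_iff]
  intro j
  have e := ShortComplex.mapHomologyIso S ((evaluation J A).obj j)
  exact IsZero.of_iso ((ShortComplex.exact_iff_isZero_homology _).mp (h j)) e.symm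

end FunctorExact


open ModSite

variable {C : Type u} [SmallCategory C] {J : GrothendieckTopology C} (O : Sheaf J CommRingCat.{u})

instance hasExactColimitsOfShape_discrete (ι : Type) :
    HasExactColimitsOfShape (Discrete ι) (Mod O) := by
  have : PreservesColimitsOfShape (Discrete ι) (SheafOfModules.toSheaf.{u} (ringSh O)) :=
    (preservesColimitsOfSize_shrink.{0, u, 0, u}
      (SheafOfModules.toSheaf.{u} (ringSh O))).preservesColimitsOfShape
  have h0 : AB4OfSize.{0} AddCommGrpCat.{u} := inferInstance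
  have h1 : HasExactColimitsOfShape (Discrete ι) AddCommGrpCat.{u} := AB4OfSize.ofShape ι
  have h2 : HasExactColimitsOfShape (Discrete ι) (Sheaf J AddCommGrpCat.{u}) :=
    Sheaf.hasExactColimitsOfShape J
  exact HasExactColimitsOfShape.domain_of_functor (Discrete ι)
    (SheafOfModules.toSheaf.{u} (ringSh O))


section L1

variable {O}
variable (F : CochainComplex (Mod O) ℤ) (S : ShortComplex (CochainComplex (Mod O) ℤ))

abbrev fib (n : ℤ) : Type :=
  (ComplexShape.π (ComplexShape.up ℤ) (ComplexShape.up ℤ) (ComplexShape.up ℤ)) ⁻¹' {n}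

noncomputable abbrev gr (K : CochainComplex (Mod O) ℤ) : GradedObject (ℤ × ℤ) (Mod O) :=
  (((tensorBi O).mapBifunctorHomologicalComplex (ComplexShape.up ℤ) (ComplexShape.up ℤ)).obj F).obj K
    |>.toGradedObject

noncomputable def sc2 (n : ℤ) : ShortComplex (Discrete (fib n) ⥤ Mod O) where
  X₁ := Discrete.functor (fun i : fib n => ((tensorBi O).obj (F.X i.1.1)).obj (S.X₁.X i.1.2))
  X₂ := Discrete.functor (fun i : fib n => ((tensorBi O).obj (F.X i.1.1)).obj (S.X₂.X i.1.2))
  X₃ := Discrete.functor (fun i : fib n => ((tensorBi O).obj (F.X i.1.1)).obj (S.X₃.X i.1.2))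
  f := Discrete.natTrans (fun i => ((tensorBi O).obj (F.X i.as.1.1)).map (S.f.f i.as.1.2))
  g := Discrete.natTrans (fun i => ((tensorBi O).obj (F.X i.as.1.1)).map (S.g.f i.as.1.2))
  zero := by
    apply NatTrans.ext
    funext ⟨i⟩
    change ((tensorBi O).obj (F.X i.1.1)).map (S.f.f i.1.2) ≫
      ((tensorBi O).obj (F.X i.1.1)).map (S.g.f i.1.2) = 0
    rw [← Functor.map_comp, ← HomologicalComplex.comp_f, S.zero, HomologicalComplex.zero_f,
      Functor.map_zero]


noncomputable def coc (K : CochainComplex (Mod O) ℤ) (n : ℤ) :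
    Cocone (Discrete.functor (fun i : fib n => ((tensorBi O).obj (F.X i.1.1)).obj (K.X i.1.2))) :=
  (gr F K).cofanMapObj
    (ComplexShape.π (ComplexShape.up ℤ) (ComplexShape.up ℤ) (ComplexShape.up ℤ)) n

noncomputable def isColimitCoc (K : CochainComplex (Mod O) ℤ) (n : ℤ) : IsColimit (coc F K n) :=
  (gr F K).isColimitCofanMapObj
    (ComplexShape.π (ComplexShape.up ℤ) (ComplexShape.up ℤ) (ComplexShape.up ℤ)) n

theorem coc_ι_map {K L : CochainComplex (Mod O) ℤ} (φ : K ⟶ L) (n : ℤ) (j : Discrete (fib n)) :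
    (coc F K n).ι.app j ≫ (((tensorCx O).obj F).map φ).f n =
      ((tensorBi O).obj (F.X j.as.1.1)).map (φ.f j.as.1.2) ≫ (coc F L n).ι.app j := by
  obtain ⟨⟨⟨p, q⟩, hpq⟩⟩ := j
  have := HomologicalComplex.ι_mapBifunctorMap (𝟙 F) φ (tensorBi O) (ComplexShape.up ℤ) p q n hpq
  simp only [HomologicalComplex.id_f, CategoryTheory.Functor.map_id, NatTrans.id_app,
    Category.id_comp] at this
  exact this

instance preservesZeroMorphisms_tensorCx_obj : ((tensorCx O).obj F).PreservesZeroMorphisms where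
  map_zero K L := by
    apply HomologicalComplex.hom_ext
    intro n
    apply (isColimitCoc F K n).hom_ext
    intro j
    rw [coc_ι_map, HomologicalComplex.zero_f, Functor.map_zero, zero_comp,
      HomologicalComplex.zero_f]
    exact comp_zero.symm

theorem shortExact_map_tensorCx_obj
    (h : ∀ p q : ℤ, ((S.map (HomologicalComplex.eval _ _ q)).map
      ((tensorBi O).obj (F.X p))).ShortExact) :
    (S.map ((tensorCx O).obj F)).ShortExact := by
  apply HomologicalComplex.shortExact_of_degreewise_shortExact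
  intro n
  have hS' : (sc2 F S n).Exact := by
    apply exact_of_pointwise
    rintro ⟨⟨⟨p, q⟩, hpq⟩⟩
    exact (h p q).exact
  have hmono : Mono (sc2 F S n).f := by
    apply (config := { allowSynthFailures := true }) NatTrans.mono_of_mono_app
    rintro ⟨⟨⟨p, q⟩, hpq⟩⟩
    exact (h p q).mono_f
  have hepi : ∀ j, Epi ((sc2 F S n).g.app j) := by
    rintro ⟨⟨⟨p, q⟩, hpq⟩⟩
    exact (h p q).epi_g
  have hf := fun j => coc_ι_map F S.f n j
  have hg := fun j => coc_ι_map F S.g n j
  have hex := colim.exact_mapShortComplex hS' (isColimitCoc F S.X₁ n)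
    (isColimitCoc F S.X₂ n) (isColimitCoc F S.X₃ n)
    ((((tensorCx O).obj F).map S.f).f n) ((((tensorCx O).obj F).map S.g).f n) hf hg
  have hm : Mono ((((tensorCx O).obj F).map S.f).f n) :=
    colim.map_mono' (sc2 F S n).f (isColimitCoc F S.X₁ n) (isColimitCoc F S.X₂ n) _ hf
  have he : Epi ((((tensorCx O).obj F).map S.g).f n) :=
    colim.map_epi' (sc2 F S n).g (coc F S.X₂ n) (isColimitCoc F S.X₃ n) _ hg
  exact { exact := hex, mono_f := hm, epi_g := he }

end L1

section TwoOfThree

universe v₂ u₂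

variable {A : Type u₂} [Category.{v₂} A] [Abelian A]

def Acyc (K : CochainComplex A ℤ) : Prop := ∀ i : ℤ, IsZero (K.homology i)

variable (S : ShortComplex (CochainComplex A ℤ)) (hS : S.ShortExact)

include hS

theorem acyc_X₂ (h₁ : Acyc S.X₁) (h₃ : Acyc S.X₃) : Acyc S.X₂ := fun i =>
  (hS.homology_exact₂ i).isZero_of_both_isZero (h₁ i) (h₃ i)

theorem acyc_X₃ (h₁ : Acyc S.X₁) (h₂ : Acyc S.X₂) : Acyc S.X₃ := fun i =>
  (hS.homology_exact₃ i (i + 1) rfl).isZero_of_both_isZero (h₂ i) (h₁ (i + 1))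

theorem acyc_X₁ (h₂ : Acyc S.X₂) (h₃ : Acyc S.X₃) : Acyc S.X₁ := fun i => by
  have := (hS.homology_exact₁ (i - 1) i (by simp)).isZero_of_both_isZero (h₃ (i - 1)) (h₂ i)
  exact this

end TwoOfThree

section Shift

universe v₂ u₂

variable {A : Type u₂} [Category.{v₂} A] [Abelian A]

theorem acyc_shift_iff (K : CochainComplex A ℤ) (n : ℤ) : Acyc (K⟦n⟧) ↔ Acyc K := by
  constructor
  · intro h i
    have e := (CochainComplex.ShiftSequence.shiftIso A n (i - n) i (by omega)).app K
    exact IsZero.of_iso (h (i - n)) e.symm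
  · intro h i
    have e := (CochainComplex.ShiftSequence.shiftIso A n i (n + i) rfl).app K
    exact IsZero.of_iso (h (n + i)) e

theorem acyc_of_iso {K L : CochainComplex A ℤ} (e : K ≅ L) (h : Acyc K) : Acyc L := fun i =>
  IsZero.of_iso (h i) ((HomologicalComplex.homologyFunctor A _ i).mapIso e).symm

end Shift


section Cone

variable {O}

theorem isKFlat_iff (K : CochainComplex (Mod O) ℤ) :
    IsKFlat K ↔ ∀ F : CochainComplex (Mod O) ℤ, Acyc F → Acyc (((tensorCx O).obj F).obj K) :=
  Iff.rfl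

theorem acyc_tensor_shift_iff (F K : CochainComplex (Mod O) ℤ) (n : ℤ) :
    Acyc (((tensorCx O).obj F).obj (K⟦n⟧)) ↔ Acyc (((tensorCx O).obj F).obj K) := by
  have e : ((tensorCx O).obj F).obj (K⟦n⟧) ≅ (((tensorCx O).obj F).obj K)⟦n⟧ :=
    CochainComplex.mapBifunctorShift₂Iso F K (tensorBi O) n
  constructor
  · intro h
    exact (acyc_shift_iff _ n).mp (acyc_of_iso e h)
  · intro h
    exact acyc_of_iso e.symm ((acyc_shift_iff _ n).mpr h)

theorem shortExact_cone (F : CochainComplex (Mod O) ℤ) {K₁ K₂ : CochainComplex (Mod O) ℤ}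
    (φ : K₁ ⟶ K₂) :
    ((CochainComplex.mappingCone.triangleRotateShortComplex φ).map
      ((tensorCx O).obj F)).ShortExact := by
  apply shortExact_map_tensorCx_obj
  intro p q
  exact ((CochainComplex.mappingCone.triangleRotateShortComplexSplitting φ q).map
    ((tensorBi O).obj (F.X p))).shortExact

theorem isKFlat_cone {K₁ K₂ : CochainComplex (Mod O) ℤ} (φ : K₁ ⟶ K₂) :
    (IsKFlat K₁ → IsKFlat K₂ → IsKFlat (CochainComplex.mappingCone φ)) ∧
    (IsKFlat K₁ → IsKFlat (CochainComplex.mappingCone φ) → IsKFlat K₂) ∧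
    (IsKFlat K₂ → IsKFlat (CochainComplex.mappingCone φ) → IsKFlat K₁) := by
  refine ⟨fun h₁ h₂ F hF => ?_, fun h₁ hc F hF => ?_, fun h₂ hc F hF => ?_⟩
  · have hS := shortExact_cone F φ
    exact acyc_X₂ _ hS (h₂ F hF) ((acyc_tensor_shift_iff F K₁ 1).mpr (h₁ F hF))
  · have hS := shortExact_cone F φ
    exact acyc_X₁ _ hS (hc F hF) ((acyc_tensor_shift_iff F K₁ 1).mpr (h₁ F hF))
  · have hS := shortExact_cone F φ
    exact (acyc_tensor_shift_iff F K₁ 1).mp (acyc_X₃ _ hS (h₂ F hF) (hc F hF))

end Cone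

end Groth.Agent.Lib.Helper12.KFlat
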