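import Groth.Agent.Lib.Helper12.KFlat9

set_option autoImplicit false
universe u
open CategoryTheory CategoryTheory.Limits

namespace Groth.Agent.Lib.Helper12.KFlat

open ModSite Groth.Agent.Lib.Helper42.Flat Groth.Agent.Lib.Helper42.Flat2
  Groth.Agent.Lib.Helper42.TensorColim Groth.Agent.Lib.Helper42.FlatCx
open CochainComplex CochainComplex.HomComplex

section ConeMap

universe v₂ u₂

variable {A : Type u₂} [Category.{v₂} A] [Preadditive A] [HasBinaryBiproducts A]

variable {K₁ L₁ K₂ L₂ : CochainComplex A ℤ} (φ₁ : K₁ ⟶ L₁) (φ₂ : K₂ ⟶ L₂)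
  (a : K₁ ⟶ K₂) (b : L₁ ⟶ L₂) (comm : φ₁ ≫ b = a ≫ φ₂)

@[reassoc]
theorem inl_v_map_f (p p' : ℤ) (h : p + (-1) = p') :
    (mappingCone.inl φ₁).v p p' h ≫ (mappingCone.map φ₁ φ₂ a b comm).f p' =
      a.f p ≫ (mappingCone.inl φ₂).v p p' h := by
  unfold mappingCone.map
  rw [mappingCone.inl_v_desc_f, Cochain.zero_cochain_comp_v, Cochain.ofHom_v]

@[reassoc]
theorem inr_f_map_f (p : ℤ) :
    (mappingCone.inr φ₁).f p ≫ (mappingCone.map φ₁ φ₂ a b comm).f p =
      b.f p ≫ (mappingCone.inr φ₂).f p := by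
  unfold mappingCone.map
  rw [mappingCone.inr_f_desc_f, HomologicalComplex.comp_f]

theorem map_congr {a a' : K₁ ⟶ K₂} {b b' : L₁ ⟶ L₂} (ha : a = a') (hb : b = b')
    (comm : φ₁ ≫ b = a ≫ φ₂) (comm' : φ₁ ≫ b' = a' ≫ φ₂) :
    mappingCone.map φ₁ φ₂ a b comm = mappingCone.map φ₁ φ₂ a' b' comm' := by
  subst ha hb
  rfl

noncomputable def coneFunctor (G : CochainComplex A ℤ) : Over G ⥤ CochainComplex A ℤ where
  obj X := mappingCone X.hom
  map {X Y} f := mappingCone.map X.hom Y.hom f.left (𝟙 G) (by rw [Category.comp_id, Over.w])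
  map_id X := mappingCone.map_id X.hom
  map_comp {X Y Z} f g := by
    have h := mappingCone.map_comp X.hom Y.hom Z.hom f.left (𝟙 G)
      (by rw [Category.comp_id, Over.w]) g.left (𝟙 G) (by rw [Category.comp_id, Over.w])
    rw [← h]
    exact map_congr _ _ rfl (Category.comp_id _).symm _ _

section ConeColim

variable {G : CochainComplex A ℤ} (T : ℕ ⥤ Over G) (c : Cocone (T ⋙ Over.forget G))

def cι (n : ℕ) : (T.obj n).left ⟶ c.pt := c.ι.app n

omit [HasBinaryBiproducts A] in
theorem cι_w {n m : ℕ} (f : n ⟶ m) : (T.map f).left ≫ cι T c m = cι T c n := c.w f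

noncomputable def coneMapT {n m : ℕ} (f : n ⟶ m) :
    mappingCone (T.obj n).hom ⟶ mappingCone (T.obj m).hom :=
  mappingCone.map (T.obj n).hom (T.obj m).hom (T.map f).left (𝟙 G)
    (by rw [Category.comp_id, Over.w])

@[reassoc]
theorem inl_coneMapT {n m : ℕ} (f : n ⟶ m) (p p' : ℤ) (h : p + (-1) = p') :
    (mappingCone.inl (T.obj n).hom).v p p' h ≫ (coneMapT T f).f p' =
      (T.map f).left.f p ≫ (mappingCone.inl (T.obj m).hom).v p p' h :=
  inl_v_map_f _ _ _ _ _ _ _ _

@[reassoc]
theorem inr_coneMapT {n m : ℕ} (f : n ⟶ m) (p : ℤ) :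
    (mappingCone.inr (T.obj n).hom).f p ≫ (coneMapT T f).f p =
      (mappingCone.inr (T.obj m).hom).f p := by
  unfold coneMapT
  rw [inr_f_map_f, HomologicalComplex.id_f, Category.id_comp]

variable (q : c.pt ⟶ G) (hq : ∀ n, cι T c n ≫ q = (T.obj n).hom)

noncomputable def coneMapC (n : ℕ) : mappingCone (T.obj n).hom ⟶ mappingCone q :=
  mappingCone.map (T.obj n).hom q (cι T c n) (𝟙 G) (by rw [Category.comp_id, hq])

@[reassoc]
theorem inl_coneMapC (n : ℕ) (p p' : ℤ) (h : p + (-1) = p') :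
    (mappingCone.inl (T.obj n).hom).v p p' h ≫ (coneMapC T c q hq n).f p' =
      (cι T c n).f p ≫ (mappingCone.inl q).v p p' h :=
  inl_v_map_f _ _ _ _ _ _ _ _

@[reassoc]
theorem inr_coneMapC (n : ℕ) (p : ℤ) :
    (mappingCone.inr (T.obj n).hom).f p ≫ (coneMapC T c q hq n).f p =
      (mappingCone.inr q).f p := by
  unfold coneMapC
  rw [inr_f_map_f, HomologicalComplex.id_f, Category.id_comp]

theorem coneMapT_C {n m : ℕ} (f : n ⟶ m) :
    coneMapT T f ≫ coneMapC T c q hq m = coneMapC T c q hq n := by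
  unfold coneMapT coneMapC
  rw [← mappingCone.map_comp]
  exact map_congr _ _ (cι_w T c f) (Category.comp_id _) _ _

noncomputable def coneCocone : Cocone (T ⋙ coneFunctor G) where
  pt := mappingCone q
  ι :=
    { app n := coneMapC T c q hq n
      naturality _ _ f := (coneMapT_C T c q hq f).trans (Category.comp_id _).symm }

variable (j : ℤ)

section

variable (s : Cocone ((T ⋙ coneFunctor G) ⋙ HomologicalComplex.eval A (ComplexShape.up ℤ) j))

def sι (n : ℕ) : (mappingCone (T.obj n).hom).X j ⟶ s.pt := s.ι.app n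

theorem sι_w {n m : ℕ} (f : n ⟶ m) : (coneMapT T f).f j ≫ sι T j s m = sι T j s n := s.w f

noncomputable def auxCocone :
    Cocone ((T ⋙ Over.forget G) ⋙ HomologicalComplex.eval A (ComplexShape.up ℤ) (j + 1)) where
  pt := s.pt
  ι :=
    { app n := (mappingCone.inl (T.obj n).hom).v (j + 1) j (by omega) ≫ sι T j s n
      naturality n m f := by
        change (T.map f).left.f (j + 1) ≫ (mappingCone.inl (T.obj m).hom).v (j + 1) j _ ≫
          sι T j s m = ((mappingCone.inl (T.obj n).hom).v (j + 1) j _ ≫ sι T j s n) ≫ 𝟙 _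
        rw [Category.comp_id, ← sι_w T j s f, inl_coneMapT_assoc] }

noncomputable def auxDesc
    (hc : ∀ j, IsColimit ((HomologicalComplex.eval A (ComplexShape.up ℤ) j).mapCocone c)) :
    c.pt.X (j + 1) ⟶ s.pt :=
  (hc (j + 1)).desc (auxCocone T j s)

noncomputable def descX
    (hc : ∀ j, IsColimit ((HomologicalComplex.eval A (ComplexShape.up ℤ) j).mapCocone c)) :
    (mappingCone q).X j ⟶ s.pt :=
  (mappingCone.fst q).1.v j (j + 1) rfl ≫ auxDesc T c j s hc +
    (mappingCone.snd q).v j j (add_zero j) ≫ (mappingCone.inr (T.obj 0).hom).f j ≫ sι T j s 0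

theorem fac_aux
    (hc : ∀ j, IsColimit ((HomologicalComplex.eval A (ComplexShape.up ℤ) j).mapCocone c)) (n : ℕ) :
    (cι T c n).f (j + 1) ≫ auxDesc T c j s hc =
      (mappingCone.inl (T.obj n).hom).v (j + 1) j (by omega) ≫ sι T j s n :=
  (hc (j + 1)).fac (auxCocone T j s) n

end

noncomputable def isColimitConeCocone
    (hc : ∀ j, IsColimit ((HomologicalComplex.eval A (ComplexShape.up ℤ) j).mapCocone c)) :
    IsColimit ((HomologicalComplex.eval A (ComplexShape.up ℤ) j).mapCocone
      (coneCocone T c q hq)) where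
  desc s := descX T c q j s hc
  fac s n := by
    change (coneMapC T c q hq n).f j ≫ descX T c q j s hc = sι T j s n
    rw [mappingCone.ext_from_iff (T.obj n).hom (j + 1) j rfl]
    unfold descX
    constructor
    · rw [inl_coneMapC_assoc, Preadditive.comp_add, Preadditive.comp_add,
        mappingCone.inl_v_fst_v_assoc, mappingCone.inl_v_snd_v_assoc, zero_comp, comp_zero,
        add_zero]
      exact fac_aux T c j s hc n
    · rw [inr_coneMapC_assoc, Preadditive.comp_add,
        mappingCone.inr_f_fst_v_assoc, mappingCone.inr_f_snd_v_assoc, zero_comp,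
        zero_add]
      rw [← sι_w T j s (homOfLE (Nat.zero_le n)), inr_coneMapT_assoc]
  uniq s m hm := by
    have hm' : ∀ n, (coneMapC T c q hq n).f j ≫ m = sι T j s n := hm
    suffices key : ∀ (m : (mappingCone q).X j ⟶ s.pt),
        (∀ n, (coneMapC T c q hq n).f j ≫ m = sι T j s n) → m = descX T c q j s hc from
      key m hm'
    clear hm hm' m
    intro m hm'
    rw [mappingCone.ext_from_iff q (j + 1) j rfl]
    unfold descX
    constructor
    · rw [Preadditive.comp_add, mappingCone.inl_v_fst_v_assoc, mappingCone.inl_v_snd_v_assoc,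
        zero_comp, add_zero]
      apply (hc (j + 1)).hom_ext
      intro n
      change (cι T c n).f (j + 1) ≫ _ = (cι T c n).f (j + 1) ≫ _
      rw [fac_aux T c j s hc n, ← hm' n, inl_coneMapC_assoc]
    · rw [Preadditive.comp_add, mappingCone.inr_f_fst_v_assoc, mappingCone.inr_f_snd_v_assoc,
        zero_comp, zero_add, ← hm' 0, inr_coneMapC_assoc]

end ConeColim

end ConeMap

end Groth.Agent.Lib.Helper12.KFlat
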