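import Groth.Agent.Lib.Helper12.KFlat10

set_option autoImplicit false
universe u
open CategoryTheory CategoryTheory.Limits

namespace Groth.Agent.Lib.Helper12.KFlat

open ModSite Groth.Agent.Lib.Helper42.Flat Groth.Agent.Lib.Helper42.Flat2
  Groth.Agent.Lib.Helper42.TensorColim Groth.Agent.Lib.Helper42.FlatCx
open CochainComplex CochainComplex.HomComplex

variable {C : Type u} [SmallCategory C] {J : GrothendieckTopology C} {O : Sheaf J CommRingCat.{u}}

section StepProps

theorem isFlat_cone_X {K₁ K₂ : CochainComplex (Mod O) ℤ} (φ : K₁ ⟶ K₂)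
    (h₁ : ∀ n, IsFlat (K₁.X n)) (h₂ : ∀ n, IsFlat (K₂.X n)) (n : ℤ) :
    IsFlat ((mappingCone φ).X n) :=
  isFlat_X₂ O ((mappingCone.triangleRotateShortComplex φ).map
      (HomologicalComplex.eval _ _ n))
    (mappingCone.triangleRotateShortComplexSplitting φ n).shortExact (h₂ n) (h₁ (n + 1))

variable {K G : CochainComplex (Mod O) ℤ} (q : K ⟶ G)

theorem isKFlat_stepK (hK : IsKFlat K) : IsKFlat (stepK q) :=
  (isKFlat_cone (att q)).1 (isKFlat_zeroCx _ (fun _ => isFlat_genObj _)) hK

theorem isFlat_stepK_X (hK : ∀ n, IsFlat (K.X n)) (n : ℤ) : IsFlat ((stepK q).X n) :=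
  isFlat_cone_X (att q) (fun _ => isFlat_genObj _) hK n

theorem epi_stepQ_f (n : ℤ) (h : Epi (q.f n)) : Epi ((stepQ q).f n) := by
  have h' : (stepJ q).f n ≫ (stepQ q).f n = q.f n := by
    rw [← HomologicalComplex.comp_f, stepJ_Q]
  exact epi_of_epi_fac h'

end StepProps

section Start

variable (G : CochainComplex (Mod O) ℤ)

noncomputable def startX (p : ℤ) : Mod O := genObj (G.X (p - 1))

noncomputable def startZ : CochainComplex (Mod O) ℤ := zeroCx (startX G)

noncomputable def startGen (p : ℤ) : (startZ G).X p ⟶ G.X (p - 1) := genπ (G.X (p - 1))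

instance epi_startGen (p : ℤ) : Epi (startGen G p) := epi_genπ _

theorem startZ_d (p p' : ℤ) : (startZ G).d p p' = 0 := rfl

noncomputable def startα : Cochain (startZ G) G (-1) :=
  Cochain.mk (fun p p' _ => startGen G p ≫ (Cochain.ofHom (𝟙 G)).v (p - 1) p' (by omega))

theorem startα_v (p : ℤ) :
    (startα G).v p (p - 1) (by omega) = startGen G p := by
  change startGen G p ≫ (Cochain.ofHom (𝟙 G)).v (p - 1) (p - 1) _ = _
  rw [Cochain.ofHom_v, HomologicalComplex.id_f, Category.comp_id]

noncomputable def startβ : startZ G ⟶ G where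
  f p := startGen G p ≫ G.d (p - 1) p
  comm' p p' _ := by
    rw [startZ_d, zero_comp, Category.assoc, G.d_comp_d, comp_zero]

theorem startα_eq : δ (-1) 0 (startα G) = Cochain.ofHom (𝟙 (startZ G) ≫ startβ G) := by
  apply Cochain.ext₀
  intro p
  rw [δ_v (-1) 0 (by omega) (startα G) p p (add_zero p) (p - 1) (p + 1) rfl rfl]
  rw [startZ_d, zero_comp, smul_zero, add_zero, Cochain.ofHom_v, startα_v, Category.id_comp]
  rfl

noncomputable def startK : CochainComplex (Mod O) ℤ := mappingCone (𝟙 (startZ G))

noncomputable def startQ : startK G ⟶ G :=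
  mappingCone.desc (𝟙 (startZ G)) (startα G) (startβ G) (startα_eq G)

theorem isFlat_startX (p : ℤ) : IsFlat (startX G p) := isFlat_genObj _

theorem isKFlat_startK : IsKFlat (startK G) :=
  (isKFlat_cone (𝟙 (startZ G))).1 (isKFlat_zeroCx _ (isFlat_startX G))
    (isKFlat_zeroCx _ (isFlat_startX G))

theorem isFlat_startK_X (n : ℤ) : IsFlat ((startK G).X n) :=
  isFlat_cone_X (𝟙 (startZ G)) (isFlat_startX G) (isFlat_startX G) n

theorem epi_startQ_f (n : ℤ) : Epi ((startQ G).f n) := by
  obtain ⟨p, rfl⟩ : ∃ p, n = p - 1 := ⟨n + 1, by omega⟩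
  have h : (mappingCone.inl (𝟙 (startZ G))).v p (p - 1) (by omega) ≫ (startQ G).f (p - 1) =
      startGen G p := by
    unfold startQ
    rw [mappingCone.inl_v_desc_f, startα_v]
  exact epi_of_epi_fac h

end Start

section Iterate

variable {G : CochainComplex (Mod O) ℤ}

structure Good (s : Over G) : Prop where
  kflat : IsKFlat s.left
  flat : ∀ n, IsFlat (s.left.X n)
  epi : ∀ n, Epi (s.hom.f n)

noncomputable def nextO (s : Over G) : Over G := Over.mk (stepQ s.hom)

noncomputable def nextJ (s : Over G) : s ⟶ nextO s := Over.homMk (stepJ s.hom) (stepJ_Q s.hom)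

theorem good_next (s : Over G) (h : Good s) : Good (nextO s) where
  kflat := isKFlat_stepK s.hom h.kflat
  flat := isFlat_stepK_X s.hom h.flat
  epi n := epi_stepQ_f s.hom n (h.epi n)

variable (G)

noncomputable def startO : Over G := Over.mk (startQ G)

theorem good_start : Good (startO G) where
  kflat := isKFlat_startK G
  flat := isFlat_startK_X G
  epi := epi_startQ_f G

noncomputable def stageO : ℕ → Over G := fun n => Nat.rec (startO G) (fun _ s => nextO s) n

theorem good_stage (n : ℕ) : Good (stageO G n) := by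
  induction n with
  | zero => exact good_start G
  | succ n ih => exact good_next _ ih

noncomputable def towerO : ℕ ⥤ Over G :=
  Functor.ofSequence (X := stageO G) (fun n => nextJ (stageO G n))

theorem towerO_obj (n : ℕ) : (towerO G).obj n = stageO G n := rfl

theorem towerO_map_succ (n : ℕ) :
    (towerO G).map (homOfLE (Nat.le_succ n)) = nextJ (stageO G n) :=
  Functor.ofSequence_map_homOfLE_succ _ n

theorem homologyMap_coneTower (n : ℕ) (i : ℤ) :
    HomologicalComplex.homologyMap
      ((towerO G ⋙ coneFunctor G).map (homOfLE (Nat.le_succ n))) i = 0 := by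
  have h : (towerO G ⋙ coneFunctor G).map (homOfLE (Nat.le_succ n)) =
      stepφ (stageO G n).hom := by
    change (coneFunctor G).map ((towerO G).map (homOfLE (Nat.le_succ n))) = _
    rw [towerO_map_succ]
    rfl
  rw [h]
  exact homologyMap_stepφ _ i

end Iterate

end Groth.Agent.Lib.Helper12.KFlat
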