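import Groth.Agent.Lib.Helper12.KFlat11

set_option autoImplicit false
universe u
open CategoryTheory CategoryTheory.Limits

namespace Groth.Agent.Lib.Helper12.KFlat

open ModSite Groth.Agent.Lib.Helper42.Flat Groth.Agent.Lib.Helper42.Flat2
  Groth.Agent.Lib.Helper42.TensorColim Groth.Agent.Lib.Helper42.FlatCx
open CochainComplex CochainComplex.HomComplex

variable {C : Type u} [SmallCategory C] {J : GrothendieckTopology C} {O : Sheaf J CommRingCat.{u}}

section FlatColimNat

instance preservesColimitsOfShape_nat_tensorBi_flip :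
    PreservesColimitsOfShape ℕ (tensorBi O).flip :=
  (preservesColimitsOfSize_shrink.{0, u, 0, u} (tensorBi O).flip).preservesColimitsOfShape

theorem isFlat_of_isColimit_nat (D : ℕ ⥤ Mod O) (hD : ∀ k, IsFlat (D.obj k)) (c : Cocone D)
    (hc : IsColimit c) : IsFlat c.pt := by
  rw [isFlat_iff]
  let B : Mod O ⥤ (Mod O ⥤ Mod O) := (tensorBi O).flip
  have hc' : IsColimit (B.mapCocone c) := isColimitOfPreserves B hc
  let e : tensR O c.pt ≅ (D ⋙ B).flip ⋙ colim :=
    (hc'.coconePointUniqueUpToIso (colimit.isColimit (D ⋙ B))) ≪≫ colimitIsoFlipCompColim (D ⋙ B)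
  have h1 : PreservesFiniteLimits (D ⋙ B).flip := by
    constructor
    intro K' _ _
    apply preservesLimitsOfShape_of_evaluation
    intro k
    have := ((isFlat_iff O (D.obj k)).mp (hD k))
    exact (inferInstanceAs (PreservesLimitsOfShape K' (tensR O (D.obj k))))
  have h2 : PreservesFiniteLimits (colim : (ℕ ⥤ Mod O) ⥤ Mod O) :=
    HasExactColimitsOfShape.preservesFiniteLimits
  have : PreservesFiniteLimits ((D ⋙ B).flip ⋙ colim) := comp_preservesFiniteLimits _ _
  exact preservesFiniteLimits_of_natIso e.symm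

end FlatColimNat

section Final

variable (G : CochainComplex (Mod O) ℤ)

noncomputable def towerF : ℕ ⥤ CochainComplex (Mod O) ℤ := towerO G ⋙ Over.forget G

theorem isKFlat_towerF_obj (n : ℕ) : IsKFlat ((towerF G).obj n) := (good_stage G n).kflat

theorem isFlat_towerF_obj_X (j : ℤ) (n : ℕ) :
    IsFlat ((towerF G ⋙ HomologicalComplex.eval (Mod O) (ComplexShape.up ℤ) j).obj n) :=
  (good_stage G n).flat j

noncomputable def resCocone : Cocone (towerO G ⋙ Over.forget G) := colimit.cocone (towerF G)

noncomputable def resIsColimit : IsColimit (resCocone G) := colimit.isColimit (towerF G)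

theorem isKFlat_resK : IsKFlat (resCocone G).pt :=
  isKFlat_of_isColimit_nat (towerF G) (resCocone G) (resIsColimit G) (isKFlat_towerF_obj G)

noncomputable def resIsColimitEval (j : ℤ) :
    IsColimit ((HomologicalComplex.eval (Mod O) (ComplexShape.up ℤ) j).mapCocone (resCocone G)) :=
  isColimitOfPreserves _ (resIsColimit G)

theorem isFlat_resK_X (j : ℤ) : IsFlat ((resCocone G).pt.X j) := by
  have h := isFlat_of_isColimit_nat
    ((towerO G ⋙ Over.forget G) ⋙ HomologicalComplex.eval (Mod O) (ComplexShape.up ℤ) j)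
    (isFlat_towerF_obj_X G j)
    ((HomologicalComplex.eval (Mod O) (ComplexShape.up ℤ) j).mapCocone (resCocone G))
    (resIsColimitEval G j)
  exact h

noncomputable def resQ : (resCocone G).pt ⟶ G :=
  (resIsColimit G).desc ((Over.forgetCocone G).whisker (towerO G))

theorem resQ_fac (n : ℕ) : cι (towerO G) (resCocone G) n ≫ resQ G = ((towerO G).obj n).hom :=
  (resIsColimit G).fac ((Over.forgetCocone G).whisker (towerO G)) n

theorem acyc_cone_resQ : Acyc (mappingCone (resQ G)) :=
  acyc_of_isColimit_of_homologyMap_eq_zero (towerO G ⋙ coneFunctor G)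
    (coneCocone (towerO G) (resCocone G) (resQ G) (resQ_fac G))
    (fun j => isColimitConeCocone (towerO G) (resCocone G) (resQ G) (resQ_fac G) j
      (resIsColimitEval G))
    (homologyMap_coneTower G)

theorem quasiIso_resQ : QuasiIso (resQ G) :=
  (acyclic_mappingCone_iff (resQ G)).mp ((acyclic_iff_acyc _).mpr (acyc_cone_resQ G))

theorem epi_resQ_f (j : ℤ) : Epi ((resQ G).f j) := by
  have h0 : (cι (towerO G) (resCocone G) 0).f j ≫ (resQ G).f j = ((towerO G).obj 0).hom.f j := by
    rw [← HomologicalComplex.comp_f, resQ_fac]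
  have : Epi (((towerO G).obj 0).hom.f j) := (good_stage G 0).epi j
  exact epi_of_epi_fac h0

theorem exists_isKFlat_resolution :
    ∃ (K : CochainComplex (Mod O) ℤ) (q : K ⟶ G), IsKFlat K ∧
      (∀ n : ℤ, IsFlat (K.X n)) ∧ QuasiIso q ∧ ∀ n : ℤ, Epi (q.f n) :=
  ⟨(resCocone G).pt, resQ G, isKFlat_resK G, isFlat_resK_X G, quasiIso_resQ G, epi_resQ_f G⟩

end Final

end Groth.Agent.Lib.Helper12.KFlat
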