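import Groth.Agent.Lib.Helper12.KFlat12

set_option autoImplicit false
universe u
open CategoryTheory CategoryTheory.Limits

namespace Groth.Agent.Lib.Helper12.KFlat

open ModSite Groth.Agent.Lib.Helper42.Flat Groth.Agent.Lib.Helper42.Flat2
  Groth.Agent.Lib.Helper42.TensorColim Groth.Agent.Lib.Helper42.FlatCx
open CochainComplex CochainComplex.HomComplex

variable {C : Type u} [SmallCategory C] {J : GrothendieckTopology C} {O : Sheaf J CommRingCat.{u}}

section IterateFrom

variable {G : CochainComplex (Mod O) ℤ} (s₀ : Over G)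

noncomputable def stageFrom : ℕ → Over G := fun n => Nat.rec s₀ (fun _ s => nextO s) n

theorem isKFlat_stageFrom (h : IsKFlat s₀.left) (n : ℕ) : IsKFlat (stageFrom s₀ n).left := by
  induction n with
  | zero => exact h
  | succ n ih => exact isKFlat_stepK _ ih

theorem isFlat_stageFrom (h : ∀ j, IsFlat (s₀.left.X j)) (n : ℕ) (j : ℤ) :
    IsFlat ((stageFrom s₀ n).left.X j) := by
  induction n generalizing j with
  | zero => exact h j
  | succ n ih => exact isFlat_stepK_X _ ih j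

noncomputable def towerFrom : ℕ ⥤ Over G :=
  Functor.ofSequence (X := stageFrom s₀) (fun n => nextJ (stageFrom s₀ n))

theorem towerFrom_map_succ (n : ℕ) :
    (towerFrom s₀).map (homOfLE (Nat.le_succ n)) = nextJ (stageFrom s₀ n) :=
  Functor.ofSequence_map_homOfLE_succ _ n

theorem homologyMap_coneTowerFrom (n : ℕ) (i : ℤ) :
    HomologicalComplex.homologyMap
      ((towerFrom s₀ ⋙ coneFunctor G).map (homOfLE (Nat.le_succ n))) i = 0 := by
  have h : (towerFrom s₀ ⋙ coneFunctor G).map (homOfLE (Nat.le_succ n)) =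
      stepφ (stageFrom s₀ n).hom := by
    change (coneFunctor G).map ((towerFrom s₀).map (homOfLE (Nat.le_succ n))) = _
    rw [towerFrom_map_succ]
    rfl
  rw [h]
  exact homologyMap_stepφ _ i

noncomputable def towerFromF : ℕ ⥤ CochainComplex (Mod O) ℤ := towerFrom s₀ ⋙ Over.forget G

theorem isKFlat_towerFromF_obj (h : IsKFlat s₀.left) (n : ℕ) :
    IsKFlat ((towerFromF s₀).obj n) := isKFlat_stageFrom s₀ h n

theorem isFlat_towerFromF_obj_X (h : ∀ j, IsFlat (s₀.left.X j)) (j : ℤ) (n : ℕ) :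
    IsFlat ((towerFromF s₀ ⋙ HomologicalComplex.eval (Mod O) (ComplexShape.up ℤ) j).obj n) :=
  isFlat_stageFrom s₀ h n j

noncomputable def fromCocone : Cocone (towerFrom s₀ ⋙ Over.forget G) :=
  colimit.cocone (towerFromF s₀)

noncomputable def fromIsColimit : IsColimit (fromCocone s₀) := colimit.isColimit (towerFromF s₀)

theorem isKFlat_fromK (h : IsKFlat s₀.left) : IsKFlat (fromCocone s₀).pt :=
  isKFlat_of_isColimit_nat (towerFromF s₀) (fromCocone s₀) (fromIsColimit s₀)
    (isKFlat_towerFromF_obj s₀ h)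

noncomputable def fromIsColimitEval (j : ℤ) :
    IsColimit ((HomologicalComplex.eval (Mod O) (ComplexShape.up ℤ) j).mapCocone
      (fromCocone s₀)) :=
  isColimitOfPreserves _ (fromIsColimit s₀)

theorem isFlat_fromK_X (h : ∀ j, IsFlat (s₀.left.X j)) (j : ℤ) :
    IsFlat ((fromCocone s₀).pt.X j) := by
  have h := isFlat_of_isColimit_nat
    ((towerFrom s₀ ⋙ Over.forget G) ⋙ HomologicalComplex.eval (Mod O) (ComplexShape.up ℤ) j)
    (isFlat_towerFromF_obj_X s₀ h j)
    ((HomologicalComplex.eval (Mod O) (ComplexShape.up ℤ) j).mapCocone (fromCocone s₀))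
    (fromIsColimitEval s₀ j)
  exact h

noncomputable def fromQ : (fromCocone s₀).pt ⟶ G :=
  (fromIsColimit s₀).desc ((Over.forgetCocone G).whisker (towerFrom s₀))

theorem fromQ_fac (n : ℕ) :
    cι (towerFrom s₀) (fromCocone s₀) n ≫ fromQ s₀ = ((towerFrom s₀).obj n).hom :=
  (fromIsColimit s₀).fac ((Over.forgetCocone G).whisker (towerFrom s₀)) n

theorem acyc_cone_fromQ : Acyc (mappingCone (fromQ s₀)) :=
  acyc_of_isColimit_of_homologyMap_eq_zero (towerFrom s₀ ⋙ coneFunctor G)
    (coneCocone (towerFrom s₀) (fromCocone s₀) (fromQ s₀) (fromQ_fac s₀))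
    (fun j => isColimitConeCocone (towerFrom s₀) (fromCocone s₀) (fromQ s₀) (fromQ_fac s₀) j
      (fromIsColimitEval s₀))
    (homologyMap_coneTowerFrom s₀)

theorem quasiIso_fromQ : QuasiIso (fromQ s₀) :=
  (acyclic_mappingCone_iff (fromQ s₀)).mp ((acyclic_iff_acyc _).mpr (acyc_cone_fromQ s₀))

noncomputable def fromB : s₀.left ⟶ (fromCocone s₀).pt := cι (towerFrom s₀) (fromCocone s₀) 0

theorem fromB_Q : fromB s₀ ≫ fromQ s₀ = s₀.hom := fromQ_fac s₀ 0

end IterateFrom

theorem exists_factor_isKFlat {K L : CochainComplex (Mod O) ℤ} (a : K ⟶ L) (hK : IsKFlat K) :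
    ∃ (N : CochainComplex (Mod O) ℤ) (b : K ⟶ N) (c : N ⟶ L), IsKFlat N ∧ QuasiIso c ∧
      b ≫ c = a ∧ ((∀ n : ℤ, IsFlat (K.X n)) → ∀ n : ℤ, IsFlat (N.X n)) :=
  ⟨(fromCocone (Over.mk a)).pt, fromB (Over.mk a), fromQ (Over.mk a),
    isKFlat_fromK (Over.mk a) hK, quasiIso_fromQ (Over.mk a), fromB_Q (Over.mk a),
    fun h => isFlat_fromK_X (Over.mk a) h⟩

end Groth.Agent.Lib.Helper12.KFlat
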