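import Groth.Agent.Lib.Helper12.KFlat13
import Mathlib.Algebra.Homology.BifunctorFlip

set_option autoImplicit false
universe u
open CategoryTheory CategoryTheory.Limits

namespace Groth.Agent.Lib.Helper12.KFlat

open ModSite Groth.Agent.Lib.Helper42.Flat Groth.Agent.Lib.Helper42.Flat2
  Groth.Agent.Lib.Helper42.TensorColim Groth.Agent.Lib.Helper42.FlatCx
open CochainComplex CochainComplex.HomComplex

section BifunctorNat

universe v₁ v₂ v₃ u₁ u₂ u₃

variable {C₁ : Type u₁} {C₂ : Type u₂} {D : Type u₃} [Category.{v₁} C₁] [Category.{v₂} C₂]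
  [Category.{v₃} D] [HasZeroMorphisms C₁] [HasZeroMorphisms C₂] [HasZeroMorphisms D]
  {F F' F'' : C₁ ⥤ C₂ ⥤ D}
  [F.PreservesZeroMorphisms] [∀ X₁, (F.obj X₁).PreservesZeroMorphisms]
  [F'.PreservesZeroMorphisms] [∀ X₁, (F'.obj X₁).PreservesZeroMorphisms]
  [F''.PreservesZeroMorphisms] [∀ X₁, (F''.obj X₁).PreservesZeroMorphisms]
  {I₁ I₂ : Type*} {c₁ : ComplexShape I₁} {c₂ : ComplexShape I₂}
  (K₁ : HomologicalComplex C₁ c₁) (K₂ : HomologicalComplex C₂ c₂)

def bicomplexMap (τ : F ⟶ F') :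
    ((F.mapBifunctorHomologicalComplex c₁ c₂).obj K₁).obj K₂ ⟶
      ((F'.mapBifunctorHomologicalComplex c₁ c₂).obj K₁).obj K₂ :=
  HomologicalComplex₂.homMk (fun ⟨i₁, i₂⟩ => (τ.app (K₁.X i₁)).app (K₂.X i₂))
    (by
      intro i₁ i₁' i₂ _
      change (τ.app (K₁.X i₁)).app (K₂.X i₂) ≫ (F'.map (K₁.d i₁ i₁')).app (K₂.X i₂) =
        (F.map (K₁.d i₁ i₁')).app (K₂.X i₂) ≫ (τ.app (K₁.X i₁')).app (K₂.X i₂)
      rw [← NatTrans.comp_app, ← NatTrans.comp_app, τ.naturality])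
    (by
      intro i₁ i₂ i₂' _
      exact ((τ.app (K₁.X i₁)).naturality (K₂.d i₂ i₂')).symm)

theorem bicomplexMap_f_f (τ : F ⟶ F') (i₁ : I₁) (i₂ : I₂) :
    ((bicomplexMap K₁ K₂ τ).f i₁).f i₂ = (τ.app (K₁.X i₁)).app (K₂.X i₂) := rfl

theorem bicomplexMap_id : bicomplexMap K₁ K₂ (𝟙 F) = 𝟙 _ := by
  ext i₁ i₂
  rfl

theorem bicomplexMap_comp (τ : F ⟶ F') (τ' : F' ⟶ F'') :
    bicomplexMap K₁ K₂ (τ ≫ τ') = bicomplexMap K₁ K₂ τ ≫ bicomplexMap K₁ K₂ τ' := by
  ext i₁ i₂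
  rfl

def bicomplexIso (e : F ≅ F') :
    ((F.mapBifunctorHomologicalComplex c₁ c₂).obj K₁).obj K₂ ≅
      ((F'.mapBifunctorHomologicalComplex c₁ c₂).obj K₁).obj K₂ where
  hom := bicomplexMap K₁ K₂ e.hom
  inv := bicomplexMap K₁ K₂ e.inv
  hom_inv_id := by rw [← bicomplexMap_comp, e.hom_inv_id, bicomplexMap_id]
  inv_hom_id := by rw [← bicomplexMap_comp, e.inv_hom_id, bicomplexMap_id]

end BifunctorNat

variable {C : Type u} [SmallCategory C] {J : GrothendieckTopology C} {O : Sheaf J CommRingCat.{u}}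

section Braid

open MonoidalCategory Groth.Agent.Lib.Helper42.TensorSheaf Groth.Agent.Lib.Helper42.ModSiteLib
  Groth.Agent.Lib.Helper42.ModSheaf

variable (O)

noncomputable def tensorBiFlipIso : tensorBi O ≅ (tensorBi O).flip :=
  NatIso.ofComponents (fun M => tensLRIso O M)
    (by
      intro M M' f
      refine NatTrans.ext (funext fun N => ?_)
      change (shf O).map ((fgt O).map f ▷ (fgt O).obj N) ≫
          (shf O).map (β_ ((fgt O).obj M') ((fgt O).obj N)).hom =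
        (shf O).map (β_ ((fgt O).obj M) ((fgt O).obj N)).hom ≫
          (shf O).map ((fgt O).obj N ◁ (fgt O).map f)
      rw [← Functor.map_comp, ← Functor.map_comp, BraidedCategory.braiding_naturality_left])

end Braid

section Symm

variable (K L : CochainComplex (Mod O) ℤ)

noncomputable def tensorCxSymmIso :
    ((tensorCx O).obj K).obj L ≅ ((tensorCx O).obj L).obj K :=
  HomologicalComplex₂.total.mapIso (bicomplexIso K L (tensorBiFlipIso O)) (ComplexShape.up ℤ) ≪≫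
    HomologicalComplex.mapBifunctorFlipIso L K (tensorBi O) (ComplexShape.up ℤ)

end Symm

end Groth.Agent.Lib.Helper12.KFlat
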