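import Groth.Agent.Lib.Helper12.KFlat14

set_option autoImplicit false
universe u
open CategoryTheory CategoryTheory.Limits

namespace Groth.Agent.Lib.Helper12.KFlat

open ModSite Groth.Agent.Lib.Helper42.Flat Groth.Agent.Lib.Helper42.Flat2
  Groth.Agent.Lib.Helper42.TensorColim Groth.Agent.Lib.Helper42.FlatCx
open CochainComplex CochainComplex.HomComplex

variable {C : Type u} [SmallCategory C] {J : GrothendieckTopology C} {O : Sheaf J CommRingCat.{u}}

section SecondVar

universe v₂ u₂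

theorem acyc_of_quasiIso {A : Type u₂} [Category.{v₂} A] [Abelian A] {K L : CochainComplex A ℤ}
    (f : K ⟶ L) [QuasiIso f] (hK : Acyc K) : Acyc L := fun i =>
  IsZero.of_iso (hK i) (asIso (HomologicalComplex.homologyMap f i)).symm

theorem acyc_of_quasiIso' {A : Type u₂} [Category.{v₂} A] [Abelian A] {K L : CochainComplex A ℤ}
    (f : K ⟶ L) [QuasiIso f] (hL : Acyc L) : Acyc K := fun i =>
  IsZero.of_iso (hL i) (asIso (HomologicalComplex.homologyMap f i))

theorem acyc_tensor_of_acyc_of_isKFlat (A : CochainComplex (Mod O) ℤ) (hA : Acyc A)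
    (hK : IsKFlat A) (F : CochainComplex (Mod O) ℤ) : Acyc (((tensorCx O).obj F).obj A) := by
  obtain ⟨F', q, hF', -, hq, -⟩ := exists_isKFlat_resolution F
  have h1 : Acyc (((tensorCx O).obj F').obj A) := acyc_of_iso (tensorCxSymmIso A F') (hF' A hA)
  have h2 : QuasiIso (((tensorCx O).map q).app A) := quasiIso_tensor_right A hK q
  exact acyc_of_quasiIso (((tensorCx O).map q).app A) h1

theorem isKFlat_shift (K : CochainComplex (Mod O) ℤ) (hK : IsKFlat K) (n : ℤ) :
    IsKFlat (K⟦n⟧) := fun F hF => (acyc_tensor_shift_iff F K n).mpr (hK F hF)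

variable (F : CochainComplex (Mod O) ℤ)

theorem quasiIso_tensor_left_shift {P Q : CochainComplex (Mod O) ℤ} (α : P ⟶ Q) [QuasiIso α]
    (hP : IsKFlat P) (hQ : IsKFlat Q) :
    QuasiIso (((tensorCx O).obj F).map (α⟦(1 : ℤ)⟧')) := by
  have hcomm : α ≫ 𝟙 Q = α ≫ 𝟙 Q := rfl
  let tm := CochainComplex.mappingCone.triangleMap α (𝟙 Q) α (𝟙 Q) hcomm
  let ψ : CochainComplex.mappingCone.triangleRotateShortComplex α ⟶
      CochainComplex.mappingCone.triangleRotateShortComplex (𝟙 Q) :=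
    { τ₁ := 𝟙 Q
      τ₂ := CochainComplex.mappingCone.map α (𝟙 Q) α (𝟙 Q) hcomm
      τ₃ := α⟦(1 : ℤ)⟧'
      comm₁₂ := tm.comm₂.symm
      comm₂₃ := tm.comm₃.symm }
  have hac₁ : Acyc (((tensorCx O).obj F).obj (CochainComplex.mappingCone α)) :=
    acyc_tensor_of_acyc_of_isKFlat _
      ((acyclic_iff_acyc _).mp ((acyclic_mappingCone_iff α).mpr inferInstance))
      ((isKFlat_cone α).1 hP hQ) F
  have hac₂ : Acyc (((tensorCx O).obj F).obj (CochainComplex.mappingCone (𝟙 Q))) :=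
    acyc_tensor_of_acyc_of_isKFlat _
      ((acyclic_iff_acyc _).mp ((acyclic_mappingCone_iff (𝟙 Q)).mpr inferInstance))
      ((isKFlat_cone (𝟙 Q)).1 hQ hQ) F
  have h₁ : QuasiIso ((((tensorCx O).obj F).mapShortComplex.map ψ).τ₁) := by
    change QuasiIso (((tensorCx O).obj F).map (𝟙 Q))
    rw [CategoryTheory.Functor.map_id]
    infer_instance
  have h₂ : QuasiIso ((((tensorCx O).obj F).mapShortComplex.map ψ).τ₂) :=
    quasiIso_of_acyc _ hac₁ hac₂
  exact HomologicalComplex.HomologySequence.quasiIso_τ₃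
    (((tensorCx O).obj F).mapShortComplex.map ψ)
    (shortExact_cone F α) (shortExact_cone F (𝟙 Q)) h₁ h₂

theorem quasiIso_tensor_left {P Q : CochainComplex (Mod O) ℤ} (α : P ⟶ Q) [QuasiIso α]
    (hP : IsKFlat P) (hQ : IsKFlat Q) : QuasiIso (((tensorCx O).obj F).map α) := by
  have h := quasiIso_tensor_left_shift F (α⟦(-1 : ℤ)⟧') (isKFlat_shift P hP (-1))
    (isKFlat_shift Q hQ (-1))
  let e := shiftFunctorCompIsoId (CochainComplex (Mod O) ℤ) (-1 : ℤ) 1 (by norm_num)
  have nat : (α⟦(-1 : ℤ)⟧')⟦(1 : ℤ)⟧' ≫ e.hom.app Q = e.hom.app P ≫ α := e.hom.naturality α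
  have hT : ((tensorCx O).obj F).map ((α⟦(-1 : ℤ)⟧')⟦(1 : ℤ)⟧') ≫
      ((tensorCx O).obj F).map (e.hom.app Q) =
      ((tensorCx O).obj F).map (e.hom.app P) ≫ ((tensorCx O).obj F).map α := by
    rw [← CategoryTheory.Functor.map_comp, nat, CategoryTheory.Functor.map_comp]
  have hq : QuasiIso (((tensorCx O).obj F).map (e.hom.app P) ≫
      ((tensorCx O).obj F).map α) := by
    rw [← hT]
    infer_instance
  exact quasiIso_of_comp_left (((tensorCx O).obj F).map (e.hom.app P))
    (((tensorCx O).obj F).map α)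

end SecondVar

end Groth.Agent.Lib.Helper12.KFlat
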