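import Groth.Agent.Lib.Helper12.KFlat15
import Mathlib.CategoryTheory.Abelian.Refinements

set_option autoImplicit false
universe u
open CategoryTheory CategoryTheory.Limits

namespace Groth.Agent.Lib.Helper12.KFlat

open ModSite Groth.Agent.Lib.Helper42.Flat Groth.Agent.Lib.Helper42.Flat2
  Groth.Agent.Lib.Helper42.TensorColim Groth.Agent.Lib.Helper42.FlatCx
open CochainComplex CochainComplex.HomComplex

section Abstract

universe v₂ u₂ v₃ u₃

variable {A : Type u₂} [Category.{v₂} A] [Abelian A]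

theorem mono_of_epi_of_exact {X₁ X₂ X₃ X₄ : A} (f : X₁ ⟶ X₂) (g : X₂ ⟶ X₃) (m : X₃ ⟶ X₄)
    [Epi g] (w : f ≫ g = 0) (w' : f ≫ g ≫ m = 0)
    (h₂ : (ShortComplex.mk f (g ≫ m) w').Exact) : Mono m := by
  apply Preadditive.mono_of_cancel_zero
  intro W x hx
  obtain ⟨W', p, hp, y, hy⟩ := surjective_up_to_refinements_of_epi g x
  have h0 : y ≫ (g ≫ m) = 0 := by
    rw [← Category.assoc, ← hy, Category.assoc, hx, comp_zero]
  obtain ⟨W'', p', hp', z, hz⟩ := h₂.exact_up_to_refinements y h0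
  have hz' : p' ≫ y = z ≫ f := hz
  have h1 : (p' ≫ p) ≫ x = 0 := by
    rw [Category.assoc, hy, ← Category.assoc, hz', Category.assoc, w, comp_zero]
  exact (cancel_epi (p' ≫ p)).mp (h1.trans comp_zero.symm)

variable {B : Type u₃} [Category.{v₃} B] [Abelian B]

theorem mono_map_iCycles (T : A ⥤ B) [T.Additive] [T.PreservesEpimorphisms]
    (K : CochainComplex A ℤ) (a b c : ℤ) (hbc : b + 1 = c)
    (hc : IsZero (K.homology c)) (hT : ((K.sc' a b c).map T).Exact) :
    Mono (T.map (K.iCycles c)) := by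
  have hprev : (ComplexShape.up ℤ).prev c = b := by
    subst hbc
    simp
  have hepi : Epi (K.toCycles b c) :=
    Preadditive.epi_of_isZero_cokernel' _ (K.homologyIsCokernel b c hprev) hc
  have hw : K.iCycles b ≫ K.toCycles b c = 0 := by
    rw [← cancel_mono (K.iCycles c), Category.assoc, K.toCycles_i, K.iCycles_d, zero_comp]
  have w : T.map (K.iCycles b) ≫ T.map (K.toCycles b c) = 0 := by
    rw [← T.map_comp, hw, T.map_zero]
  have w' : T.map (K.iCycles b) ≫ T.map (K.toCycles b c) ≫ T.map (K.iCycles c) = 0 := by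
    rw [reassoc_of% w, zero_comp]
  refine mono_of_epi_of_exact (T.map (K.iCycles b)) (T.map (K.toCycles b c))
    (T.map (K.iCycles c)) w w' ?_
  rw [ShortComplex.exact_iff_exact_up_to_refinements]
  intro W x hx
  have hx' : x ≫ T.map (K.d b c) = 0 := by
    rw [← K.toCycles_i b c, T.map_comp]
    exact hx
  obtain ⟨W', p, hp, z, hz⟩ := hT.exact_up_to_refinements x hx'
  let z' : W' ⟶ T.obj (K.X a) := z
  have hz' : p ≫ x = z' ≫ T.map (K.d a b) := hz
  refine ⟨W', p, hp, z' ≫ T.map (K.toCycles a b), ?_⟩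
  have key : z' ≫ T.map (K.toCycles a b) ≫ T.map (K.iCycles b) = z' ≫ T.map (K.d a b) := by
    rw [← T.map_comp, K.toCycles_i]
  exact hz'.trans (key.symm.trans (Category.assoc _ _ _).symm)

end Abstract

variable {C : Type u} [SmallCategory C] {J : GrothendieckTopology C} {O : Sheaf J CommRingCat.{u}}

section Cycles

variable (F K : CochainComplex (Mod O) ℤ) (a : ℤ)

noncomputable def scIso (hz : ∀ q, q ≠ a → IsZero (K.X q)) (j : ℤ) :
    (F.sc' (j - a - 1) (j - a) (j - a + 1)).map (tensR O (K.X a)) ≅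
      (T F K).sc' (j - 1) j (j + 1) :=
  have h1 : j - a - 1 + a = j - 1 := by omega
  have h2 : j - a + a = j := by omega
  have h3 : j - a + 1 + a = j + 1 := by omega
  have i1 := isIso_ιT F K a hz (j - a - 1) (j - 1) h1
  have i2 := isIso_ιT F K a hz (j - a) j h2
  have i3 := isIso_ιT F K a hz (j - a + 1) (j + 1) h3
  ShortComplex.isoMk (@asIso _ _ _ _ (ιT F K (j - a - 1) a (j - 1) h1) i1)
    (@asIso _ _ _ _ (ιT F K (j - a) a j h2) i2)
    (@asIso _ _ _ _ (ιT F K (j - a + 1) a (j + 1) h3) i3)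
    (ιT_d F K a hz (j - a - 1) (j - a) (j - 1) j h1 h2 (by omega))
    (ιT_d F K a hz (j - a) (j - a + 1) j (j + 1) h2 h3 (by omega))

theorem exact_map_tensR_of_acyc_T (hz : ∀ q, q ≠ a → IsZero (K.X q)) (h : Acyc (T F K))
    (j : ℤ) : ((F.sc' (j - a - 1) (j - a) (j - a + 1)).map (tensR O (K.X a))).Exact :=
  ShortComplex.exact_of_iso (scIso F K a hz j).symm ((acyc_iff_sc' _).mp h j)

end Cycles

section CyclesFlat

variable (K : CochainComplex (Mod O) ℤ) (hac : Acyc K) (hK : IsKFlat K)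

include hac hK

theorem mono_tensR_single_map_iCycles (M : Mod O) (n : ℤ) :
    Mono ((tensR O (((HomologicalComplex.single (Mod O) (ComplexShape.up ℤ) 0).obj M).X 0)).map
      (K.iCycles n)) := by
  let S := (HomologicalComplex.single (Mod O) (ComplexShape.up ℤ) 0).obj M
  have hz : ∀ q : ℤ, q ≠ 0 → IsZero (S.X q) := fun q hq =>
    HomologicalComplex.isZero_single_obj_X (ComplexShape.up ℤ) 0 M q hq
  have h1 : Acyc (((tensorCx O).obj S).obj K) := acyc_tensor_of_acyc_of_isKFlat K hac hK S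
  have h2 : Acyc (T K S) := acyc_of_iso (tensorCxSymmIso S K) h1
  obtain ⟨j, rfl⟩ : ∃ j, n = j - 0 + 1 := ⟨n - 1, by omega⟩
  exact mono_map_iCycles (tensR O (S.X 0)) K (j - 0 - 1) (j - 0) (j - 0 + 1) rfl (hac _)
    (exact_map_tensR_of_acyc_T K S 0 hz h2 j)

theorem mono_tensR_map_iCycles (M : Mod O) (n : ℤ) :
    Mono ((tensR O M).map (K.iCycles n)) := by
  let S := (HomologicalComplex.single (Mod O) (ComplexShape.up ℤ) 0).obj M
  let e : S.X 0 ≅ M := HomologicalComplex.singleObjXSelf (ComplexShape.up ℤ) 0 M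
  let ι : tensR O (S.X 0) ≅ tensR O M := (tensorBi O).flip.mapIso e
  have h0 := mono_tensR_single_map_iCycles K hac hK M n
  have h1 : Mono (ι.hom.app (K.cycles n) ≫ (tensR O M).map (K.iCycles n)) := by
    rw [← ι.hom.naturality]
    exact mono_comp _ _
  have h2 : (tensR O M).map (K.iCycles n) =
      ι.inv.app (K.cycles n) ≫ ι.hom.app (K.cycles n) ≫ (tensR O M).map (K.iCycles n) := by
    rw [Iso.inv_hom_id_app_assoc]
  rw [h2]
  exact mono_comp _ _

theorem isFlat_cycles (hfl : ∀ i : ℤ, IsFlat (K.X i)) (n : ℤ) : IsFlat (K.cycles n) := by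
  rw [isFlat_iff_preservesMono']
  constructor
  intro M' M u hu
  have hsq : (tensL O (K.cycles n)).map u ≫ (tensR O M).map (K.iCycles n) =
      (tensR O M').map (K.iCycles n) ≫ (tensL O (K.X n)).map u :=
    ((tensorBi O).map (K.iCycles n)).naturality u
  have h1 := mono_tensR_map_iCycles K hac hK M' n
  have h2 : (tensL O (K.X n)).PreservesMonomorphisms := (isFlat_iff_preservesMono' O _).mp (hfl n)
  have h3 : Mono ((tensL O (K.X n)).map u) := inferInstance
  have h4 : Mono ((tensL O (K.cycles n)).map u ≫ (tensR O M).map (K.iCycles n)) := by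
    rw [hsq]
    exact @mono_comp _ _ _ _ _ _ h1 _ h3
  exact mono_of_mono _ ((tensR O M).map (K.iCycles n))

end CyclesFlat

end Groth.Agent.Lib.Helper12.KFlat
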