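import Groth.Agent.Lib.Helper12.KFlat16
import Mathlib.Algebra.Homology.BifunctorAssociator

set_option autoImplicit false
universe u
open CategoryTheory CategoryTheory.Limits

namespace Groth.Agent.Lib.Helper12.KFlat

open ModSite Groth.Agent.Lib.Helper42.Flat Groth.Agent.Lib.Helper42.Flat2
  Groth.Agent.Lib.Helper42.TensorColim Groth.Agent.Lib.Helper42.FlatCx
open MonoidalCategory Groth.Agent.Lib.Helper42.TensorSheaf Groth.Agent.Lib.Helper42.ModSiteLib
  Groth.Agent.Lib.Helper42.ModSheaf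

variable {C : Type u} [SmallCategory C] {J : GrothendieckTopology C} (O : Sheaf J CommRingCat.{u})

section Assoc

noncomputable def η (X : PMod O) : X ⟶ (fgt O).obj ((shf O).obj X) := (adjS O).unit.app X

theorem η_naturality {X Y : PMod O} (f : X ⟶ Y) :
    f ≫ η O Y = η O X ≫ (fgt O).map ((shf O).map f) :=
  (adjS O).unit.naturality f

noncomputable def sL (A B : PMod O) :
    (shf O).obj (A ⊗ B) ⟶ (shf O).obj ((fgt O).obj ((shf O).obj A) ⊗ B) :=
  (shf O).map (η O A ▷ B)

noncomputable def sR (A B : PMod O) :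
    (shf O).obj (A ⊗ B) ⟶ (shf O).obj (A ⊗ (fgt O).obj ((shf O).obj B)) :=
  (shf O).map (A ◁ η O B)

instance isIso_sL (A B : PMod O) : IsIso (sL O A B) := W_whiskerRight _ (W_unit A) _

instance isIso_sR (A B : PMod O) : IsIso (sR O A B) := W_whiskerLeft _ (W_unit B) _

theorem sL_natural_left {A A' : PMod O} (g : A ⟶ A') (B : PMod O) :
    sL O A B ≫ (shf O).map ((fgt O).map ((shf O).map g) ▷ B) =
      (shf O).map (g ▷ B) ≫ sL O A' B := by
  unfold sL
  rw [← Functor.map_comp, ← Functor.map_comp, ← comp_whiskerRight, ← comp_whiskerRight,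
    η_naturality]

theorem sL_natural_right (A : PMod O) {B B' : PMod O} (h : B ⟶ B') :
    sL O A B ≫ (shf O).map ((fgt O).obj ((shf O).obj A) ◁ h) =
      (shf O).map (A ◁ h) ≫ sL O A B' := by
  unfold sL
  rw [← Functor.map_comp, ← Functor.map_comp, whisker_exchange]

theorem sR_natural_left {A A' : PMod O} (g : A ⟶ A') (B : PMod O) :
    sR O A B ≫ (shf O).map (g ▷ (fgt O).obj ((shf O).obj B)) =
      (shf O).map (g ▷ B) ≫ sR O A' B := by
  unfold sR
  rw [← Functor.map_comp, ← Functor.map_comp, whisker_exchange]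

theorem sR_natural_right (A : PMod O) {B B' : PMod O} (h : B ⟶ B') :
    sR O A B ≫ (shf O).map (A ◁ (fgt O).map ((shf O).map h)) =
      (shf O).map (A ◁ h) ≫ sR O A B' := by
  unfold sR
  rw [← Functor.map_comp, ← Functor.map_comp, ← MonoidalCategory.whiskerLeft_comp,
    ← MonoidalCategory.whiskerLeft_comp, η_naturality]

noncomputable def assocComp (M N P : Mod O) :
    (shf O).obj ((fgt O).obj ((shf O).obj ((fgt O).obj M ⊗ (fgt O).obj N)) ⊗ (fgt O).obj P) ≅
      (shf O).obj ((fgt O).obj M ⊗ (fgt O).obj ((shf O).obj ((fgt O).obj N ⊗ (fgt O).obj P))) :=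
  (@asIso _ _ _ _ (sL O ((fgt O).obj M ⊗ (fgt O).obj N) ((fgt O).obj P))
      (isIso_sL O _ _)).symm ≪≫
    (shf O).mapIso (α_ ((fgt O).obj M) ((fgt O).obj N) ((fgt O).obj P)) ≪≫
    @asIso _ _ _ _ (sR O ((fgt O).obj M) ((fgt O).obj N ⊗ (fgt O).obj P)) (isIso_sR O _ _)

theorem assocComp_hom (M N P : Mod O) :
    (assocComp O M N P).hom =
      @inv _ _ _ _ (sL O ((fgt O).obj M ⊗ (fgt O).obj N) ((fgt O).obj P)) (isIso_sL O _ _) ≫
        (shf O).map (α_ ((fgt O).obj M) ((fgt O).obj N) ((fgt O).obj P)).hom ≫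
        sR O ((fgt O).obj M) ((fgt O).obj N ⊗ (fgt O).obj P) := rfl

theorem assocComp_natural₁ {M M' : Mod O} (f : M ⟶ M') (N P : Mod O) :
    (shf O).map ((fgt O).map ((shf O).map ((fgt O).map f ▷ (fgt O).obj N)) ▷ (fgt O).obj P) ≫
      (assocComp O M' N P).hom =
    (assocComp O M N P).hom ≫
      (shf O).map ((fgt O).map f ▷ (fgt O).obj ((shf O).obj ((fgt O).obj N ⊗ (fgt O).obj P))) := by
  have h1 := sL_natural_left O ((fgt O).map f ▷ (fgt O).obj N) ((fgt O).obj P)
  have h2 : (shf O).map (((fgt O).map f ▷ (fgt O).obj N) ▷ (fgt O).obj P) ≫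
      (shf O).map (α_ ((fgt O).obj M') ((fgt O).obj N) ((fgt O).obj P)).hom =
      (shf O).map (α_ ((fgt O).obj M) ((fgt O).obj N) ((fgt O).obj P)).hom ≫
        (shf O).map ((fgt O).map f ▷ ((fgt O).obj N ⊗ (fgt O).obj P)) := by
    rw [← Functor.map_comp, ← Functor.map_comp, associator_naturality_left]
  have h3 := sR_natural_left O ((fgt O).map f) ((fgt O).obj N ⊗ (fgt O).obj P)
  rw [assocComp_hom, assocComp_hom,
    ← cancel_epi (sL O ((fgt O).obj M ⊗ (fgt O).obj N) ((fgt O).obj P)), reassoc_of% h1]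
  simp only [Category.assoc, IsIso.hom_inv_id_assoc]
  rw [reassoc_of% h2, h3]

theorem assocComp_natural₂ (M : Mod O) {N N' : Mod O} (g : N ⟶ N') (P : Mod O) :
    (shf O).map ((fgt O).map ((shf O).map ((fgt O).obj M ◁ (fgt O).map g)) ▷ (fgt O).obj P) ≫
      (assocComp O M N' P).hom =
    (assocComp O M N P).hom ≫
      (shf O).map ((fgt O).obj M ◁
        (fgt O).map ((shf O).map ((fgt O).map g ▷ (fgt O).obj P))) := by
  have h1 := sL_natural_left O ((fgt O).obj M ◁ (fgt O).map g) ((fgt O).obj P)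
  have h2 : (shf O).map (((fgt O).obj M ◁ (fgt O).map g) ▷ (fgt O).obj P) ≫
      (shf O).map (α_ ((fgt O).obj M) ((fgt O).obj N') ((fgt O).obj P)).hom =
      (shf O).map (α_ ((fgt O).obj M) ((fgt O).obj N) ((fgt O).obj P)).hom ≫
        (shf O).map ((fgt O).obj M ◁ ((fgt O).map g ▷ (fgt O).obj P)) := by
    rw [← Functor.map_comp, ← Functor.map_comp, associator_naturality_middle]
  have h3 := sR_natural_right O ((fgt O).obj M) ((fgt O).map g ▷ (fgt O).obj P)
  rw [assocComp_hom, assocComp_hom,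
    ← cancel_epi (sL O ((fgt O).obj M ⊗ (fgt O).obj N) ((fgt O).obj P)), reassoc_of% h1]
  simp only [Category.assoc, IsIso.hom_inv_id_assoc]
  rw [reassoc_of% h2, h3]

theorem assocComp_natural₃ (M N : Mod O) {P P' : Mod O} (h : P ⟶ P') :
    (shf O).map ((fgt O).obj ((shf O).obj ((fgt O).obj M ⊗ (fgt O).obj N)) ◁ (fgt O).map h) ≫
      (assocComp O M N P').hom =
    (assocComp O M N P).hom ≫
      (shf O).map ((fgt O).obj M ◁
        (fgt O).map ((shf O).map ((fgt O).obj N ◁ (fgt O).map h))) := by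
  have h1 := sL_natural_right O ((fgt O).obj M ⊗ (fgt O).obj N) ((fgt O).map h)
  have h2 : (shf O).map (((fgt O).obj M ⊗ (fgt O).obj N) ◁ (fgt O).map h) ≫
      (shf O).map (α_ ((fgt O).obj M) ((fgt O).obj N) ((fgt O).obj P')).hom =
      (shf O).map (α_ ((fgt O).obj M) ((fgt O).obj N) ((fgt O).obj P)).hom ≫
        (shf O).map ((fgt O).obj M ◁ ((fgt O).obj N ◁ (fgt O).map h)) := by
    rw [← Functor.map_comp, ← Functor.map_comp, associator_naturality_right]
  have h3 := sR_natural_right O ((fgt O).obj M) ((fgt O).obj N ◁ (fgt O).map h)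
  rw [assocComp_hom, assocComp_hom,
    ← cancel_epi (sL O ((fgt O).obj M ⊗ (fgt O).obj N) ((fgt O).obj P)), reassoc_of% h1]
  simp only [Category.assoc, IsIso.hom_inv_id_assoc]
  rw [reassoc_of% h2, h3]

noncomputable def assocTri :
    bifunctorComp₁₂ (tensorBi O) (tensorBi O) ≅ bifunctorComp₂₃ (tensorBi O) (tensorBi O) :=
  NatIso.ofComponents
    (fun M => NatIso.ofComponents
      (fun N => NatIso.ofComponents (fun P => assocComp O M N P)
        (fun {P P'} h => assocComp_natural₃ O M N h))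
      (fun {N N'} g => by
        refine NatTrans.ext (funext fun P => ?_)
        exact assocComp_natural₂ O M g P))
    (fun {M M'} f => by
      refine NatTrans.ext (funext fun N => ?_)
      refine NatTrans.ext (funext fun P => ?_)
      exact assocComp_natural₁ O f N P)

end Assoc

end Groth.Agent.Lib.Helper12.KFlat
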