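import Groth.Agent.Lib.Helper12.KFlat17

set_option autoImplicit false
universe u
open CategoryTheory CategoryTheory.Limits

namespace Groth.Agent.Lib.Helper12.KFlat

open ModSite Groth.Agent.Lib.Helper42.Flat Groth.Agent.Lib.Helper42.Flat2
  Groth.Agent.Lib.Helper42.TensorColim Groth.Agent.Lib.Helper42.FlatCx

variable {C : Type u} [SmallCategory C] {J : GrothendieckTopology C} {O : Sheaf J CommRingCat.{u}}

section AssocCx

instance additive_tensorBi_obj' (M : Mod O) : ((tensorBi O).obj M).Additive :=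
  tensL_additive O M

instance additive_tensorBi' : (tensorBi O).Additive where
  map_add {M M' f g} := by
    refine NatTrans.ext (funext fun N => ?_)
    change ((tensorBi O).flip.obj N).map (f + g) = _
    rw [Functor.map_add]
    rfl

variable (K₁ K₂ K₃ : CochainComplex (Mod O) ℤ)

instance hasGoodTrifunctor₁₂Obj :
    HomologicalComplex.HasGoodTrifunctor₁₂Obj (tensorBi O) (tensorBi O) K₁ K₂ K₃
      (ComplexShape.up ℤ) (ComplexShape.up ℤ) := by
  intro i₁₂ i₃
  have : PreservesColimitsOfSize.{0, 0} (tensR O (K₃.X i₃)) :=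
    preservesColimitsOfSize_shrink.{0, u, 0, u} (tensR O (K₃.X i₃))
  exact inferInstanceAs (PreservesColimit _ (tensR O (K₃.X i₃)))

instance hasGoodTrifunctor₂₃Obj :
    HomologicalComplex.HasGoodTrifunctor₂₃Obj (tensorBi O) (tensorBi O) K₁ K₂ K₃
      (ComplexShape.up ℤ) (ComplexShape.up ℤ) (ComplexShape.up ℤ) := by
  intro i₁ i₂₃
  have : PreservesColimitsOfSize.{0, 0} (tensL O (K₁.X i₁)) :=
    preservesColimitsOfSize_shrink.{0, u, 0, u} (tensL O (K₁.X i₁))
  exact inferInstanceAs (PreservesColimit _ (tensL O (K₁.X i₁)))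

noncomputable def tensorCxAssocIso :
    ((tensorCx O).obj (((tensorCx O).obj K₁).obj K₂)).obj K₃ ≅
      ((tensorCx O).obj K₁).obj (((tensorCx O).obj K₂).obj K₃) :=
  HomologicalComplex.mapBifunctorAssociator (assocTri O) K₁ K₂ K₃
    (ComplexShape.up ℤ) (ComplexShape.up ℤ) (ComplexShape.up ℤ)

theorem isKFlat_tensorCx (K L : CochainComplex (Mod O) ℤ) (hK : IsKFlat K) (hL : IsKFlat L) :
    IsKFlat (((tensorCx O).obj K).obj L) := by
  intro F hF
  have h1 : Acyc (((tensorCx O).obj F).obj K) := hK F hF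
  have h2 : Acyc (((tensorCx O).obj (((tensorCx O).obj F).obj K)).obj L) := hL _ h1
  exact acyc_of_iso (tensorCxAssocIso F K L) h2

end AssocCx

end Groth.Agent.Lib.Helper12.KFlat
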