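import Groth.Agent.Lib.Helper12.KFlat18

set_option autoImplicit false
universe u
open CategoryTheory CategoryTheory.Limits

namespace Groth.Agent.Lib.Helper12.KFlat

open ModSite Groth.Agent.Lib.Helper42.Flat Groth.Agent.Lib.Helper42.Flat2
  Groth.Agent.Lib.Helper42.TensorColim Groth.Agent.Lib.Helper42.FlatCx
open CochainComplex CochainComplex.HomComplex

variable {C : Type u} [SmallCategory C] {J : GrothendieckTopology C} {O : Sheaf J CommRingCat.{u}}

section GenMap

variable {M M' M'' : Mod O}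

noncomputable def genMap (g : M ⟶ M') : genObj M ⟶ genObj M' :=
  Sigma.desc (fun i : GenIdx M => genι M' ⟨i.1, i.2 ≫ g⟩)

@[reassoc]
theorem genι_map (g : M ⟶ M') (i : GenIdx M) :
    genι M i ≫ genMap g = genι M' ⟨i.1, i.2 ≫ g⟩ :=
  Sigma.ι_desc (fun i : GenIdx M => genι M' ⟨i.1, i.2 ≫ g⟩) i

@[reassoc]
theorem genMap_π (g : M ⟶ M') : genMap g ≫ genπ M' = genπ M ≫ g := by
  apply Sigma.hom_ext
  intro i
  change genι M i ≫ genMap g ≫ genπ M' = genι M i ≫ genπ M ≫ g
  rw [genι_map_assoc, genι_π, genι_π_assoc]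

theorem genι_congr (U : C) (f f' : freeOn O U ⟶ M) (h : f = f') :
    genι M ⟨U, f⟩ = genι M ⟨U, f'⟩ := by
  rw [h]

theorem genMap_id : genMap (𝟙 M) = 𝟙 (genObj M) := by
  apply Sigma.hom_ext
  intro i
  change genι M i ≫ genMap (𝟙 M) = genι M i ≫ 𝟙 _
  rw [genι_map]
  exact (genι_congr _ _ _ (Category.comp_id _)).trans (Category.comp_id _).symm

theorem genMap_comp (g : M ⟶ M') (g' : M' ⟶ M'') : genMap (g ≫ g') = genMap g ≫ genMap g' := by
  apply Sigma.hom_ext
  intro i
  change genι M i ≫ genMap (g ≫ g') = genι M i ≫ genMap g ≫ genMap g'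
  rw [genι_map, genι_map_assoc, genι_map]
  exact genι_congr _ _ _ (Category.assoc _ _ _).symm

end GenMap

section ZeroCxMap

noncomputable def zeroCxMap {X Y : ℤ → Mod O} (f : ∀ p, X p ⟶ Y p) : zeroCx X ⟶ zeroCx Y where
  f := f
  comm' i j _ := by
    change f i ≫ 0 = 0 ≫ f j
    rw [comp_zero, zero_comp]

theorem zeroCxMap_f {X Y : ℤ → Mod O} (f : ∀ p, X p ⟶ Y p) (p : ℤ) : (zeroCxMap f).f p = f p := rfl

theorem zeroCxMap_id (X : ℤ → Mod O) : zeroCxMap (fun p => 𝟙 (X p)) = 𝟙 (zeroCx X) := rfl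

theorem zeroCxMap_comp {X Y Z : ℤ → Mod O} (f : ∀ p, X p ⟶ Y p) (g : ∀ p, Y p ⟶ Z p) :
    zeroCxMap (fun p => f p ≫ g p) = zeroCxMap f ≫ zeroCxMap g := rfl

theorem zeroCxMap_congr {X Y : ℤ → Mod O} {f g : ∀ p, X p ⟶ Y p} (h : ∀ p, f p = g p) :
    zeroCxMap f = zeroCxMap g := by
  have : f = g := funext h
  rw [this]

end ZeroCxMap

section ConeMapAux

universe v₂ u₂

variable {A : Type u₂} [Category.{v₂} A] [Preadditive A] [HasBinaryBiproducts A]

variable {K₁ L₁ K₂ L₂ : CochainComplex A ℤ} (φ₁ : K₁ ⟶ L₁) (φ₂ : K₂ ⟶ L₂)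
  (a : K₁ ⟶ K₂) (b : L₁ ⟶ L₂) (comm : φ₁ ≫ b = a ≫ φ₂)

@[reassoc]
theorem map_f_fst_v (p p' : ℤ) (h : p + 1 = p') :
    (mappingCone.map φ₁ φ₂ a b comm).f p ≫ (mappingCone.fst φ₂).1.v p p' h =
      (mappingCone.fst φ₁).1.v p p' h ≫ a.f p' := by
  rw [mappingCone.ext_from_iff φ₁ p' p (by omega)]
  constructor
  · rw [inl_v_map_f_assoc, mappingCone.inl_v_fst_v, mappingCone.inl_v_fst_v_assoc,
      Category.comp_id]
  · rw [inr_f_map_f_assoc, mappingCone.inr_f_fst_v, mappingCone.inr_f_fst_v_assoc, comp_zero,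
      zero_comp]

@[reassoc]
theorem map_f_snd_v (p : ℤ) :
    (mappingCone.map φ₁ φ₂ a b comm).f p ≫ (mappingCone.snd φ₂).v p p (add_zero p) =
      (mappingCone.snd φ₁).v p p (add_zero p) ≫ b.f p := by
  rw [mappingCone.ext_from_iff φ₁ (p + 1) p rfl]
  constructor
  · rw [inl_v_map_f_assoc, mappingCone.inl_v_snd_v, mappingCone.inl_v_snd_v_assoc, comp_zero,
      zero_comp]
  · rw [inr_f_map_f_assoc, mappingCone.inr_f_snd_v, mappingCone.inr_f_snd_v_assoc,
      Category.comp_id]

theorem inr_map :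
    mappingCone.inr φ₁ ≫ mappingCone.map φ₁ φ₂ a b comm = b ≫ mappingCone.inr φ₂ := by
  ext p
  rw [HomologicalComplex.comp_f, HomologicalComplex.comp_f, inr_f_map_f]

end ConeMapAux

section StepMap

variable {K G K' G' K'' G'' : CochainComplex (Mod O) ℤ} (q : K ⟶ G) (q' : K' ⟶ G')
  (q'' : K'' ⟶ G'') (a : K ⟶ K') (b : G ⟶ G') (comm : q ≫ b = a ≫ q')

noncomputable def attXMap (p : ℤ) : (attCx q).X p ⟶ (attCx q').X p :=
  genMap (HomologicalComplex.cyclesMap (mappingCone.map q q' a b comm) (p - 1))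

noncomputable def attCxMap : attCx q ⟶ attCx q' := zeroCxMap (attXMap q q' a b comm)

theorem attCxMap_f (p : ℤ) : (attCxMap q q' a b comm).f p = attXMap q q' a b comm p := rfl

@[reassoc]
theorem attXMap_attCyc (p : ℤ) :
    attXMap q q' a b comm p ≫ attCyc q' p =
      attCyc q p ≫ (mappingCone.map q q' a b comm).f (p - 1) := by
  have h : attXMap q q' a b comm p ≫ attGen q' p =
      attGen q p ≫ HomologicalComplex.cyclesMap (mappingCone.map q q' a b comm) (p - 1) :=
    genMap_π _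
  rw [attCyc, attCyc, ← Category.assoc, h, Category.assoc, HomologicalComplex.cyclesMap_i,
    Category.assoc]

theorem attCxMap_att : attCxMap q q' a b comm ≫ att q' = att q ≫ a := by
  refine HomologicalComplex.hom_ext _ _ (fun p => ?_)
  change attXMap q q' a b comm p ≫ attCyc q' p ≫ (mappingCone.fst q').1.v (p - 1) p _ =
    (attCyc q p ≫ (mappingCone.fst q).1.v (p - 1) p _) ≫ a.f p
  rw [attXMap_attCyc_assoc, map_f_fst_v, Category.assoc]

noncomputable def stepKMap : stepK q ⟶ stepK q' :=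
  mappingCone.map (att q) (att q') (attCxMap q q' a b comm) a (attCxMap_att q q' a b comm).symm

theorem stepJ_stepKMap : stepJ q ≫ stepKMap q q' a b comm = a ≫ stepJ q' :=
  inr_map _ _ _ _ _

theorem stepKMap_stepQ : stepKMap q q' a b comm ≫ stepQ q' = stepQ q ≫ b := by
  refine HomologicalComplex.hom_ext _ _ (fun p => ?_)
  obtain ⟨p', rfl⟩ : ∃ p', p = p' - 1 := ⟨p + 1, by omega⟩
  rw [mappingCone.ext_from_iff (att q) p' (p' - 1) (by omega)]
  constructor
  · rw [HomologicalComplex.comp_f, HomologicalComplex.comp_f]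
    unfold stepKMap
    rw [inl_v_map_f_assoc]
    unfold stepQ
    rw [mappingCone.inl_v_desc_f, mappingCone.inl_v_desc_f_assoc]
    change attXMap q q' a b comm p' ≫ (-(attCyc q' p' ≫ (mappingCone.snd q').v (p' - 1) (p' - 1) _)) =
      (-(attCyc q p' ≫ (mappingCone.snd q).v (p' - 1) (p' - 1) _)) ≫ b.f (p' - 1)
    rw [Preadditive.comp_neg, Preadditive.neg_comp, attXMap_attCyc_assoc, map_f_snd_v,
      Category.assoc]
  · rw [HomologicalComplex.comp_f, HomologicalComplex.comp_f]
    unfold stepKMap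
    rw [inr_f_map_f_assoc]
    unfold stepQ
    rw [mappingCone.inr_f_desc_f, mappingCone.inr_f_desc_f_assoc, ← HomologicalComplex.comp_f,
      ← HomologicalComplex.comp_f, comm]

theorem attXMap_id (p : ℤ) :
    attXMap q q (𝟙 K) (𝟙 G) (by rw [Category.comp_id, Category.id_comp]) p = 𝟙 _ := by
  unfold attXMap
  rw [mappingCone.map_id, HomologicalComplex.cyclesMap_id, genMap_id]
  rfl

theorem stepKMap_id :
    stepKMap q q (𝟙 K) (𝟙 G) (by rw [Category.comp_id, Category.id_comp]) = 𝟙 _ := by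
  unfold stepKMap
  have h : attCxMap q q (𝟙 K) (𝟙 G) (by rw [Category.comp_id, Category.id_comp]) = 𝟙 _ := by
    refine HomologicalComplex.hom_ext _ _ (fun p => ?_)
    exact attXMap_id q p
  rw [map_congr (att q) (att q) h rfl _ (by rw [Category.comp_id, Category.id_comp])]
  exact mappingCone.map_id _

variable (a' : K' ⟶ K'') (b' : G' ⟶ G'') (comm' : q' ≫ b' = a' ≫ q'')

theorem attXMap_comp (p : ℤ) :
    attXMap q q'' (a ≫ a') (b ≫ b') (by rw [reassoc_of% comm, comm', Category.assoc]) p =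
      attXMap q q' a b comm p ≫ attXMap q' q'' a' b' comm' p := by
  unfold attXMap
  rw [mappingCone.map_comp q q' q'' a b comm a' b' comm', HomologicalComplex.cyclesMap_comp,
    genMap_comp]
  rfl

theorem stepKMap_comp :
    stepKMap q q'' (a ≫ a') (b ≫ b') (by rw [reassoc_of% comm, comm', Category.assoc]) =
      stepKMap q q' a b comm ≫ stepKMap q' q'' a' b' comm' := by
  unfold stepKMap
  have h : attCxMap q q'' (a ≫ a') (b ≫ b') (by rw [reassoc_of% comm, comm', Category.assoc]) =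
      attCxMap q q' a b comm ≫ attCxMap q' q'' a' b' comm' := by
    refine HomologicalComplex.hom_ext _ _ (fun p => ?_)
    exact attXMap_comp q q' q'' a b comm a' b' comm' p
  rw [← mappingCone.map_comp]
  exact map_congr _ _ h rfl _ _

theorem stepKMap_congr {a₁ a₂ : K ⟶ K'} {b₁ b₂ : G ⟶ G'} (ha : a₁ = a₂) (hb : b₁ = b₂)
    (c₁ : q ≫ b₁ = a₁ ≫ q') (c₂ : q ≫ b₂ = a₂ ≫ q') :
    stepKMap q q' a₁ b₁ c₁ = stepKMap q q' a₂ b₂ c₂ := by
  subst ha hb
  rfl

end StepMap

section StartMap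

variable {G G' G'' : CochainComplex (Mod O) ℤ} (b : G ⟶ G') (b' : G' ⟶ G'')

noncomputable def startXMap (p : ℤ) : (startZ G).X p ⟶ (startZ G').X p := genMap (b.f (p - 1))

noncomputable def startZMap : startZ G ⟶ startZ G' := zeroCxMap (startXMap b)

theorem startZMap_f (p : ℤ) : (startZMap b).f p = startXMap b p := rfl

@[reassoc]
theorem startXMap_gen (p : ℤ) : startXMap b p ≫ startGen G' p = startGen G p ≫ b.f (p - 1) :=
  genMap_π _

noncomputable def startKMap : startK G ⟶ startK G' :=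
  mappingCone.map (𝟙 (startZ G)) (𝟙 (startZ G')) (startZMap b) (startZMap b)
    (by rw [Category.id_comp, Category.comp_id])

noncomputable def startQ' (G : CochainComplex (Mod O) ℤ) : mappingCone (𝟙 (startZ G)) ⟶ G :=
  startQ G

@[reassoc]
theorem inl_startQ' (G : CochainComplex (Mod O) ℤ) (p : ℤ) :
    (mappingCone.inl (𝟙 (startZ G))).v p (p - 1) (by omega) ≫ (startQ' G).f (p - 1) =
      startGen G p := by
  unfold startQ' startQ
  rw [mappingCone.inl_v_desc_f, startα_v]

@[reassoc]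
theorem inr_startQ' (G : CochainComplex (Mod O) ℤ) (p : ℤ) :
    (mappingCone.inr (𝟙 (startZ G))).f p ≫ (startQ' G).f p = startGen G p ≫ G.d (p - 1) p := by
  unfold startQ' startQ
  rw [mappingCone.inr_f_desc_f]
  rfl

theorem startKMap_startQ : startKMap b ≫ startQ G' = startQ G ≫ b := by
  refine HomologicalComplex.hom_ext _ _ (fun p => ?_)
  obtain ⟨p', rfl⟩ : ∃ p', p = p' - 1 := ⟨p + 1, by omega⟩
  have key : ∀ (f g : (mappingCone (𝟙 (startZ G))).X (p' - 1) ⟶ G'.X (p' - 1)),
      (mappingCone.inl (𝟙 (startZ G))).v p' (p' - 1) (by omega) ≫ f =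
        (mappingCone.inl (𝟙 (startZ G))).v p' (p' - 1) (by omega) ≫ g →
      (mappingCone.inr (𝟙 (startZ G))).f (p' - 1) ≫ f =
        (mappingCone.inr (𝟙 (startZ G))).f (p' - 1) ≫ g → f = g :=
    fun f g h1 h2 => (mappingCone.ext_from_iff _ p' (p' - 1) (by omega) f g).mpr ⟨h1, h2⟩
  apply key
  · change (mappingCone.inl (𝟙 (startZ G))).v p' (p' - 1) _ ≫
      (mappingCone.map (𝟙 (startZ G)) (𝟙 (startZ G')) (startZMap b) (startZMap b) _).f (p' - 1) ≫
        (startQ' G').f (p' - 1) =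
      (mappingCone.inl (𝟙 (startZ G))).v p' (p' - 1) _ ≫ (startQ' G).f (p' - 1) ≫ b.f (p' - 1)
    rw [inl_v_map_f_assoc, inl_startQ', inl_startQ'_assoc, startZMap_f, startXMap_gen]
  · change (mappingCone.inr (𝟙 (startZ G))).f (p' - 1) ≫
      (mappingCone.map (𝟙 (startZ G)) (𝟙 (startZ G')) (startZMap b) (startZMap b) _).f (p' - 1) ≫
        (startQ' G').f (p' - 1) =
      (mappingCone.inr (𝟙 (startZ G))).f (p' - 1) ≫ (startQ' G).f (p' - 1) ≫ b.f (p' - 1)
    rw [inr_f_map_f_assoc, inr_startQ', inr_startQ'_assoc, startZMap_f, startXMap_gen_assoc,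
      b.comm]

theorem startXMap_id (p : ℤ) : startXMap (𝟙 G) p = 𝟙 _ := by
  unfold startXMap
  rw [HomologicalComplex.id_f, genMap_id]
  rfl

theorem startZMap_id : startZMap (𝟙 G) = 𝟙 _ := by
  refine HomologicalComplex.hom_ext _ _ (fun p => ?_)
  exact startXMap_id p

theorem startKMap_id : startKMap (𝟙 G) = 𝟙 _ := by
  unfold startKMap
  exact (map_congr _ _ (startZMap_id (G := G)) (startZMap_id (G := G)) _
    (by simp)).trans (mappingCone.map_id _)

theorem startXMap_comp (p : ℤ) : startXMap (b ≫ b') p = startXMap b p ≫ startXMap b' p := by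
  unfold startXMap
  rw [HomologicalComplex.comp_f, genMap_comp]
  rfl

theorem startZMap_comp : startZMap (b ≫ b') = startZMap b ≫ startZMap b' := by
  refine HomologicalComplex.hom_ext _ _ (fun p => ?_)
  exact startXMap_comp b b' p

theorem startKMap_comp : startKMap (b ≫ b') = startKMap b ≫ startKMap b' := by
  unfold startKMap
  exact (map_congr _ _ (startZMap_comp b b') (startZMap_comp b b') _
    (by simp)).trans (mappingCone.map_comp _ _ _ _ _ _ _ _ _)

end StartMap

section TowerMap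

variable {G G' G'' : CochainComplex (Mod O) ℤ}

structure StageMap (b : G ⟶ G') (s : Over G) (s' : Over G') where
  a : s.left ⟶ s'.left
  comm : s.hom ≫ b = a ≫ s'.hom

noncomputable def StageMap.next {b : G ⟶ G'} {s : Over G} {s' : Over G'} (m : StageMap b s s') :
    StageMap b (nextO s) (nextO s') where
  a := stepKMap s.hom s'.hom m.a b m.comm
  comm := (stepKMap_stepQ s.hom s'.hom m.a b m.comm).symm

noncomputable def stageMap (b : G ⟶ G') : ∀ n : ℕ, StageMap b (stageO G n) (stageO G' n)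
  | 0 => ⟨startKMap b, (startKMap_startQ b).symm⟩
  | (n + 1) => (stageMap b n).next

theorem stageMap_succ_a (b : G ⟶ G') (n : ℕ) :
    (stageMap b (n + 1)).a =
      stepKMap (stageO G n).hom (stageO G' n).hom (stageMap b n).a b (stageMap b n).comm := rfl

theorem stageMap_id_a (n : ℕ) : (stageMap (𝟙 G) n).a = 𝟙 _ := by
  induction n with
  | zero => exact startKMap_id
  | succ n ih =>
    rw [stageMap_succ_a]
    rw [stepKMap_congr _ _ ih rfl _ (by rw [Category.comp_id, Category.id_comp])]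
    exact stepKMap_id _

theorem stageMap_comp_a (b : G ⟶ G') (b' : G' ⟶ G'') (n : ℕ) :
    (stageMap (b ≫ b') n).a = (stageMap b n).a ≫ (stageMap b' n).a := by
  induction n with
  | zero => exact startKMap_comp b b'
  | succ n ih =>
    rw [stageMap_succ_a, stageMap_succ_a, stageMap_succ_a]
    exact (stepKMap_congr _ _ ih rfl _ (by
      rw [reassoc_of% (stageMap b n).comm, (stageMap b' n).comm, Category.assoc])).trans
      (stepKMap_comp _ _ _ _ _ (stageMap b n).comm _ _ (stageMap b' n).comm)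

noncomputable def sJ (G : CochainComplex (Mod O) ℤ) (n : ℕ) :
    (stageO G n).left ⟶ (stageO G (n + 1)).left := (nextJ (stageO G n)).left

@[reassoc]
theorem stageMap_sJ (b : G ⟶ G') (n : ℕ) :
    sJ G n ≫ (stageMap b (n + 1)).a = (stageMap b n).a ≫ sJ G' n :=
  stepJ_stepKMap _ _ _ _ _

end TowerMap

section ResFunctor

variable {G G' G'' : CochainComplex (Mod O) ℤ}

noncomputable def rι (G : CochainComplex (Mod O) ℤ) (n : ℕ) :
    (stageO G n).left ⟶ (resCocone G).pt := cι (towerO G) (resCocone G) n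

theorem towerO_map_succ_left (G : CochainComplex (Mod O) ℤ) (n : ℕ) :
    ((towerO G).map (homOfLE (Nat.le_succ n))).left = sJ G n := by
  rw [towerO_map_succ]
  rfl

@[reassoc]
theorem sJ_rι (G : CochainComplex (Mod O) ℤ) (n : ℕ) :
    sJ G n ≫ rι G (n + 1) = rι G n := by
  have h := cι_w (towerO G) (resCocone G) (homOfLE (Nat.le_succ n))
  exact (congrArg (fun x => x ≫ cι (towerO G) (resCocone G) (n + 1))
    (towerO_map_succ_left G n)).symm.trans h

@[reassoc]
theorem rι_resQ (G : CochainComplex (Mod O) ℤ) (n : ℕ) : rι G n ≫ resQ G = (stageO G n).hom :=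
  resQ_fac G n

theorem resMap_nat (b : G ⟶ G') (n : ℕ) :
    sJ G n ≫ (stageMap b (n + 1)).a ≫ rι G' (n + 1) = (stageMap b n).a ≫ rι G' n := by
  rw [stageMap_sJ_assoc, sJ_rι]

noncomputable def resMapCocone (b : G ⟶ G') : Cocone (towerO G ⋙ Over.forget G) where
  pt := (resCocone G').pt
  ι := NatTrans.ofSequence (G := (Functor.const ℕ).obj (resCocone G').pt)
    (fun n => (stageMap b n).a ≫ rι G' n)
    (fun n => ((congrArg (fun x => x ≫ (stageMap b (n + 1)).a ≫ rι G' (n + 1))
        (towerO_map_succ_left G n)).trans (resMap_nat b n)).trans (Category.comp_id _).symm)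

noncomputable def resMap (b : G ⟶ G') : (resCocone G).pt ⟶ (resCocone G').pt :=
  (resIsColimit G).desc (resMapCocone b)

@[reassoc]
theorem rι_resMap (b : G ⟶ G') (n : ℕ) :
    rι G n ≫ resMap b = (stageMap b n).a ≫ rι G' n :=
  (resIsColimit G).fac (resMapCocone b) n

theorem res_hom_ext {Z : CochainComplex (Mod O) ℤ} (f g : (resCocone G).pt ⟶ Z)
    (h : ∀ n, rι G n ≫ f = rι G n ≫ g) : f = g :=
  (resIsColimit G).hom_ext h

theorem resMap_id : resMap (𝟙 G) = 𝟙 _ := by
  apply res_hom_ext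
  intro n
  rw [rι_resMap, stageMap_id_a, Category.id_comp, Category.comp_id]

theorem resMap_comp (b : G ⟶ G') (b' : G' ⟶ G'') : resMap (b ≫ b') = resMap b ≫ resMap b' := by
  apply res_hom_ext
  intro n
  rw [rι_resMap, rι_resMap_assoc, rι_resMap, stageMap_comp_a, Category.assoc]

theorem resMap_resQ (b : G ⟶ G') : resMap b ≫ resQ G' = resQ G ≫ b := by
  apply res_hom_ext
  intro n
  rw [rι_resMap_assoc, rι_resQ, rι_resQ_assoc]
  exact (stageMap b n).comm.symm

variable (O) in
noncomputable def resFunctor : CochainComplex (Mod O) ℤ ⥤ CochainComplex (Mod O) ℤ where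
  obj G := (resCocone G).pt
  map b := resMap b
  map_id _ := resMap_id
  map_comp b b' := resMap_comp b b'

variable (O) in
noncomputable def resNat : resFunctor O ⟶ 𝟭 (CochainComplex (Mod O) ℤ) where
  app G := resQ G
  naturality _ _ b := resMap_resQ b

theorem isKFlat_resFunctor_obj (G : CochainComplex (Mod O) ℤ) : IsKFlat ((resFunctor O).obj G) :=
  isKFlat_resK G

theorem isFlat_resFunctor_obj_X (G : CochainComplex (Mod O) ℤ) (j : ℤ) :
    IsFlat (((resFunctor O).obj G).X j) := isFlat_resK_X G j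

theorem quasiIso_resNat_app (G : CochainComplex (Mod O) ℤ) : QuasiIso ((resNat O).app G) :=
  quasiIso_resQ G

end ResFunctor

end Groth.Agent.Lib.Helper12.KFlat
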