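import Groth.Agent.Lib.Helper12.KFlat
import Groth.Agent.Lib.Helper42.Flat
import Mathlib.Algebra.Homology.HomologicalComplexLimits

set_option autoImplicit false
universe u
open CategoryTheory CategoryTheory.Limits

namespace Groth.Agent.Lib.Helper12.KFlat

open ModSite

variable {C : Type u} [SmallCategory C] {J : GrothendieckTopology C} (O : Sheaf J CommRingCat.{u})

instance hasExactColimitsOfShape_nat : HasExactColimitsOfShape ℕ (Mod O) := by
  have : PreservesColimitsOfShape ℕ (SheafOfModules.toSheaf.{u} (ringSh O)) :=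
    (preservesColimitsOfSize_shrink.{0, u, 0, u}
      (SheafOfModules.toSheaf.{u} (ringSh O))).preservesColimitsOfShape
  have h0 : AB5OfSize.{0, 0} AddCommGrpCat.{u} := AB5OfSize_of_univLE.{0, 0, u, u} _
  have h1 : HasExactColimitsOfShape ℕ AddCommGrpCat.{u} := AB5OfSize.ofShape ℕ
  have h2 : HasExactColimitsOfShape ℕ (Sheaf J AddCommGrpCat.{u}) :=
    Sheaf.hasExactColimitsOfShape J
  exact HasExactColimitsOfShape.domain_of_functor ℕ (SheafOfModules.toSheaf.{u} (ringSh O))


section ColimAcyc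

universe v₂ u₂ v₃ u₃

variable {A : Type u₂} [Category.{v₂} A] [Abelian A] {Λ : Type u₃} [Category.{v₃} Λ]
  [HasColimitsOfShape Λ A] [HasExactColimitsOfShape Λ A]

noncomputable def dNat (L : Λ ⥤ CochainComplex A ℤ) (i j : ℤ) :
    L ⋙ HomologicalComplex.eval A (ComplexShape.up ℤ) i ⟶
      L ⋙ HomologicalComplex.eval A (ComplexShape.up ℤ) j where
  app m := (L.obj m).d i j
  naturality m m' f := ((L.map f).comm i j)

noncomputable def scNat (L : Λ ⥤ CochainComplex A ℤ) (i : ℤ) : ShortComplex (Λ ⥤ A) where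
  X₁ := L ⋙ HomologicalComplex.eval A (ComplexShape.up ℤ) (i - 1)
  X₂ := L ⋙ HomologicalComplex.eval A (ComplexShape.up ℤ) i
  X₃ := L ⋙ HomologicalComplex.eval A (ComplexShape.up ℤ) (i + 1)
  f := dNat L (i - 1) i
  g := dNat L i (i + 1)
  zero := by
    apply NatTrans.ext
    funext m
    exact (L.obj m).d_comp_d _ _ _

theorem acyc_iff_sc' (K : CochainComplex A ℤ) :
    Acyc K ↔ ∀ i : ℤ, (K.sc' (i - 1) i (i + 1)).Exact := by
  constructor
  · intro h i
    exact (K.exactAt_iff' (i - 1) i (i + 1) (by simp) (by simp)).mp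
      ((K.exactAt_iff_isZero_homology i).mpr (h i))
  · intro h i
    exact (K.exactAt_iff_isZero_homology i).mp
      ((K.exactAt_iff' (i - 1) i (i + 1) (by simp) (by simp)).mpr (h i))

theorem acyc_of_isColimit_eval (L : Λ ⥤ CochainComplex A ℤ) (c : Cocone L)
    (hc : ∀ j : ℤ, IsColimit ((HomologicalComplex.eval A (ComplexShape.up ℤ) j).mapCocone c))
    (hL : ∀ m, Acyc (L.obj m)) : Acyc c.pt := by
  rw [acyc_iff_sc']
  intro i
  have hS' : (scNat L i).Exact := by
    apply exact_of_pointwise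
    intro m
    exact (acyc_iff_sc' _).mp (hL m) i
  exact colim.exact_mapShortComplex hS' (hc (i - 1)) (hc i) (hc (i + 1))
    (c.pt.d (i - 1) i) (c.pt.d i (i + 1))
    (fun m => ((c.ι.app m).comm (i - 1) i)) (fun m => ((c.ι.app m).comm i (i + 1)))

end ColimAcyc


section CoprodFunctor

universe v₁ u₁ v₂ u₂ v₃ u₃ w

variable {A : Type u₁} [Category.{v₁} A] {B : Type u₂} [Category.{v₂} B]
  {Λ : Type u₃} [Category.{v₃} Λ]

theorem isColimit_mapCocone_of_cofans (K : Λ ⥤ A) (c : Cocone K) (hc : IsColimit c)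
    (Φ : A ⥤ B) {I : Type w} (G : I → A ⥤ B) [∀ i, PreservesColimit K (G i)]
    (ι : ∀ (X : A) (i : I), (G i).obj X ⟶ Φ.obj X)
    (hnat : ∀ {X Y : A} (f : X ⟶ Y) (i : I), ι X i ≫ Φ.map f = (G i).map f ≫ ι Y i)
    (hext : ∀ (X : A) {Z : B} (f g : Φ.obj X ⟶ Z), (∀ i, ι X i ≫ f = ι X i ≫ g) → f = g)
    (hdesc : ∀ (X : A) {Z : B} (φ : ∀ i, (G i).obj X ⟶ Z), ∃ f : Φ.obj X ⟶ Z, ∀ i, ι X i ≫ f = φ i) :
    Nonempty (IsColimit (Φ.mapCocone c)) := by
  have hG : ∀ i, IsColimit ((G i).mapCocone c) := fun i => isColimitOfPreserves (G i) hc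
  have key : ∀ s : Cocone (K ⋙ Φ), ∃ f : Φ.obj c.pt ⟶ s.pt,
      ∀ m, Φ.map (c.ι.app m) ≫ f = s.ι.app m := by
    intro s
    let si : ∀ i, Cocone (K ⋙ G i) := fun i =>
      { pt := s.pt
        ι :=
          { app := fun m => ι (K.obj m) i ≫ s.ι.app m
            naturality := by
              intro m m' f
              dsimp
              rw [Category.comp_id, ← Category.assoc, ← hnat, Category.assoc]
              congr 1
              have := s.ι.naturality f
              dsimp at this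
              rw [Category.comp_id] at this
              exact this } }
    obtain ⟨f, hf⟩ := hdesc c.pt (fun i => (hG i).desc (si i))
    refine ⟨f, fun m => ?_⟩
    apply hext
    intro i
    have h1 : ι (K.obj m) i ≫ Φ.map (c.ι.app m) = (G i).map (c.ι.app m) ≫ ι c.pt i :=
      hnat (c.ι.app m) i
    calc ι (K.obj m) i ≫ Φ.map (c.ι.app m) ≫ f
        = ((G i).map (c.ι.app m) ≫ ι c.pt i) ≫ f := by rw [← Category.assoc, h1]
      _ = (G i).map (c.ι.app m) ≫ (hG i).desc (si i) := by rw [Category.assoc, hf]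
      _ = ι (K.obj m) i ≫ s.ι.app m := (hG i).fac (si i) m
  choose d hd using key
  refine ⟨{ desc := d, fac := fun s m => hd s m, uniq := ?_ }⟩
  intro s f' hf'
  apply hext
  intro i
  apply (hG i).hom_ext
  intro m
  have h1 : ι (K.obj m) i ≫ Φ.map (c.ι.app m) = (G i).map (c.ι.app m) ≫ ι c.pt i :=
    hnat (c.ι.app m) i
  have h2 : Φ.map (c.ι.app m) ≫ f' = s.ι.app m := hf' m
  have h3 : Φ.map (c.ι.app m) ≫ d s = s.ι.app m := hd s m
  calc (G i).map (c.ι.app m) ≫ ι c.pt i ≫ f'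
      = (ι (K.obj m) i ≫ Φ.map (c.ι.app m)) ≫ f' := by rw [h1, Category.assoc]
    _ = ι (K.obj m) i ≫ s.ι.app m := by rw [Category.assoc, h2]
    _ = (ι (K.obj m) i ≫ Φ.map (c.ι.app m)) ≫ d s := by rw [Category.assoc, h3]
    _ = (G i).map (c.ι.app m) ≫ ι c.pt i ≫ d s := by rw [h1, Category.assoc]

end CoprodFunctor


section Colimit

variable {O}

open Groth.Agent.Lib.Helper42.Flat

instance preservesColimitsOfShape_nat_tensL (M : Mod O) :
    PreservesColimitsOfShape ℕ ((tensorBi O).obj M) :=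
  (preservesColimitsOfSize_shrink.{0, u, 0, u} (tensL O M)).preservesColimitsOfShape

theorem isColimit_eval_tensorCx (F : CochainComplex (Mod O) ℤ)
    (K : ℕ ⥤ CochainComplex (Mod O) ℤ) (c : Cocone K) (hc : IsColimit c) (j : ℤ) :
    Nonempty (IsColimit ((HomologicalComplex.eval (Mod O) (ComplexShape.up ℤ) j).mapCocone
      (((tensorCx O).obj F).mapCocone c))) := by
  refine isColimit_mapCocone_of_cofans K c hc
    ((tensorCx O).obj F ⋙ HomologicalComplex.eval (Mod O) (ComplexShape.up ℤ) j)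
    (fun i : fib j => HomologicalComplex.eval (Mod O) (ComplexShape.up ℤ) i.1.2 ⋙
      (tensorBi O).obj (F.X i.1.1))
    (fun X i => (coc F X j).ι.app ⟨i⟩) ?_ ?_ ?_
  · intro X Y f i
    exact coc_ι_map F f j ⟨i⟩
  · intro X Z f g h
    exact (isColimitCoc F X j).hom_ext (fun ⟨i⟩ => h i)
  · intro X Z φ
    exact ⟨(isColimitCoc F X j).desc ⟨Z, Discrete.natTrans (fun ⟨i⟩ => φ i)⟩,
      fun i => (isColimitCoc F X j).fac _ ⟨i⟩⟩

theorem isKFlat_of_isColimit_nat (K : ℕ ⥤ CochainComplex (Mod O) ℤ) (c : Cocone K)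
    (hc : IsColimit c) (hK : ∀ n : ℕ, IsKFlat (K.obj n)) : IsKFlat c.pt := by
  intro F hF
  exact acyc_of_isColimit_eval (K ⋙ (tensorCx O).obj F) (((tensorCx O).obj F).mapCocone c)
    (fun j => (isColimit_eval_tensorCx F K c hc j).some) (fun m => hK m F hF)

end Colimit

end Groth.Agent.Lib.Helper12.KFlat
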