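import Groth.Agent.Lib.Helper12.LDer

set_option autoImplicit false
open CategoryTheory CategoryTheory.Limits Opposite

namespace Groth.Agent.Lib.Helper12.LDer

universe v₁ v₂ v₃ v₄ u₁ u₂ u₃ u₄

section Precomp

variable {C : Type u₁} {K : Type u₂} {D : Type u₃} {H : Type u₄}
  [Category.{v₁} C] [Category.{v₂} K] [Category.{v₃} D] [Category.{v₄} H]
  (q : C ⥤ K) (Wq : MorphismProperty C) [q.IsLocalization Wq]
  {Lh : K ⥤ D} {Fh : K ⥤ H} (LF : D ⥤ H) (α : Lh ⋙ LF ⟶ Fh)

def preAlpha : (q ⋙ Lh) ⋙ LF ⟶ q ⋙ Fh := Functor.whiskerLeft q α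

@[simp]
theorem preAlpha_app (X : C) : (preAlpha q LF α).app X = α.app (q.obj X) := rfl

include Wq in
theorem isRightKanExtension_precomp [LF.IsRightKanExtension α] :
    LF.IsRightKanExtension (preAlpha q LF α) := by
  have lift_app : ∀ (E : Functor.RightExtension (q ⋙ Lh) (q ⋙ Fh)) (X : C),
      (Localization.liftNatTrans q Wq (q ⋙ Lh ⋙ E.left) (q ⋙ Fh) (Lh ⋙ E.left) Fh E.hom).app
        (q.obj X) = E.hom.app X := by
    intro E X
    rw [Localization.liftNatTrans_app]
    change 𝟙 _ ≫ E.hom.app X ≫ 𝟙 _ = _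
    rw [Category.id_comp, Category.comp_id]
  refine ⟨⟨IsTerminal.ofUniqueHom (fun E => CostructuredArrow.homMk
    (LF.liftOfIsRightKanExtension α E.left
      (Localization.liftNatTrans q Wq (q ⋙ Lh ⋙ E.left) (q ⋙ Fh) (Lh ⋙ E.left) Fh E.hom)) ?_) ?_⟩⟩
  · ext X
    change (LF.liftOfIsRightKanExtension α E.left _).app (Lh.obj (q.obj X)) ≫ α.app (q.obj X) =
      E.hom.app X
    rw [LF.liftOfIsRightKanExtension_fac_app α, lift_app]
  · intro E m
    apply CostructuredArrow.ext
    change m.left = LF.liftOfIsRightKanExtension α E.left _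
    apply LF.hom_ext_of_isRightKanExtension α
    rw [LF.liftOfIsRightKanExtension_fac α]
    apply Localization.natTrans_ext q Wq
    intro X
    rw [lift_app]
    exact congrArg (fun t => t.app X) (CostructuredArrow.w m)

include Wq in
theorem isLeftDerivedFunctor_precomp {W : MorphismProperty K} (WC : MorphismProperty C)
    [Lh.IsLocalization W] [(q ⋙ Lh).IsLocalization WC] [LF.IsLeftDerivedFunctor α W] :
    LF.IsLeftDerivedFunctor (preAlpha q LF α) WC := by
  have : LF.IsRightKanExtension α := Functor.IsLeftDerivedFunctor.isRightKanExtension LF α W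
  exact ⟨isRightKanExtension_precomp q Wq LF α⟩

end Precomp

end Groth.Agent.Lib.Helper12.LDer
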