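import Groth.Agent.Lib.Helper12.KFlat19
import Groth.Agent.Lib.Helper12.LDer2

set_option autoImplicit false
universe u
open CategoryTheory CategoryTheory.Limits

namespace Groth.Agent.Lib.Helper12.KFlat

open ModSite Groth.Agent.Lib.Helper42.Flat Groth.Agent.Lib.Helper42.Flat2
  Groth.Agent.Lib.Helper42.TensorColim Groth.Agent.Lib.Helper42.FlatCx
open CochainComplex CochainComplex.HomComplex

variable {C : Type u} [SmallCategory C] {J : GrothendieckTopology C} (O : Sheaf J CommRingCat.{u})

section Deriv

def kflatProp : ObjectProperty (CochainComplex (Mod O) ℤ) := fun K => IsKFlat K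

abbrev KFlatCx := (kflatProp O).FullSubcategory

abbrev qisCx : MorphismProperty (CochainComplex (Mod O) ℤ) :=
  HomologicalComplex.quasiIso (Mod O) (ComplexShape.up ℤ)

def kflatW : MorphismProperty (KFlatCx O) := (qisCx O).inverseImage (kflatProp O).ι

def kflatΦ : LocalizerMorphism (kflatW O) (qisCx O) where
  functor := (kflatProp O).ι
  map := fun _ _ _ hf => hf

theorem kflatProp_res (G : CochainComplex (Mod O) ℤ) : kflatProp O ((resFunctor O).obj G) :=
  isKFlat_resFunctor_obj G

noncomputable def kflatρ : CochainComplex (Mod O) ℤ ⥤ KFlatCx O :=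
  (kflatProp O).lift (resFunctor O) (kflatProp_res O)

noncomputable def kflatp : kflatρ O ⋙ (kflatΦ O).functor ⟶ 𝟭 (CochainComplex (Mod O) ℤ) where
  app G := (resNat O).app G
  naturality _ _ b := (resNat O).naturality b

instance : (kflatΦ O).functor.Full := inferInstanceAs ((kflatProp O).ι.Full)
instance : (kflatΦ O).functor.Faithful := inferInstanceAs ((kflatProp O).ι.Faithful)

instance isLeftDerivabilityStructure_kflatΦ : (kflatΦ O).IsLeftDerivabilityStructure := by
  refine LDer.isLeftDerivabilityStructure_of_functorial_resolutions (kflatΦ O) (kflatp O) ?_ rfl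
  intro G
  exact quasiIso_resNat_app G

universe v₂ u₂ v₃ u₃

theorem isIso_counit_app_of_isKFlat {H : Type u₂} [Category.{v₂} H] {D : Type u₃}
    [Category.{v₃} D] (F : CochainComplex (Mod O) ℤ ⥤ H)
    (hF : ∀ (P Q : CochainComplex (Mod O) ℤ) (f : P ⟶ Q), IsKFlat P → IsKFlat Q → QuasiIso f →
      IsIso (F.map f))
    (L : CochainComplex (Mod O) ℤ ⥤ D) [L.IsLocalization (qisCx O)] (LF : D ⥤ H)
    (α : L ⋙ LF ⟶ F) [LF.IsLeftDerivedFunctor α (qisCx O)]
    (P : CochainComplex (Mod O) ℤ) (hP : IsKFlat P) : IsIso (α.app P) := by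
  have h : (kflatΦ O).Derives F := by
    intro X Y f hf
    exact hF X.obj Y.obj f.hom X.property Y.property hf
  exact LDer.isIso_of_isLeftDerivedFunctor (kflatΦ O) h α ⟨P, hP⟩

end Deriv

end Groth.Agent.Lib.Helper12.KFlat
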