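import Groth.Agent.Lib.Helper12.KFlat20

set_option autoImplicit false
universe u
open CategoryTheory CategoryTheory.Limits

namespace Groth.Agent.Lib.Helper12.KFlat

open ModSite Groth.Agent.Lib.Helper42.Flat Groth.Agent.Lib.Helper42.Flat2
  Groth.Agent.Lib.Helper42.TensorColim Groth.Agent.Lib.Helper42.FlatCx
open CochainComplex CochainComplex.HomComplex

variable {C : Type u} [SmallCategory C] {J : GrothendieckTopology C} {O : Sheaf J CommRingCat.{u}}

section Termwise

noncomputable abbrev tw (M : Mod O) : CochainComplex (Mod O) ℤ ⥤ CochainComplex (Mod O) ℤ :=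
  (tensR O M).mapHomologicalComplex (ComplexShape.up ℤ)

noncomputable abbrev sg (M : Mod O) : CochainComplex (Mod O) ℤ :=
  (HomologicalComplex.single (Mod O) (ComplexShape.up ℤ) 0).obj M

theorem isZero_sg_X (M : Mod O) (q : ℤ) (hq : q ≠ 0) : IsZero ((sg M).X q) :=
  HomologicalComplex.isZero_single_obj_X (ComplexShape.up ℤ) 0 M q hq

noncomputable def twSingleIso (A : CochainComplex (Mod O) ℤ) (M : Mod O) :
    (tw ((sg M).X 0)).obj A ≅ T A (sg M) :=
  HomologicalComplex.Hom.isoOfComponents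
    (fun p => @asIso _ _ _ _ (ιT A (sg M) p 0 p (add_zero p))
      (isIso_ιT A (sg M) 0 (isZero_sg_X M) p p (add_zero p)))
    (by
      intro i j hij
      exact ιT_d A (sg M) 0 (isZero_sg_X M) i j i j (add_zero i) (add_zero j) hij)

noncomputable def tensRSgIso (M : Mod O) : tensR O ((sg M).X 0) ≅ tensR O M :=
  (tensorBi O).flip.mapIso (HomologicalComplex.singleObjXSelf (ComplexShape.up ℤ) 0 M)

noncomputable def twSgIso (M : Mod O) : tw ((sg M).X 0) ≅ tw M :=
  NatIso.mapHomologicalComplex (tensRSgIso M) (ComplexShape.up ℤ)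

theorem acyc_tw_of_acyc_of_isKFlat (A : CochainComplex (Mod O) ℤ) (hA : Acyc A)
    (hK : IsKFlat A) (M : Mod O) : Acyc ((tw M).obj A) := by
  have h1 : Acyc (((tensorCx O).obj (sg M)).obj A) := acyc_tensor_of_acyc_of_isKFlat A hA hK (sg M)
  have h2 : Acyc (T A (sg M)) := acyc_of_iso (tensorCxSymmIso (sg M) A) h1
  have h3 : Acyc ((tw ((sg M).X 0)).obj A) := acyc_of_iso (twSingleIso A M).symm h2
  exact acyc_of_iso ((twSgIso M).app A) h3

theorem quasiIso_tw_map {P Q : CochainComplex (Mod O) ℤ} (α : P ⟶ Q) [QuasiIso α]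
    (hP : IsKFlat P) (hQ : IsKFlat Q) (M : Mod O) : QuasiIso ((tw M).map α) := by
  rw [← acyclic_mappingCone_iff, acyclic_iff_acyc]
  have hc : Acyc (CochainComplex.mappingCone α) :=
    (acyclic_iff_acyc _).mp ((acyclic_mappingCone_iff α).mpr inferInstance)
  have hk : IsKFlat (CochainComplex.mappingCone α) := (isKFlat_cone α).1 hP hQ
  exact acyc_of_iso (CochainComplex.mappingCone.mapHomologicalComplexIso α (tensR O M))
    (acyc_tw_of_acyc_of_isKFlat _ hc hk M)

end Termwise

end Groth.Agent.Lib.Helper12.KFlat
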