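import Groth.Agent.Lib.Helper12.KFlat22

set_option autoImplicit false
universe u
open CategoryTheory CategoryTheory.Limits

namespace Groth.Agent.Lib.Helper12.KFlat

open ModSite Groth.Agent.Lib.Helper42.Flat Groth.Agent.Lib.Helper42.Flat2
  Groth.Agent.Lib.Helper42.TensorColim Groth.Agent.Lib.Helper42.FlatCx
open HomologicalComplex

variable {C : Type u} [SmallCategory C] {J : GrothendieckTopology C} {O : Sheaf J CommRingCat.{u}}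

section AssocNat

variable {K₁ K₁' : CochainComplex (Mod O) ℤ} (φ : K₁ ⟶ K₁') (K₂ K₃ : CochainComplex (Mod O) ℤ)

noncomputable abbrev TmapL (K₂ : CochainComplex (Mod O) ℤ) : T K₁ K₂ ⟶ T K₁' K₂ :=
  mapBifunctorMap φ (𝟙 K₂) (tensorBi O) (ComplexShape.up ℤ)

theorem ιT_TmapL (i₁ i₂ j : ℤ) (h : i₁ + i₂ = j) :
    ιT K₁ K₂ i₁ i₂ j h ≫ (TmapL φ K₂).f j =
      ((tensorBi O).map (φ.f i₁)).app (K₂.X i₂) ≫ ιT K₁' K₂ i₁ i₂ j h := by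
  have := ι_mapBifunctorMap φ (𝟙 K₂) (tensorBi O) (ComplexShape.up ℤ) i₁ i₂ j h
  rw [HomologicalComplex.id_f, CategoryTheory.Functor.map_id, Category.id_comp] at this
  exact this

set_option maxHeartbeats 1000000 in
theorem ι₁₂_eq' (i₁ i₂ i₃ j : ℤ)
    (h : ComplexShape.r (ComplexShape.up ℤ) (ComplexShape.up ℤ) (ComplexShape.up ℤ)
      (ComplexShape.up ℤ) (ComplexShape.up ℤ) (i₁, i₂, i₃) = j) (h' : (i₁ + i₂) + i₃ = j) :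
    mapBifunctor₁₂.ι (tensorBi O) (tensorBi O) K₁ K₂ K₃ (ComplexShape.up ℤ) (ComplexShape.up ℤ)
        i₁ i₂ i₃ j h =
      ((tensorBi O).map (ιT K₁ K₂ i₁ i₂ (i₁ + i₂) rfl)).app (K₃.X i₃) ≫
        ιT (T K₁ K₂) K₃ (i₁ + i₂) i₃ j h' :=
  mapBifunctor₁₂.ι_eq (tensorBi O) (tensorBi O) K₁ K₂ K₃ (ComplexShape.up ℤ)
      (ComplexShape.up ℤ) i₁ i₂ i₃ (i₁ + i₂) j rfl h'

set_option maxHeartbeats 1000000 in
theorem ι₂₃_eq' (i₁ i₂ i₃ j : ℤ)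
    (h : ComplexShape.r (ComplexShape.up ℤ) (ComplexShape.up ℤ) (ComplexShape.up ℤ)
      (ComplexShape.up ℤ) (ComplexShape.up ℤ) (i₁, i₂, i₃) = j) (h' : i₁ + (i₂ + i₃) = j) :
    mapBifunctor₂₃.ι (tensorBi O) (tensorBi O) K₁ K₂ K₃ (ComplexShape.up ℤ) (ComplexShape.up ℤ)
        (ComplexShape.up ℤ) i₁ i₂ i₃ j h =
      ((tensorBi O).obj (K₁.X i₁)).map (ιT K₂ K₃ i₂ i₃ (i₂ + i₃) rfl) ≫
        ιT K₁ (T K₂ K₃) i₁ (i₂ + i₃) j h' :=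
  mapBifunctor₂₃.ι_eq (tensorBi O) (tensorBi O) K₁ K₂ K₃ (ComplexShape.up ℤ)
      (ComplexShape.up ℤ) (ComplexShape.up ℤ) i₁ i₂ i₃ (i₂ + i₃) j rfl h'

set_option maxHeartbeats 1000000 in
theorem ι₁₂_TmapL (i₁ i₂ i₃ j : ℤ)
    (h : ComplexShape.r (ComplexShape.up ℤ) (ComplexShape.up ℤ) (ComplexShape.up ℤ)
      (ComplexShape.up ℤ) (ComplexShape.up ℤ) (i₁, i₂, i₃) = j) :
    mapBifunctor₁₂.ι (tensorBi O) (tensorBi O) K₁ K₂ K₃ (ComplexShape.up ℤ) (ComplexShape.up ℤ)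
        i₁ i₂ i₃ j h ≫ (TmapL (TmapL φ K₂) K₃).f j =
      ((tensorBi O).map (((tensorBi O).map (φ.f i₁)).app (K₂.X i₂))).app (K₃.X i₃) ≫
        mapBifunctor₁₂.ι (tensorBi O) (tensorBi O) K₁' K₂ K₃ (ComplexShape.up ℤ)
          (ComplexShape.up ℤ) i₁ i₂ i₃ j h := by
  have h' : (i₁ + i₂) + i₃ = j := h
  rw [ι₁₂_eq' K₂ K₃ i₁ i₂ i₃ j h h', ι₁₂_eq' K₂ K₃ i₁ i₂ i₃ j h h', Category.assoc]
  have e1 := ιT_TmapL (TmapL φ K₂) K₃ (i₁ + i₂) i₃ j h'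
  have e2 := ιT_TmapL φ K₂ i₁ i₂ (i₁ + i₂) rfl
  rw [e1, ← Category.assoc, ← NatTrans.comp_app, ← Functor.map_comp, e2, Functor.map_comp,
    NatTrans.comp_app, Category.assoc]

set_option maxHeartbeats 1000000 in
theorem ι₂₃_TmapL (i₁ i₂ i₃ j : ℤ)
    (h : ComplexShape.r (ComplexShape.up ℤ) (ComplexShape.up ℤ) (ComplexShape.up ℤ)
      (ComplexShape.up ℤ) (ComplexShape.up ℤ) (i₁, i₂, i₃) = j) :
    mapBifunctor₂₃.ι (tensorBi O) (tensorBi O) K₁ K₂ K₃ (ComplexShape.up ℤ) (ComplexShape.up ℤ)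
        (ComplexShape.up ℤ) i₁ i₂ i₃ j h ≫ (TmapL φ (T K₂ K₃)).f j =
      ((tensorBi O).map (φ.f i₁)).app (((tensorBi O).obj (K₂.X i₂)).obj (K₃.X i₃)) ≫
        mapBifunctor₂₃.ι (tensorBi O) (tensorBi O) K₁' K₂ K₃ (ComplexShape.up ℤ)
          (ComplexShape.up ℤ) (ComplexShape.up ℤ) i₁ i₂ i₃ j h := by
  have h' : i₁ + (i₂ + i₃) = j := by
    have : (i₁ + i₂) + i₃ = j := h
    omega
  rw [ι₂₃_eq' K₂ K₃ i₁ i₂ i₃ j h h', ι₂₃_eq' K₂ K₃ i₁ i₂ i₃ j h h', Category.assoc]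
  have e1 := ιT_TmapL φ (T K₂ K₃) i₁ (i₂ + i₃) j h'
  have nat := ((tensorBi O).map (φ.f i₁)).naturality (ιT K₂ K₃ i₂ i₃ (i₂ + i₃) rfl)
  rw [e1, ← Category.assoc, nat, Category.assoc]

end AssocNat

end Groth.Agent.Lib.Helper12.KFlat
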