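import Groth.Agent.Lib.Helper12.KFlat23

set_option autoImplicit false
universe u
open CategoryTheory CategoryTheory.Limits

namespace Groth.Agent.Lib.Helper12.KFlat

open ModSite Groth.Agent.Lib.Helper42.Flat Groth.Agent.Lib.Helper42.Flat2
  Groth.Agent.Lib.Helper42.TensorColim Groth.Agent.Lib.Helper42.FlatCx
open HomologicalComplex

variable {C : Type u} [SmallCategory C] {J : GrothendieckTopology C} {O : Sheaf J CommRingCat.{u}}

section AssocNat2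

noncomputable def assocT (K₁ K₂ K₃ : CochainComplex (Mod O) ℤ) :
    T (T K₁ K₂) K₃ ≅ T K₁ (T K₂ K₃) :=
  mapBifunctorAssociator (assocTri O) K₁ K₂ K₃ (ComplexShape.up ℤ) (ComplexShape.up ℤ)
    (ComplexShape.up ℤ)

theorem assocT_hom_f (K₁ K₂ K₃ : CochainComplex (Mod O) ℤ) (j : ℤ) :
    (assocT K₁ K₂ K₃).hom.f j =
      (mapBifunctorAssociatorX (assocTri O) K₁ K₂ K₃ (ComplexShape.up ℤ) (ComplexShape.up ℤ)
        (ComplexShape.up ℤ) j).hom := rfl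

variable {K₁ K₁' : CochainComplex (Mod O) ℤ} (φ : K₁ ⟶ K₁') (K₂ K₃ : CochainComplex (Mod O) ℤ)

set_option maxHeartbeats 1000000 in
theorem assocT_naturality₁ :
    TmapL (TmapL φ K₂) K₃ ≫ (assocT K₁' K₂ K₃).hom =
      (assocT K₁ K₂ K₃).hom ≫ TmapL φ (T K₂ K₃) := by
  refine HomologicalComplex.hom_ext _ _ (fun j => ?_)
  rw [HomologicalComplex.comp_f, HomologicalComplex.comp_f, assocT_hom_f, assocT_hom_f]
  refine mapBifunctor₁₂.hom_ext (F₁₂ := tensorBi O) (G := tensorBi O) (K₁ := K₁) (K₂ := K₂)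
    (K₃ := K₃) (c₁₂ := ComplexShape.up ℤ) (c₄ := ComplexShape.up ℤ) (fun i₁ i₂ i₃ h => ?_)
  have nat : ((tensorBi O).map (((tensorBi O).map (φ.f i₁)).app (K₂.X i₂))).app (K₃.X i₃) ≫
      (((assocTri O).hom.app (K₁'.X i₁)).app (K₂.X i₂)).app (K₃.X i₃) =
      (((assocTri O).hom.app (K₁.X i₁)).app (K₂.X i₂)).app (K₃.X i₃) ≫
        ((tensorBi O).map (φ.f i₁)).app (((tensorBi O).obj (K₂.X i₂)).obj (K₃.X i₃)) :=
    NatTrans.naturality_app_app (assocTri O).hom (φ.f i₁) (K₂.X i₂) (K₃.X i₃)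
  have e1 := ι₁₂_TmapL φ K₂ K₃ i₁ i₂ i₃ j h
  have e2 := ι_mapBifunctorAssociatorX_hom (assocTri O) K₁' K₂ K₃ (ComplexShape.up ℤ)
    (ComplexShape.up ℤ) (ComplexShape.up ℤ) i₁ i₂ i₃ j h
  have e2' := ι_mapBifunctorAssociatorX_hom (assocTri O) K₁ K₂ K₃ (ComplexShape.up ℤ)
    (ComplexShape.up ℤ) (ComplexShape.up ℤ) i₁ i₂ i₃ j h
  have e3 := ι₂₃_TmapL φ K₂ K₃ i₁ i₂ i₃ j h
  refine (Category.assoc _ _ _).symm.trans ?_
  refine (congrArg (fun t => t ≫ (mapBifunctorAssociatorX (assocTri O) K₁' K₂ K₃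
    (ComplexShape.up ℤ) (ComplexShape.up ℤ) (ComplexShape.up ℤ) j).hom) e1).trans ?_
  refine (Category.assoc _ _ _).trans ?_
  refine (congrArg (fun t => ((tensorBi O).map (((tensorBi O).map (φ.f i₁)).app (K₂.X i₂))).app
    (K₃.X i₃) ≫ t) e2).trans ?_
  refine (Category.assoc _ _ _).symm.trans ?_
  refine (congrArg (fun t => t ≫ mapBifunctor₂₃.ι (tensorBi O) (tensorBi O) K₁' K₂ K₃
    (ComplexShape.up ℤ) (ComplexShape.up ℤ) (ComplexShape.up ℤ) i₁ i₂ i₃ j h) nat).trans ?_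
  refine (Category.assoc _ _ _).trans ?_
  refine (congrArg (fun t => (((assocTri O).hom.app (K₁.X i₁)).app (K₂.X i₂)).app (K₃.X i₃) ≫ t)
    e3.symm).trans ?_
  refine (Category.assoc _ _ _).symm.trans ?_
  refine (congrArg (fun t => t ≫ (TmapL φ (T K₂ K₃)).f j) e2'.symm).trans ?_
  exact Category.assoc _ _ _

end AssocNat2

end Groth.Agent.Lib.Helper12.KFlat
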