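import Groth.Agent.Lib.Helper12.LDer2

set_option autoImplicit false
open CategoryTheory CategoryTheory.Limits Opposite

namespace Groth.Agent.Lib.Helper12.LDer

universe v₁ v₂ v₃ v₄ u₁ u₂ u₃ u₄

section OpKan2

variable {C : Type u₁} {D : Type u₂} {H : Type u₃} [Category.{v₁} C] [Category.{v₂} D]
  [Category.{v₃} H]

theorem isRightKanExtension_of_op (F' : D ⥤ H) {L : C ⥤ D} {F : C ⥤ H} (α : L ⋙ F' ⟶ F)
    [F'.op.IsLeftKanExtension (opNat α)] : F'.IsRightKanExtension α := by
  refine ⟨⟨IsTerminal.ofUniqueHom (fun E => CostructuredArrow.homMk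
    (NatTrans.removeOp (F'.op.descOfIsLeftKanExtension (opNat α) E.left.op (opNat E.hom))) ?_) ?_⟩⟩
  · ext X
    apply Quiver.Hom.op_inj
    exact F'.op.descOfIsLeftKanExtension_fac_app (opNat α) E.left.op (opNat E.hom) (op X)
  · intro E m
    apply CostructuredArrow.ext
    have hm := CostructuredArrow.w m
    have h2 : NatTrans.op m.left =
        F'.op.descOfIsLeftKanExtension (opNat α) E.left.op (opNat E.hom) := by
      apply F'.op.hom_ext_of_isLeftKanExtension (opNat α)
      rw [F'.op.descOfIsLeftKanExtension_fac (opNat α)]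
      ext X
      apply Quiver.Hom.unop_inj
      exact congrArg (fun t => t.app X.unop) hm
    ext Y
    apply Quiver.Hom.op_inj
    exact congrArg (fun t => t.app (op Y)) h2

end OpKan2

section LeftDerives2

variable {C₁ : Type u₁} {C₂ : Type u₂} {H : Type u₃} {D₂ : Type u₄}
  [Category.{v₁} C₁] [Category.{v₂} C₂] [Category.{v₃} H] [Category.{v₄} D₂]
  {W₁ : MorphismProperty C₁} {W₂ : MorphismProperty C₂}
  (Φ : LocalizerMorphism W₁ W₂) [Φ.IsLeftDerivabilityStructure] {F : C₂ ⥤ H}
  (h : Φ.Derives F) {L₂ : C₂ ⥤ D₂} [L₂.IsLocalization W₂] {LF : D₂ ⥤ H}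
  (α : L₂ ⋙ LF ⟶ F)

include h in
theorem isLeftDerivedFunctor_of_isIso (hα : ∀ X₁ : C₁, IsIso (α.app (Φ.functor.obj X₁))) :
    LF.IsLeftDerivedFunctor α W₂ := by
  have hop : Φ.op.Derives F.op := by
    intro X Y f hf
    have h1 : IsIso (F.map (Φ.functor.map f.unop)) := h f.unop hf
    exact inferInstanceAs (IsIso ((F.map (Φ.functor.map f.unop)).op))
  have h3 : LF.op.IsRightDerivedFunctor (opNat α) W₂.op :=
    hop.isRightDerivedFunctor_of_isIso (opNat α) (fun X => by
      have := hα X.unop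
      exact inferInstanceAs (IsIso ((α.app (Φ.functor.obj X.unop)).op)))
  have h4 : LF.op.IsLeftKanExtension (opNat α) := h3.isLeftKanExtension
  exact ⟨isRightKanExtension_of_op LF α⟩

end LeftDerives2

section Inverts

variable {C : Type u₁} {H : Type u₃} {D : Type u₄}
  [Category.{v₁} C] [Category.{v₃} H] [Category.{v₄} D]
  {W : MorphismProperty C} [W.ContainsIdentities] {F : C ⥤ H} (hF : W.IsInvertedBy F)
  {L : C ⥤ D} [L.IsLocalization W] {LF : D ⥤ H} (α : L ⋙ LF ⟶ F) [LF.IsLeftDerivedFunctor α W]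

include hF in
theorem isIso_app_of_inverts (X : C) : IsIso (α.app X) :=
  isIso_of_isLeftDerivedFunctor (LocalizerMorphism.id W) hF α X

end Inverts

end Groth.Agent.Lib.Helper12.LDer
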