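import Groth.Agent.Lib.Helper12.KFlat24
import Groth.Agent.Lib.Helper12.LDer3

set_option autoImplicit false
universe u
open CategoryTheory CategoryTheory.Limits

namespace Groth.Agent.Lib.Helper12.KFlat

open ModSite Groth.Agent.Lib.Helper42.Flat Groth.Agent.Lib.Helper42.Flat2
  Groth.Agent.Lib.Helper42.TensorColim Groth.Agent.Lib.Helper42.FlatCx
open HomologicalComplex

variable {C : Type u} [SmallCategory C] {J : GrothendieckTopology C} {O : Sheaf J CommRingCat.{u}}

section RightTensor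

theorem acyc_tensor_right_of_acyc_of_isKFlat (A : CochainComplex (Mod O) ℤ) (hA : Acyc A)
    (hK : IsKFlat A) (F : CochainComplex (Mod O) ℤ) : Acyc (((tensorCx O).obj A).obj F) :=
  acyc_of_iso (tensorCxSymmIso F A) (acyc_tensor_of_acyc_of_isKFlat A hA hK F)

variable (K : CochainComplex (Mod O) ℤ)

theorem quasiIso_tensor_shift' {F F' : CochainComplex (Mod O) ℤ} (φ : F ⟶ F')
    [QuasiIso φ] (hF : IsKFlat F) (hF' : IsKFlat F') :
    QuasiIso (((tensorCx O).flip.obj K).map (φ⟦(1 : ℤ)⟧')) := by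
  have hcomm : φ ≫ 𝟙 F' = φ ≫ 𝟙 F' := rfl
  let tm := CochainComplex.mappingCone.triangleMap φ (𝟙 F') φ (𝟙 F') hcomm
  let ψ : CochainComplex.mappingCone.triangleRotateShortComplex φ ⟶
      CochainComplex.mappingCone.triangleRotateShortComplex (𝟙 F') :=
    { τ₁ := 𝟙 F'
      τ₂ := CochainComplex.mappingCone.map φ (𝟙 F') φ (𝟙 F') hcomm
      τ₃ := φ⟦(1 : ℤ)⟧'
      comm₁₂ := tm.comm₂.symm
      comm₂₃ := tm.comm₃.symm }
  have hac₁ : Acyc (((tensorCx O).obj (CochainComplex.mappingCone φ)).obj K) :=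
    acyc_tensor_right_of_acyc_of_isKFlat _
      ((acyclic_iff_acyc _).mp ((acyclic_mappingCone_iff φ).mpr inferInstance))
      ((isKFlat_cone φ).1 hF hF') K
  have hac₂ : Acyc (((tensorCx O).obj (CochainComplex.mappingCone (𝟙 F'))).obj K) :=
    acyc_tensor_right_of_acyc_of_isKFlat _
      ((acyclic_iff_acyc _).mp ((acyclic_mappingCone_iff (𝟙 F')).mpr inferInstance))
      ((isKFlat_cone (𝟙 F')).1 hF' hF') K
  have h₁ : QuasiIso ((((tensorCx O).flip.obj K).mapShortComplex.map ψ).τ₁) := by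
    change QuasiIso (((tensorCx O).flip.obj K).map (𝟙 F'))
    rw [CategoryTheory.Functor.map_id]
    infer_instance
  have h₂ : QuasiIso ((((tensorCx O).flip.obj K).mapShortComplex.map ψ).τ₂) :=
    quasiIso_of_acyc _ hac₁ hac₂
  exact HomologicalComplex.HomologySequence.quasiIso_τ₃
    (((tensorCx O).flip.obj K).mapShortComplex.map ψ)
    (shortExact_cone₁ K φ) (shortExact_cone₁ K (𝟙 F')) h₁ h₂

theorem quasiIso_tensor_right' {F F' : CochainComplex (Mod O) ℤ} (φ : F ⟶ F')
    [QuasiIso φ] (hF : IsKFlat F) (hF' : IsKFlat F') :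
    QuasiIso (((tensorCx O).map φ).app K) := by
  have h := quasiIso_tensor_shift' K (φ⟦(-1 : ℤ)⟧') (isKFlat_shift F hF (-1))
    (isKFlat_shift F' hF' (-1))
  let e := shiftFunctorCompIsoId (CochainComplex (Mod O) ℤ) (-1 : ℤ) 1 (by norm_num)
  have nat : (φ⟦(-1 : ℤ)⟧')⟦(1 : ℤ)⟧' ≫ e.hom.app F' = e.hom.app F ≫ φ := e.hom.naturality φ
  have hT : ((tensorCx O).flip.obj K).map ((φ⟦(-1 : ℤ)⟧')⟦(1 : ℤ)⟧') ≫
      ((tensorCx O).flip.obj K).map (e.hom.app F') =
      ((tensorCx O).flip.obj K).map (e.hom.app F) ≫ ((tensorCx O).flip.obj K).map φ := by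
    rw [← CategoryTheory.Functor.map_comp, nat, CategoryTheory.Functor.map_comp]
  have hq : QuasiIso (((tensorCx O).flip.obj K).map (e.hom.app F) ≫
      ((tensorCx O).flip.obj K).map φ) := by
    rw [← hT]
    infer_instance
  exact quasiIso_of_comp_left (((tensorCx O).flip.obj K).map (e.hom.app F))
    (((tensorCx O).flip.obj K).map φ)

end RightTensor

section AssocFunctor

variable (K L : CochainComplex (Mod O) ℤ)

noncomputable abbrev RT (E : CochainComplex (Mod O) ℤ) :
    CochainComplex (Mod O) ℤ ⥤ CochainComplex (Mod O) ℤ := (tensorCx O).flip.obj E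

theorem RT_map (E : CochainComplex (Mod O) ℤ) {F F' : CochainComplex (Mod O) ℤ} (φ : F ⟶ F') :
    (RT E).map φ = TmapL φ E := rfl

theorem RT_comp_map {F F' : CochainComplex (Mod O) ℤ} (φ : F ⟶ F') :
    (RT K ⋙ RT L).map φ = TmapL (TmapL φ K) L := rfl

set_option maxHeartbeats 1000000 in
noncomputable def assocNat : RT K ⋙ RT L ≅ RT (T K L) :=
  NatIso.ofComponents (fun F => assocT F K L) (fun {F F'} φ => by
    rw [RT_comp_map, RT_map]
    exact assocT_naturality₁ φ K L)

end AssocFunctor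

end Groth.Agent.Lib.Helper12.KFlat
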