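import Groth.Agent.Lib.Helper12.KFlat6

set_option autoImplicit false
universe u
open CategoryTheory CategoryTheory.Limits

namespace Groth.Agent.Lib.Helper12.KFlat

open ModSite Groth.Agent.Lib.Helper42.Flat Groth.Agent.Lib.Helper42.Flat2
  Groth.Agent.Lib.Helper42.TensorColim Groth.Agent.Lib.Helper42.FlatCx

variable {C : Type u} [SmallCategory C] {J : GrothendieckTopology C} {O : Sheaf J CommRingCat.{u}}

theorem coc_ι_map_left {F F' : CochainComplex (Mod O) ℤ} (φ : F ⟶ F')
    (K : CochainComplex (Mod O) ℤ) (n : ℤ) (j : Discrete (fib n)) :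
    (coc F K n).ι.app j ≫ (((tensorCx O).map φ).app K).f n =
      ((tensorBi O).map (φ.f j.as.1.1)).app (K.X j.as.1.2) ≫ (coc F' K n).ι.app j := by
  obtain ⟨⟨⟨p, q⟩, hpq⟩⟩ := j
  have := HomologicalComplex.ι_mapBifunctorMap φ (𝟙 K) (tensorBi O) (ComplexShape.up ℤ) p q n hpq
  simp only [HomologicalComplex.id_f, CategoryTheory.Functor.map_id] at this
  exact this

section GeneralShape

variable {Λ : Type u} [SmallCategory Λ]

instance preservesColimitsOfShape_tensR (M : Mod O) :
    PreservesColimitsOfShape Λ ((tensorBi O).flip.obj M) :=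
  (inferInstance : PreservesColimitsOfSize.{u, u} (tensR O M)).preservesColimitsOfShape

theorem isColimit_eval_tensorCx_flip (E : CochainComplex (Mod O) ℤ)
    (K : Λ ⥤ CochainComplex (Mod O) ℤ) (c : Cocone K) (hc : IsColimit c) (j : ℤ) :
    Nonempty (IsColimit ((HomologicalComplex.eval (Mod O) (ComplexShape.up ℤ) j).mapCocone
      (((tensorCx O).flip.obj E).mapCocone c))) := by
  refine isColimit_mapCocone_of_cofans K c hc
    ((tensorCx O).flip.obj E ⋙ HomologicalComplex.eval (Mod O) (ComplexShape.up ℤ) j)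
    (fun i : fib j => HomologicalComplex.eval (Mod O) (ComplexShape.up ℤ) i.1.1 ⋙
      (tensorBi O).flip.obj (E.X i.1.2))
    (fun X i => (coc X E j).ι.app ⟨i⟩) ?_ ?_ ?_
  · intro X Y f i
    exact coc_ι_map_left f E j ⟨i⟩
  · intro X Z f g h
    exact (isColimitCoc X E j).hom_ext (fun ⟨i⟩ => h i)
  · intro X Z φ
    exact ⟨(isColimitCoc X E j).desc ⟨Z, Discrete.natTrans (fun ⟨i⟩ => φ i)⟩,
      fun i => (isColimitCoc X E j).fac _ ⟨i⟩⟩

theorem isColimit_tensorCx_flip (E : CochainComplex (Mod O) ℤ)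
    (K : Λ ⥤ CochainComplex (Mod O) ℤ) (c : Cocone K) (hc : IsColimit c) :
    Nonempty (IsColimit (((tensorCx O).flip.obj E).mapCocone c)) :=
  ⟨HomologicalComplex.isColimitOfEval _ _
    (fun j => (isColimit_eval_tensorCx_flip E K c hc j).some)⟩

end GeneralShape

end Groth.Agent.Lib.Helper12.KFlat
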