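import Groth.Agent.Lib.Helper12.KFlat2
import Groth.Agent.Lib.Helper42.FlatCx

set_option autoImplicit false
universe u
open CategoryTheory CategoryTheory.Limits

namespace Groth.Agent.Lib.Helper12.KFlat

open ModSite Groth.Agent.Lib.Helper42.Flat Groth.Agent.Lib.Helper42.Flat2
  Groth.Agent.Lib.Helper42.TensorColim Groth.Agent.Lib.Helper42.FlatCx

variable {C : Type u} [SmallCategory C] {J : GrothendieckTopology C} {O : Sheaf J CommRingCat.{u}}

section Single

theorem isIso_coc_ι (F K : CochainComplex (Mod O) ℤ) (n : ℤ) (i₀ : fib n)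
    (hz : ∀ i : fib n, i ≠ i₀ → IsZero (((tensorBi O).obj (F.X i.1.1)).obj (K.X i.1.2))) :
    IsIso ((coc F K n).ι.app ⟨i₀⟩) := by
  classical
  have hepi : Epi ((coc F K n).ι.app ⟨i₀⟩) := by
    constructor
    intro Z f g h
    apply (isColimitCoc F K n).hom_ext
    rintro ⟨i⟩
    by_cases hi : i = i₀
    · subst hi; exact h
    · exact (hz i hi).eq_of_src _ _
  let s : Cocone (Discrete.functor
      (fun i : fib n => ((tensorBi O).obj (F.X i.1.1)).obj (K.X i.1.2))) :=
    { pt := ((tensorBi O).obj (F.X i₀.1.1)).obj (K.X i₀.1.2)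
      ι := Discrete.natTrans (fun ⟨i⟩ =>
        if h : i = i₀ then eqToHom (by subst h; rfl) else 0) }
  have hr : (coc F K n).ι.app ⟨i₀⟩ ≫ (isColimitCoc F K n).desc s = 𝟙 _ := by
    rw [(isColimitCoc F K n).fac s ⟨i₀⟩]
    simp [s]
  have hmono : Mono ((coc F K n).ι.app ⟨i₀⟩) := mono_of_mono_fac hr
  exact isIso_of_mono_of_epi _

variable (F K : CochainComplex (Mod O) ℤ) (a : ℤ)

noncomputable abbrev T : CochainComplex (Mod O) ℤ :=
  HomologicalComplex.mapBifunctor F K (tensorBi O) (ComplexShape.up ℤ)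

noncomputable abbrev ιT (p q n : ℤ) (h : p + q = n) :
    ((tensorBi O).obj (F.X p)).obj (K.X q) ⟶ (T F K).X n :=
  HomologicalComplex.ιMapBifunctor F K (tensorBi O) (ComplexShape.up ℤ) p q n h

theorem isIso_ιT (hz : ∀ q, q ≠ a → IsZero (K.X q)) (p n : ℤ) (h : p + a = n) :
    IsIso (ιT F K p a n h) := by
  have := isIso_coc_ι F K n ⟨(p, a), h⟩ (by
    rintro ⟨⟨p', q'⟩, hpq'⟩ hne
    have hq : q' ≠ a := by
      intro hq
      apply hne
      subst hq
      have hp : p' = p := by
        have h1 : p' + q' = n := hpq'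
        omega
      subst hp
      rfl
    exact Functor.map_isZero ((tensorBi O).obj (F.X p')) (hz q' hq))
  exact this

theorem ιT_d (hz : ∀ q, q ≠ a → IsZero (K.X q)) (p p' n n' : ℤ) (h : p + a = n)
    (h' : p' + a = n') (hp : p + 1 = p') :
    ιT F K p a n h ≫ (T F K).d n n' =
      ((tensorBi O).map (F.d p p')).app (K.X a) ≫ ιT F K p' a n' h' := by
  have hd : (T F K).d n n' = HomologicalComplex.mapBifunctor.D₁ F K (tensorBi O) _ n n' +
      HomologicalComplex.mapBifunctor.D₂ F K (tensorBi O) _ n n' := rfl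
  rw [hd, Preadditive.comp_add, HomologicalComplex.mapBifunctor.ι_D₁,
    HomologicalComplex.mapBifunctor.ι_D₂]
  have h2 : HomologicalComplex.mapBifunctor.d₂ F K (tensorBi O) (ComplexShape.up ℤ) p a n' = 0 := by
    rw [HomologicalComplex.mapBifunctor.d₂_eq' F K (tensorBi O) (ComplexShape.up ℤ) p
      (show (ComplexShape.up ℤ).Rel a (a + 1) from rfl) n']
    have : K.d a (a + 1) = 0 := (hz (a + 1) (by omega)).eq_of_tgt _ _
    rw [this, Functor.map_zero, zero_comp, smul_zero]
  rw [h2, add_zero,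
    HomologicalComplex.mapBifunctor.d₁_eq F K (tensorBi O) (ComplexShape.up ℤ)
      (show (ComplexShape.up ℤ).Rel p p' from hp) a n' h']
  simp


theorem acyc_T_of_concentrated (hz : ∀ q, q ≠ a → IsZero (K.X q)) (hfl : IsFlat (K.X a))
    (hF : Acyc F) : Acyc (T F K) := by
  rw [acyc_iff_sc'] at hF ⊢
  intro j
  have hex := hF (j - a)
  have : PreservesFiniteLimits (tensR O (K.X a)) := (isFlat_iff O _).mp hfl
  have hex' := hex.map (tensR O (K.X a))
  have h1 : j - a - 1 + a = j - 1 := by omega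
  have h2 : j - a + a = j := by omega
  have h3 : j - a + 1 + a = j + 1 := by omega
  have i1 := isIso_ιT F K a hz (j - a - 1) (j - 1) h1
  have i2 := isIso_ιT F K a hz (j - a) j h2
  have i3 := isIso_ιT F K a hz (j - a + 1) (j + 1) h3
  let e : (F.sc' (j - a - 1) (j - a) (j - a + 1)).map (tensR O (K.X a)) ≅
      (T F K).sc' (j - 1) j (j + 1) :=
    ShortComplex.isoMk (@asIso _ _ _ _ (ιT F K (j - a - 1) a (j - 1) h1) i1)
      (@asIso _ _ _ _ (ιT F K (j - a) a j h2) i2)
      (@asIso _ _ _ _ (ιT F K (j - a + 1) a (j + 1) h3) i3)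
      (ιT_d F K a hz (j - a - 1) (j - a) (j - 1) j h1 h2 (by omega))
      (ιT_d F K a hz (j - a) (j - a + 1) j (j + 1) h2 h3 (by omega))
  exact ShortComplex.exact_of_iso e hex'

theorem isKFlat_of_concentrated (hz : ∀ q, q ≠ a → IsZero (K.X q)) (hfl : IsFlat (K.X a)) :
    IsKFlat K := fun F hF => acyc_T_of_concentrated F K a hz hfl hF

end Single

end Groth.Agent.Lib.Helper12.KFlat
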