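import Groth.Agent.Lib.Helper12.KFlat3
import Groth.Agent.S9057
import Mathlib.Algebra.Homology.ShortComplex.Abelian

set_option autoImplicit false
universe u
open CategoryTheory CategoryTheory.Limits

namespace Groth.Agent.Lib.Helper12.KFlat

open ModSite Groth.Agent.Lib.Helper42.Flat Groth.Agent.Lib.Helper42.Flat2
  Groth.Agent.Lib.Helper42.TensorColim Groth.Agent.Lib.Helper42.FlatCx

section KernelTerms

universe v₂ u₂

variable {A : Type u₂} [Category.{v₂} A] [Abelian A]
variable {K L : CochainComplex A ℤ} (ψ : K ⟶ L)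

theorem kernel_ι_f_comp (n : ℤ) : (kernel.ι ψ).f n ≫ ψ.f n = 0 := by
  rw [← HomologicalComplex.comp_f, kernel.condition, HomologicalComplex.zero_f]

noncomputable def isLimitKerForkEval (n : ℤ) :
    IsLimit (KernelFork.ofι ((kernel.ι ψ).f n) (kernel_ι_f_comp ψ n)) :=
  isLimitOfHasKernelOfPreservesLimit (HomologicalComplex.eval A (ComplexShape.up ℤ) n) ψ

theorem isIso_kernel_ι_f (n : ℤ) (h : ψ.f n = 0) : IsIso ((kernel.ι ψ).f n) :=
  KernelFork.IsLimit.isIso_ι _ (isLimitKerForkEval ψ n) h

theorem isZero_kernel_X (n : ℤ) (hm : Mono (ψ.f n)) : IsZero ((kernel ψ).X n) := by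
  have h0 : (kernel.ι ψ).f n = 0 := by
    rw [← cancel_mono (ψ.f n), zero_comp, kernel_ι_f_comp]
  have hmono : Mono ((kernel.ι ψ).f n) := inferInstance
  rw [IsZero.iff_id_eq_zero, ← cancel_mono ((kernel.ι ψ).f n), h0, comp_zero, zero_comp]

theorem isZero_kernel_X_of_isZero (n : ℤ) (hz : IsZero (K.X n)) : IsZero ((kernel ψ).X n) := by
  have hmono : Mono ((kernel.ι ψ).f n) := inferInstance
  rw [IsZero.iff_id_eq_zero, ← cancel_mono ((kernel.ι ψ).f n)]
  exact hz.eq_of_tgt _ _

end KernelTerms



section Cut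

universe v₂ u₂

variable {A : Type u₂} [Category.{v₂} A] [Abelian A]
variable (K : CochainComplex A ℤ) (c : ℤ)

noncomputable def cutCx : CochainComplex A ℤ where
  X n := K.X n
  d n m := if m ≤ c then K.d n m else 0
  shape n m h := by
    split_ifs
    · exact K.shape n m h
    · rfl
  d_comp_d' n m k _ _ := by
    by_cases hk : k ≤ c
    · by_cases hm : m ≤ c
      · simp [hk, hm]
      · simp [hm]
    · simp [hk]

noncomputable def cutπ : K ⟶ cutCx K c where
  f n := if n ≤ c then 𝟙 (K.X n) else 0
  comm' n m hnm := by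
    have hnm' : n + 1 = m := hnm
    change (if n ≤ c then 𝟙 (K.X n) else 0) ≫ (if m ≤ c then K.d n m else 0) =
      K.d n m ≫ (if m ≤ c then 𝟙 (K.X m) else 0)
    by_cases hm : m ≤ c
    · have hn : n ≤ c := by omega
      rw [if_pos hm, if_pos hn, if_pos hm, Category.id_comp, Category.comp_id]
    · rw [if_neg hm, if_neg hm, comp_zero, comp_zero]

theorem cutπ_f_of_le (n : ℤ) (h : n ≤ c) : (cutπ K c).f n = 𝟙 (K.X n) := by
  change (if n ≤ c then 𝟙 (K.X n) else 0) = _
  rw [if_pos h]

theorem cutπ_f_of_lt (n : ℤ) (h : c < n) : (cutπ K c).f n = 0 := by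
  have : ¬ n ≤ c := by omega
  change (if n ≤ c then 𝟙 (K.X n) else 0) = _
  rw [if_neg this]
  rfl

noncomputable abbrev sub : CochainComplex A ℤ := kernel (cutπ K c)

noncomputable abbrev subι : sub K c ⟶ K := kernel.ι (cutπ K c)

theorem isZero_sub_X (n : ℤ) (h : n ≤ c) : IsZero ((sub K c).X n) := by
  apply isZero_kernel_X
  rw [cutπ_f_of_le K c n h]
  exact (inferInstance : Mono (𝟙 (K.X n)))

theorem isIso_subι_f (n : ℤ) (h : c < n) : IsIso ((subι K c).f n) :=
  isIso_kernel_ι_f _ n (cutπ_f_of_lt K c n h)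

theorem subι_comp_cutπ (c' : ℤ) (h : c' ≤ c) : subι K c ≫ cutπ K c' = 0 := by
  apply HomologicalComplex.hom_ext
  intro n
  rw [HomologicalComplex.comp_f, HomologicalComplex.zero_f]
  by_cases hn : n ≤ c'
  · exact (isZero_sub_X K c n (by omega)).eq_of_src _ _
  · rw [cutπ_f_of_lt K c' n (by omega), comp_zero]

noncomputable def subMap (c' : ℤ) (h : c' ≤ c) : sub K c ⟶ sub K c' :=
  kernel.lift _ (subι K c) (subι_comp_cutπ K c c' h)

@[reassoc (attr := simp)]
theorem subMap_ι (c' : ℤ) (h : c' ≤ c) : subMap K c c' h ≫ subι K c' = subι K c :=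
  kernel.lift_ι _ _ _

noncomputable def subTower (b : ℤ) : ℕ ⥤ CochainComplex A ℤ where
  obj n := sub K (b - n)
  map {m n} f := subMap K (b - m) (b - n) (by have := leOfHom f; omega)
  map_id n := by
    rw [← cancel_mono (subι K _)]
    simp
  map_comp f g := by
    rw [← cancel_mono (subι K _)]
    simp

noncomputable def subCocone (b : ℤ) : Cocone (subTower K b) where
  pt := K
  ι := { app := fun n => subι K (b - n)
         naturality := fun m n f => by
           dsimp [subTower]
           simp }

theorem isIso_subMap_f (c' : ℤ) (h : c' ≤ c) (n : ℤ) (hn : c < n) :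
    IsIso ((subMap K c c' h).f n) := by
  have h1 := isIso_subι_f K c n hn
  have h2 := isIso_subι_f K c' n (by omega)
  have : (subMap K c c' h).f n ≫ (subι K c').f n = (subι K c).f n := by
    rw [← HomologicalComplex.comp_f, subMap_ι]
  exact IsIso.of_isIso_fac_right this

noncomputable def isColimitSubCocone (b : ℤ) : IsColimit (subCocone K b) := by
  apply HomologicalComplex.isColimitOfEval
  intro j
  have hev : (subTower K b ⋙ HomologicalComplex.eval A (ComplexShape.up ℤ) j).IsEventuallyConstantFrom
      ((b - j).toNat + 1) := by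
    intro n f
    have hle := leOfHom f
    exact isIso_subMap_f K (b - ((b - j).toNat + 1 : ℕ)) (b - n) (by omega) j (by
      have := Int.self_le_toNat (b - j)
      push_cast
      omega)
  have hiso : IsIso (((HomologicalComplex.eval A (ComplexShape.up ℤ) j).mapCocone
      (subCocone K b)).ι.app ((b - j).toNat + 1)) :=
    isIso_subι_f K _ j (by
      have := Int.self_le_toNat (b - j)
      push_cast
      omega)
  exact hev.isColimitOfIsIso _

end Cut

section Bounded

variable {C : Type u} [SmallCategory C] {J : GrothendieckTopology C} {O : Sheaf J CommRingCat.{u}}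

theorem isKFlat_of_isZero (M : CochainComplex (Mod O) ℤ) (hz : ∀ n, IsZero (M.X n)) : IsKFlat M :=
  isKFlat_of_concentrated M 0 (fun q _ => hz q) (isFlat_of_isZero O _ (hz 0))

theorem isKFlat_of_epi_kernel {M P : CochainComplex (Mod O) ℤ} (π : M ⟶ P)
    (hepi : ∀ n, Epi (π.f n))
    (hP : IsKFlat P) (hPfl : ∀ n, IsFlat (P.X n)) (hker : IsKFlat (kernel π)) : IsKFlat M := by
  let S : ShortComplex (CochainComplex (Mod O) ℤ) :=
    ShortComplex.mk (kernel.ι π) π (kernel.condition π)
  have hS : S.ShortExact := by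
    apply HomologicalComplex.shortExact_of_degreewise_shortExact
    intro n
    exact
      { exact := ShortComplex.exact_of_f_is_kernel _ (isLimitKerForkEval π n)
        mono_f := (inferInstance : Mono ((kernel.ι π).f n))
        epi_g := hepi n }
  exact (Groth.Agent.S9057.result O S hS hPfl).2.1 hker hP

theorem isFlat_single (c : ℤ) (X : Mod O) (hX : IsFlat X) (n : ℤ) :
    IsFlat (((HomologicalComplex.single (Mod O) (ComplexShape.up ℤ) c).obj X).X n) := by
  by_cases h : n = c
  · subst h
    exact isFlat_of_iso O (HomologicalComplex.singleObjXSelf (ComplexShape.up ℤ) n X).symm hX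
  · exact isFlat_of_isZero O _ (HomologicalComplex.isZero_single_obj_X (ComplexShape.up ℤ) c X n h)

theorem isKFlat_single (c : ℤ) (X : Mod O) (hX : IsFlat X) :
    IsKFlat ((HomologicalComplex.single (Mod O) (ComplexShape.up ℤ) c).obj X) :=
  isKFlat_of_concentrated _ c
    (fun q hq => HomologicalComplex.isZero_single_obj_X (ComplexShape.up ℤ) c X q hq)
    (isFlat_of_iso O (HomologicalComplex.singleObjXSelf (ComplexShape.up ℤ) c X).symm hX)

theorem isKFlat_of_bounded (N : ℕ) : ∀ (M : CochainComplex (Mod O) ℤ) (c : ℤ),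
    (∀ n, IsFlat (M.X n)) → (∀ n, n ≤ c → IsZero (M.X n)) →
    (∀ n, c + N < n → IsZero (M.X n)) → IsKFlat M := by
  induction N with
  | zero =>
    intro M c hfl hlo hhi
    apply isKFlat_of_isZero
    intro n
    by_cases h : n ≤ c
    · exact hlo n h
    · exact hhi n (by simp only [Nat.cast_zero, add_zero]; omega)
  | succ N ih =>
    intro M c hfl hlo hhi
    let π : M ⟶ (HomologicalComplex.single (Mod O) (ComplexShape.up ℤ) (c + 1)).obj (M.X (c + 1)) :=
      HomologicalComplex.mkHomToSingle (𝟙 _) (by
        intro i hi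
        have hic : i = c := by
          have : i + 1 = c + 1 := hi
          omega
        exact (hlo i (by omega)).eq_of_src _ _)
    have hπf : π.f (c + 1) = 𝟙 _ ≫ (HomologicalComplex.singleObjXSelf (ComplexShape.up ℤ) (c + 1)
        (M.X (c + 1))).inv := HomologicalComplex.mkHomToSingle_f _ _
    have hπiso : IsIso (π.f (c + 1)) := by rw [hπf]; infer_instance
    have hπ0 : ∀ n, n ≠ c + 1 → π.f n = 0 := fun n hn =>
      (HomologicalComplex.isZero_single_obj_X (ComplexShape.up ℤ) (c + 1) _ n hn).eq_of_tgt _ _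
    have hepi : ∀ n, Epi (π.f n) := by
      intro n
      by_cases hn : n = c + 1
      · subst hn; infer_instance
      · exact ⟨fun g h _ => (HomologicalComplex.isZero_single_obj_X (ComplexShape.up ℤ)
          (c + 1) _ n hn).eq_of_src g h⟩
    apply isKFlat_of_epi_kernel π hepi (isKFlat_single _ _ (hfl _)) (isFlat_single _ _ (hfl _))
    apply ih (kernel π) (c + 1)
    · intro n
      by_cases hn : n = c + 1
      · subst hn
        exact isFlat_of_isZero O _ (isZero_kernel_X π _ inferInstance)
      · have := isIso_kernel_ι_f π n (hπ0 n hn)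
        exact isFlat_of_iso O (asIso ((kernel.ι π).f n)).symm (hfl n)
    · intro n hn
      by_cases hn' : n = c + 1
      · subst hn'
        exact isZero_kernel_X π _ inferInstance
      · exact isZero_kernel_X_of_isZero π n (hlo n (by omega))
    · intro n hn
      exact isZero_kernel_X_of_isZero π n (hhi n (by push_cast; omega))

theorem isKFlat_of_bounded_above (K : CochainComplex (Mod O) ℤ) (b : ℤ)
    (hb : ∀ n, b < n → IsZero (K.X n)) (hfl : ∀ n, IsFlat (K.X n)) : IsKFlat K := by
  refine isKFlat_of_isColimit_nat (subTower K b) (subCocone K b) (isColimitSubCocone K b) ?_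
  intro n
  apply isKFlat_of_bounded n (sub K (b - n)) (b - n)
  · intro m
    by_cases hm : m ≤ b - n
    · exact isFlat_of_isZero O _ (isZero_sub_X K _ m hm)
    · have := isIso_subι_f K (b - n) m (by omega)
      exact isFlat_of_iso O (asIso ((subι K (b - n)).f m)).symm (hfl m)
  · intro m hm
    exact isZero_sub_X K _ m hm
  · intro m hm
    exact isZero_kernel_X_of_isZero _ m (hb m (by omega))

end Bounded

end Groth.Agent.Lib.Helper12.KFlat
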