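import Groth.Agent.Lib.Helper12.KFlat4
import Mathlib.Algebra.Homology.HomologySequenceLemmas
import Mathlib.Algebra.Homology.HomotopyCategory.Acyclic

set_option autoImplicit false
universe u
open CategoryTheory CategoryTheory.Limits

namespace Groth.Agent.Lib.Helper12.KFlat

open ModSite Groth.Agent.Lib.Helper42.Flat Groth.Agent.Lib.Helper42.Flat2
  Groth.Agent.Lib.Helper42.TensorColim Groth.Agent.Lib.Helper42.FlatCx

variable {C : Type u} [SmallCategory C] {J : GrothendieckTopology C} {O : Sheaf J CommRingCat.{u}}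

section FirstVar

variable (K : CochainComplex (Mod O) ℤ) (S : ShortComplex (CochainComplex (Mod O) ℤ))

noncomputable def sc1 (n : ℤ) : ShortComplex (Discrete (fib n) ⥤ Mod O) where
  X₁ := Discrete.functor (fun i : fib n => ((tensorBi O).obj (S.X₁.X i.1.1)).obj (K.X i.1.2))
  X₂ := Discrete.functor (fun i : fib n => ((tensorBi O).obj (S.X₂.X i.1.1)).obj (K.X i.1.2))
  X₃ := Discrete.functor (fun i : fib n => ((tensorBi O).obj (S.X₃.X i.1.1)).obj (K.X i.1.2))
  f := Discrete.natTrans (fun i => ((tensorBi O).map (S.f.f i.as.1.1)).app (K.X i.as.1.2))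
  g := Discrete.natTrans (fun i => ((tensorBi O).map (S.g.f i.as.1.1)).app (K.X i.as.1.2))
  zero := by
    apply NatTrans.ext
    funext ⟨i⟩
    change ((tensorBi O).map (S.f.f i.1.1)).app (K.X i.1.2) ≫
      ((tensorBi O).map (S.g.f i.1.1)).app (K.X i.1.2) = 0
    rw [← NatTrans.comp_app, ← Functor.map_comp, ← HomologicalComplex.comp_f, S.zero,
      HomologicalComplex.zero_f, Functor.map_zero]
    rfl

theorem coc_ι_map₁ {F F' : CochainComplex (Mod O) ℤ} (φ : F ⟶ F') (n : ℤ)
    (j : Discrete (fib n)) :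
    (coc F K n).ι.app j ≫ (((tensorCx O).map φ).app K).f n =
      ((tensorBi O).map (φ.f j.as.1.1)).app (K.X j.as.1.2) ≫ (coc F' K n).ι.app j := by
  obtain ⟨⟨⟨p, q⟩, hpq⟩⟩ := j
  have := HomologicalComplex.ι_mapBifunctorMap φ (𝟙 K) (tensorBi O) (ComplexShape.up ℤ) p q n hpq
  simp only [HomologicalComplex.id_f, CategoryTheory.Functor.map_id, Category.id_comp] at this
  exact this

instance preservesZeroMorphisms_tensorCx_flip_obj :
    ((tensorCx O).flip.obj K).PreservesZeroMorphisms where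
  map_zero F F' := by
    apply HomologicalComplex.hom_ext
    intro n
    apply (isColimitCoc F K n).hom_ext
    intro j
    change (coc F K n).ι.app j ≫ (((tensorCx O).map (0 : F ⟶ F')).app K).f n = _
    rw [coc_ι_map₁, HomologicalComplex.zero_f, Functor.map_zero, Limits.zero_app, zero_comp,
      HomologicalComplex.zero_f]
    exact comp_zero.symm

theorem shortExact_map_tensorCx_flip_obj
    (h : ∀ p q : ℤ, ((S.map (HomologicalComplex.eval _ _ p)).map
      ((tensorBi O).flip.obj (K.X q))).ShortExact) :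
    (S.map ((tensorCx O).flip.obj K)).ShortExact := by
  apply HomologicalComplex.shortExact_of_degreewise_shortExact
  intro n
  have hS' : (sc1 K S n).Exact := by
    apply exact_of_pointwise
    rintro ⟨⟨⟨p, q⟩, hpq⟩⟩
    exact (h p q).exact
  have hmono : Mono (sc1 K S n).f := by
    apply (config := { allowSynthFailures := true }) NatTrans.mono_of_mono_app
    rintro ⟨⟨⟨p, q⟩, hpq⟩⟩
    exact (h p q).mono_f
  have hepi : ∀ j, Epi ((sc1 K S n).g.app j) := by
    rintro ⟨⟨⟨p, q⟩, hpq⟩⟩
    exact (h p q).epi_g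
  have hf := fun j => coc_ι_map₁ K S.f n j
  have hg := fun j => coc_ι_map₁ K S.g n j
  have hex := colim.exact_mapShortComplex hS' (isColimitCoc S.X₁ K n)
    (isColimitCoc S.X₂ K n) (isColimitCoc S.X₃ K n)
    ((((tensorCx O).map S.f).app K).f n) ((((tensorCx O).map S.g).app K).f n) hf hg
  have hm : Mono ((((tensorCx O).map S.f).app K).f n) :=
    colim.map_mono' (sc1 K S n).f (isColimitCoc S.X₁ K n) (isColimitCoc S.X₂ K n) _ hf
  have he : Epi ((((tensorCx O).map S.g).app K).f n) :=
    colim.map_epi' (sc1 K S n).g (coc S.X₂ K n) (isColimitCoc S.X₃ K n) _ hg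
  exact { exact := hex, mono_f := hm, epi_g := he }

instance additive_tensorBi_flip_obj (N : Mod O) : ((tensorBi O).flip.obj N).Additive where
  map_add {X Y f g} := by
    change ((tensorBi O).map (f + g)).app N = _
    rw [Functor.map_add]
    rfl

theorem shortExact_cone₁ {F F' : CochainComplex (Mod O) ℤ} (φ : F ⟶ F') :
    ((CochainComplex.mappingCone.triangleRotateShortComplex φ).map
      ((tensorCx O).flip.obj K)).ShortExact := by
  apply shortExact_map_tensorCx_flip_obj
  intro p q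
  exact ((CochainComplex.mappingCone.triangleRotateShortComplexSplitting φ p).map
    ((tensorBi O).flip.obj (K.X q))).shortExact

end FirstVar


section QuasiIso

universe v₂ u₂

theorem acyclic_iff_acyc {A : Type u₂} [Category.{v₂} A] [Abelian A] (K : CochainComplex A ℤ) :
    K.Acyclic ↔ Acyc K :=
  forall_congr' fun i => K.exactAt_iff_isZero_homology i

theorem quasiIso_of_acyc {A : Type u₂} [Category.{v₂} A] [Abelian A] {K L : CochainComplex A ℤ}
    (f : K ⟶ L) (hK : Acyc K) (hL : Acyc L) : QuasiIso f := by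
  rw [quasiIso_iff]
  intro i
  rw [quasiIsoAt_iff_isIso_homologyMap]
  exact ⟨⟨0, (hK i).eq_of_src _ _, (hL i).eq_of_src _ _⟩⟩

theorem acyclic_mappingCone_iff {A : Type u₂} [Category.{v₂} A] [Abelian A]
    {F F' : CochainComplex A ℤ} (φ : F ⟶ F') :
    (CochainComplex.mappingCone φ).Acyclic ↔ QuasiIso φ := by
  rw [← HomotopyCategory.quotient_obj_mem_subcategoryAcyclic_iff_acyclic]
  have h1 := (HomotopyCategory.subcategoryAcyclic A).trW_iff_of_distinguished _
    (HomotopyCategory.mappingCone_triangleh_distinguished φ)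
  rw [← HomotopyCategory.quasiIso_eq_trW_subcategoryAcyclic] at h1
  have h2 := HomotopyCategory.quotient_map_mem_quasiIso_iff φ
  rw [HomologicalComplex.mem_quasiIso_iff] at h2
  exact h1.symm.trans h2

variable (K : CochainComplex (Mod O) ℤ)

theorem quasiIso_tensor_shift (hK : IsKFlat K) {F F' : CochainComplex (Mod O) ℤ} (φ : F ⟶ F')
    [QuasiIso φ] : QuasiIso (((tensorCx O).flip.obj K).map (φ⟦(1 : ℤ)⟧')) := by
  have hcomm : φ ≫ 𝟙 F' = φ ≫ 𝟙 F' := rfl
  let tm := CochainComplex.mappingCone.triangleMap φ (𝟙 F') φ (𝟙 F') hcomm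
  let ψ : CochainComplex.mappingCone.triangleRotateShortComplex φ ⟶
      CochainComplex.mappingCone.triangleRotateShortComplex (𝟙 F') :=
    { τ₁ := 𝟙 F'
      τ₂ := CochainComplex.mappingCone.map φ (𝟙 F') φ (𝟙 F') hcomm
      τ₃ := φ⟦(1 : ℤ)⟧'
      comm₁₂ := tm.comm₂.symm
      comm₂₃ := tm.comm₃.symm }
  have hac₁ : Acyc (((tensorCx O).obj (CochainComplex.mappingCone φ)).obj K) :=
    hK _ ((acyclic_iff_acyc _).mp ((acyclic_mappingCone_iff φ).mpr inferInstance))
  have hac₂ : Acyc (((tensorCx O).obj (CochainComplex.mappingCone (𝟙 F'))).obj K) :=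
    hK _ ((acyclic_iff_acyc _).mp ((acyclic_mappingCone_iff (𝟙 F')).mpr inferInstance))
  have h₁ : QuasiIso ((((tensorCx O).flip.obj K).mapShortComplex.map ψ).τ₁) := by
    change QuasiIso (((tensorCx O).flip.obj K).map (𝟙 F'))
    rw [CategoryTheory.Functor.map_id]
    infer_instance
  have h₂ : QuasiIso ((((tensorCx O).flip.obj K).mapShortComplex.map ψ).τ₂) :=
    quasiIso_of_acyc _ hac₁ hac₂
  exact HomologicalComplex.HomologySequence.quasiIso_τ₃
    (((tensorCx O).flip.obj K).mapShortComplex.map ψ)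
    (shortExact_cone₁ K φ) (shortExact_cone₁ K (𝟙 F')) h₁ h₂

theorem quasiIso_tensor_right (hK : IsKFlat K) {F F' : CochainComplex (Mod O) ℤ} (φ : F ⟶ F')
    [QuasiIso φ] : QuasiIso (((tensorCx O).map φ).app K) := by
  have h := quasiIso_tensor_shift K hK (φ⟦(-1 : ℤ)⟧')
  let e := shiftFunctorCompIsoId (CochainComplex (Mod O) ℤ) (-1 : ℤ) 1 (by norm_num)
  have nat : (φ⟦(-1 : ℤ)⟧')⟦(1 : ℤ)⟧' ≫ e.hom.app F' = e.hom.app F ≫ φ := e.hom.naturality φ
  have hT : ((tensorCx O).flip.obj K).map ((φ⟦(-1 : ℤ)⟧')⟦(1 : ℤ)⟧') ≫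
      ((tensorCx O).flip.obj K).map (e.hom.app F') =
      ((tensorCx O).flip.obj K).map (e.hom.app F) ≫ ((tensorCx O).flip.obj K).map φ := by
    rw [← CategoryTheory.Functor.map_comp, nat, CategoryTheory.Functor.map_comp]
  have hq : QuasiIso (((tensorCx O).flip.obj K).map (e.hom.app F) ≫
      ((tensorCx O).flip.obj K).map φ) := by
    rw [← hT]
    infer_instance
  exact quasiIso_of_comp_left (((tensorCx O).flip.obj K).map (e.hom.app F))
    (((tensorCx O).flip.obj K).map φ)

end QuasiIso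

end Groth.Agent.Lib.Helper12.KFlat
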