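import Groth.Agent.Lib.Helper12.KFlat5

set_option autoImplicit false
universe u
open CategoryTheory CategoryTheory.Limits

namespace Groth.Agent.Lib.Helper12.KFlat

open ModSite Groth.Agent.Lib.Helper42.Flat Groth.Agent.Lib.Helper42.Flat2
  Groth.Agent.Lib.Helper42.TensorColim Groth.Agent.Lib.Helper42.FlatCx

variable {C : Type u} [SmallCategory C] {J : GrothendieckTopology C} {O : Sheaf J CommRingCat.{u}}

section GeneralShape

variable {Λ : Type u} [SmallCategory Λ]

instance preservesColimitsOfShape_tensL (M : Mod O) :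
    PreservesColimitsOfShape Λ ((tensorBi O).obj M) :=
  (inferInstance : PreservesColimitsOfSize.{u, u} (tensL O M)).preservesColimitsOfShape

theorem isColimit_eval_tensorCx' (F : CochainComplex (Mod O) ℤ)
    (K : Λ ⥤ CochainComplex (Mod O) ℤ) (c : Cocone K) (hc : IsColimit c) (j : ℤ) :
    Nonempty (IsColimit ((HomologicalComplex.eval (Mod O) (ComplexShape.up ℤ) j).mapCocone
      (((tensorCx O).obj F).mapCocone c))) := by
  refine isColimit_mapCocone_of_cofans K c hc
    ((tensorCx O).obj F ⋙ HomologicalComplex.eval (Mod O) (ComplexShape.up ℤ) j)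
    (fun i : fib j => HomologicalComplex.eval (Mod O) (ComplexShape.up ℤ) i.1.2 ⋙
      (tensorBi O).obj (F.X i.1.1))
    (fun X i => (coc F X j).ι.app ⟨i⟩) ?_ ?_ ?_
  · intro X Y f i
    exact coc_ι_map F f j ⟨i⟩
  · intro X Z f g h
    exact (isColimitCoc F X j).hom_ext (fun ⟨i⟩ => h i)
  · intro X Z φ
    exact ⟨(isColimitCoc F X j).desc ⟨Z, Discrete.natTrans (fun ⟨i⟩ => φ i)⟩,
      fun i => (isColimitCoc F X j).fac _ ⟨i⟩⟩

theorem isKFlat_of_isColimit [HasExactColimitsOfShape Λ (Mod O)]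
    (K : Λ ⥤ CochainComplex (Mod O) ℤ) (c : Cocone K)
    (hc : IsColimit c) (hK : ∀ n : Λ, IsKFlat (K.obj n)) : IsKFlat c.pt := by
  intro F hF
  exact acyc_of_isColimit_eval (K ⋙ (tensorCx O).obj F) (((tensorCx O).obj F).mapCocone c)
    (fun j => (isColimit_eval_tensorCx' F K c hc j).some) (fun m => hK m F hF)

end GeneralShape

section Coprod

instance hasExactColimitsOfShape_discrete' (ι : Type u) :
    HasExactColimitsOfShape (Discrete ι) (Mod O) := by
  have h0 : AB4OfSize.{u} AddCommGrpCat.{u} := inferInstance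
  have h1 : HasExactColimitsOfShape (Discrete ι) AddCommGrpCat.{u} := AB4OfSize.ofShape ι
  have h2 : HasExactColimitsOfShape (Discrete ι) (Sheaf J AddCommGrpCat.{u}) :=
    Sheaf.hasExactColimitsOfShape J
  exact Groth.Agent.Lib.Helper42.Flat.hasExactColimitsOfShape (O := O) (Discrete ι)

theorem isKFlat_of_isColimit_cofan {ι : Type u} (K : ι → CochainComplex (Mod O) ℤ)
    (c : Cofan K) (hc : IsColimit c) (hK : ∀ i, IsKFlat (K i)) : IsKFlat c.pt :=
  isKFlat_of_isColimit (Discrete.functor K) c hc (fun ⟨i⟩ => hK i)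

theorem isFlat_of_isColimit_cofan {ι : Type u} (M : ι → Mod O)
    (c : Cofan M) (hc : IsColimit c) (hM : ∀ i, IsFlat (M i)) : IsFlat c.pt :=
  isFlat_of_isColimit O (Discrete.functor M) (fun ⟨i⟩ => hM i) c hc

end Coprod


section ZeroCx

universe v₂ u₂ w

theorem isColimit_cofan_of_isIso {A : Type u₂} [Category.{v₂} A] [HasZeroMorphisms A]
    {ι : Type w} (M : ι → A) (c : Cofan M) (i₀ : ι)
    (hz : ∀ i, i ≠ i₀ → IsZero (M i)) (hiso : IsIso (c.inj i₀)) : Nonempty (IsColimit c) := by
  classical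
  refine ⟨Cofan.IsColimit.mk c (fun s => inv (c.inj i₀) ≫ s.inj i₀) ?_ ?_⟩
  · intro s i
    by_cases hi : i = i₀
    · subst hi
      rw [IsIso.hom_inv_id_assoc]
    · exact (hz i hi).eq_of_src _ _
  · intro s m hm
    rw [← hm i₀, IsIso.inv_hom_id_assoc]

noncomputable def zeroCx (X : ℤ → Mod O) : CochainComplex (Mod O) ℤ where
  X := X
  d _ _ := 0
  shape _ _ _ := rfl
  d_comp_d' _ _ _ _ _ := comp_zero

noncomputable def zeroCxι (X : ℤ → Mod O) (p : ℤ) :
    (HomologicalComplex.single (Mod O) (ComplexShape.up ℤ) p).obj (X p) ⟶ zeroCx X :=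
  HomologicalComplex.mkHomFromSingle (𝟙 (X p)) (fun _ _ => comp_zero)

theorem isKFlat_zeroCx (X : ℤ → Mod O) (hX : ∀ n, IsFlat (X n)) : IsKFlat (zeroCx X) := by
  let c : Cofan (fun p : ULift.{u} ℤ =>
      (HomologicalComplex.single (Mod O) (ComplexShape.up ℤ) p.down).obj (X p.down)) :=
    Cofan.mk (zeroCx X) (fun p => zeroCxι X p.down)
  have hc : IsColimit c := by
    apply HomologicalComplex.isColimitOfEval
    intro n
    refine (isColimitMapCoconeCofanMkEquiv
      (HomologicalComplex.eval (Mod O) (ComplexShape.up ℤ) n) _ _).symm ?_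
    refine (isColimit_cofan_of_isIso _ _ ⟨n⟩ ?_ ?_).some
    · rintro ⟨p⟩ hp
      have hp' : n ≠ p := fun h => hp (by rw [h])
      exact HomologicalComplex.isZero_single_obj_X (ComplexShape.up ℤ) p (X p) n hp'
    · change IsIso ((zeroCxι X n).f n)
      have h : (zeroCxι X n).f n =
          (HomologicalComplex.singleObjXSelf (ComplexShape.up ℤ) n (X n)).hom :=
        (HomologicalComplex.mkHomFromSingle_f (K := zeroCx X) (𝟙 (X n))
          (fun _ _ => comp_zero)).trans (Category.comp_id _)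
      rw [h]
      exact Iso.isIso_hom (HomologicalComplex.singleObjXSelf (ComplexShape.up ℤ) n (X n))
  exact isKFlat_of_isColimit_cofan _ c hc (fun p => isKFlat_single _ _ (hX _))

end ZeroCx

end Groth.Agent.Lib.Helper12.KFlat
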