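import Groth.Agent.Lib.Helper12.KFlat6

set_option autoImplicit false
universe u
open CategoryTheory CategoryTheory.Limits

namespace Groth.Agent.Lib.Helper12.KFlat

section ColimZero

universe v₂ u₂

variable {A : Type u₂} [Category.{v₂} A] [Abelian A] [HasColimitsOfShape ℕ A]

theorem isZero_colimit_of_map_succ_eq_zero (H : ℕ ⥤ A)
    (h : ∀ n : ℕ, H.map (homOfLE (Nat.le_succ n)) = 0) : IsZero (colimit H) := by
  rw [IsZero.iff_id_eq_zero]
  apply colimit.hom_ext
  intro n
  rw [Category.comp_id, comp_zero, ← colimit.w H (homOfLE (Nat.le_succ n)), h, zero_comp]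

omit [HasColimitsOfShape ℕ A] in
theorem homologyMap_sc'_eq_zero {K L : CochainComplex A ℤ} (φ : K ⟶ L) (i : ℤ)
    (h : HomologicalComplex.homologyMap φ i = 0) :
    ShortComplex.homologyMap ((HomologicalComplex.shortComplexFunctor' A (ComplexShape.up ℤ)
      (i - 1) i (i + 1)).map φ) = 0 := by
  have nat := (HomologicalComplex.natIsoSc' A (ComplexShape.up ℤ) (i - 1) i (i + 1)
    (by simp) (by simp)).hom.naturality φ
  have h2 : ShortComplex.homologyMap
      ((HomologicalComplex.shortComplexFunctor A (ComplexShape.up ℤ) i).map φ ≫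
        (HomologicalComplex.natIsoSc' A (ComplexShape.up ℤ) (i - 1) i (i + 1)
          (by simp) (by simp)).hom.app L) =
      ShortComplex.homologyMap
        ((HomologicalComplex.natIsoSc' A (ComplexShape.up ℤ) (i - 1) i (i + 1)
          (by simp) (by simp)).hom.app K ≫
        (HomologicalComplex.shortComplexFunctor' A (ComplexShape.up ℤ) (i - 1) i (i + 1)).map φ) := by
    rw [nat]
  have e1 := ShortComplex.homologyMap_comp
    ((HomologicalComplex.shortComplexFunctor A (ComplexShape.up ℤ) i).map φ)
    ((HomologicalComplex.natIsoSc' A (ComplexShape.up ℤ) (i - 1) i (i + 1)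
      (by simp) (by simp)).hom.app L)
  have e2 := ShortComplex.homologyMap_comp
    ((HomologicalComplex.natIsoSc' A (ComplexShape.up ℤ) (i - 1) i (i + 1)
      (by simp) (by simp)).hom.app K)
    ((HomologicalComplex.shortComplexFunctor' A (ComplexShape.up ℤ) (i - 1) i (i + 1)).map φ)
  have h3 : ShortComplex.homologyMap
      ((HomologicalComplex.shortComplexFunctor A (ComplexShape.up ℤ) i).map φ) = 0 := h
  have h4 := (e2.symm.trans h2.symm).trans e1
  rw [h3, zero_comp] at h4
  have hiso : IsIso (ShortComplex.homologyMap ((HomologicalComplex.natIsoSc' A (ComplexShape.up ℤ)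
      (i - 1) i (i + 1) (by simp) (by simp)).hom.app K)) := inferInstance
  exact (cancel_epi _).mp (h4.trans comp_zero.symm)

variable [HasExactColimitsOfShape ℕ A]

theorem acyc_of_isColimit_of_homologyMap_eq_zero (L : ℕ ⥤ CochainComplex A ℤ) (c : Cocone L)
    (hc : ∀ j : ℤ, IsColimit ((HomologicalComplex.eval A (ComplexShape.up ℤ) j).mapCocone c))
    (hz : ∀ (n : ℕ) (i : ℤ),
      HomologicalComplex.homologyMap (L.map (homOfLE (Nat.le_succ n))) i = 0) : Acyc c.pt := by
  rw [acyc_iff_sc']
  intro i
  let S := scNat L i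
  have hH : ∀ n : ℕ, S.homology.map (homOfLE (Nat.le_succ n)) = 0 := by
    intro n
    have h1 := ShortComplex.homologyMap_mapNatTrans S
      ((evaluation ℕ A).map (homOfLE (Nat.le_succ n)))
    have h2 : ShortComplex.homologyMap
        (S.mapNatTrans ((evaluation ℕ A).map (homOfLE (Nat.le_succ n)))) = 0 :=
      homologyMap_sc'_eq_zero (L.map (homOfLE (Nat.le_succ n))) i (hz n i)
    rw [h2] at h1
    have h3 : ((evaluation ℕ A).map (homOfLE (Nat.le_succ n))).app S.homology =
        S.homology.map (homOfLE (Nat.le_succ n)) := rfl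
    rw [h3] at h1
    have h4 := congrArg (fun x => (S.mapHomologyIso ((evaluation ℕ A).obj n)).inv ≫ x ≫
      (S.mapHomologyIso ((evaluation ℕ A).obj (n + 1))).hom) h1
    simp only [zero_comp, comp_zero, Category.assoc, Iso.inv_hom_id, Category.comp_id,
      Iso.inv_hom_id_assoc] at h4
    exact h4.symm
  have hz' : IsZero (S.map colim).homology :=
    IsZero.of_iso (isZero_colimit_of_map_succ_eq_zero S.homology hH) (S.mapHomologyIso colim)
  have hex : (S.map colim).Exact := (ShortComplex.exact_iff_isZero_homology _).mpr hz'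
  let e₁ : colimit (L ⋙ HomologicalComplex.eval A (ComplexShape.up ℤ) (i - 1)) ≅ c.pt.X (i - 1) :=
    (colimit.isColimit _).coconePointUniqueUpToIso (hc (i - 1))
  let e₂ : colimit (L ⋙ HomologicalComplex.eval A (ComplexShape.up ℤ) i) ≅ c.pt.X i :=
    (colimit.isColimit _).coconePointUniqueUpToIso (hc i)
  let e₃ : colimit (L ⋙ HomologicalComplex.eval A (ComplexShape.up ℤ) (i + 1)) ≅ c.pt.X (i + 1) :=
    (colimit.isColimit _).coconePointUniqueUpToIso (hc (i + 1))
  let e : S.map colim ≅ c.pt.sc' (i - 1) i (i + 1) :=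
    ShortComplex.isoMk e₁ e₂ e₃
      (by
        apply colimit.hom_ext
        intro n
        change colimit.ι _ n ≫ e₁.hom ≫ c.pt.d (i - 1) i =
          colimit.ι _ n ≫ colimMap (dNat L (i - 1) i) ≫ e₂.hom
        rw [ι_colimMap_assoc]
        have h1 : colimit.ι (L ⋙ HomologicalComplex.eval A (ComplexShape.up ℤ) (i - 1)) n ≫
            e₁.hom = (c.ι.app n).f (i - 1) :=
          IsColimit.comp_coconePointUniqueUpToIso_hom _ (hc (i - 1)) n
        have h2 : colimit.ι (L ⋙ HomologicalComplex.eval A (ComplexShape.up ℤ) i) n ≫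
            e₂.hom = (c.ι.app n).f i :=
          IsColimit.comp_coconePointUniqueUpToIso_hom _ (hc i) n
        rw [reassoc_of% h1, h2]
        exact ((c.ι.app n).comm (i - 1) i))
      (by
        apply colimit.hom_ext
        intro n
        change colimit.ι _ n ≫ e₂.hom ≫ c.pt.d i (i + 1) =
          colimit.ι _ n ≫ colimMap (dNat L i (i + 1)) ≫ e₃.hom
        rw [ι_colimMap_assoc]
        have h1 : colimit.ι (L ⋙ HomologicalComplex.eval A (ComplexShape.up ℤ) i) n ≫
            e₂.hom = (c.ι.app n).f i :=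
          IsColimit.comp_coconePointUniqueUpToIso_hom _ (hc i) n
        have h2 : colimit.ι (L ⋙ HomologicalComplex.eval A (ComplexShape.up ℤ) (i + 1)) n ≫
            e₃.hom = (c.ι.app n).f (i + 1) :=
          IsColimit.comp_coconePointUniqueUpToIso_hom _ (hc (i + 1)) n
        rw [reassoc_of% h1, h2]
        exact ((c.ι.app n).comm i (i + 1)))
  exact ShortComplex.exact_of_iso e hex

end ColimZero

end Groth.Agent.Lib.Helper12.KFlat
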