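import Groth.Agent.Lib.Helper12.KFlat7

set_option autoImplicit false
universe u
open CategoryTheory CategoryTheory.Limits

namespace Groth.Agent.Lib.Helper12.KFlat

open ModSite Groth.Agent.Lib.Helper42.Flat Groth.Agent.Lib.Helper42.Flat2
  Groth.Agent.Lib.Helper42.TensorColim Groth.Agent.Lib.Helper42.FlatCx

variable {C : Type u} [SmallCategory C] {J : GrothendieckTopology C} {O : Sheaf J CommRingCat.{u}}

section Gen

abbrev GenIdx (M : Mod O) : Type u := Σ U : C, (freeOn O U ⟶ M)

noncomputable def genObj (M : Mod O) : Mod O := ∐ (fun i : GenIdx M => freeOn O i.1)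

noncomputable def genπ (M : Mod O) : genObj M ⟶ M := Sigma.desc (fun i => i.2)

noncomputable def genι (M : Mod O) (i : GenIdx M) : freeOn O i.1 ⟶ genObj M :=
  Sigma.ι (fun i : GenIdx M => freeOn O i.1) i

@[reassoc]
theorem genι_π (M : Mod O) (i : GenIdx M) : genι M i ≫ genπ M = i.2 :=
  Sigma.ι_desc (fun i : GenIdx M => i.2) i

theorem isFlat_genObj (M : Mod O) : IsFlat (genObj M) :=
  isFlat_of_isColimit_cofan (fun i : GenIdx M => freeOn O i.1) _
    (coproductIsCoproduct _) (fun i => isFlat_freeOn O i.1)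

instance epi_genπ (M : Mod O) : Epi (genπ M) := by
  constructor
  intro N f g hfg
  apply freeOn_isSeparating O
  rintro G ⟨U⟩ h
  have : h = genι M ⟨U, h⟩ ≫ genπ M := (genι_π M ⟨U, h⟩).symm
  rw [this, Category.assoc, Category.assoc, hfg]

end Gen

end Groth.Agent.Lib.Helper12.KFlat
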