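import Groth.Agent.Lib.Helper12.KFlat8

set_option autoImplicit false
universe u
open CategoryTheory CategoryTheory.Limits

namespace Groth.Agent.Lib.Helper12.KFlat

open ModSite Groth.Agent.Lib.Helper42.Flat Groth.Agent.Lib.Helper42.Flat2
  Groth.Agent.Lib.Helper42.TensorColim Groth.Agent.Lib.Helper42.FlatCx
open CochainComplex CochainComplex.HomComplex

variable {C : Type u} [SmallCategory C] {J : GrothendieckTopology C} {O : Sheaf J CommRingCat.{u}}

section Step

variable {K G : CochainComplex (Mod O) ℤ} (q : K ⟶ G)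

noncomputable def attX (p : ℤ) : Mod O := genObj ((mappingCone q).cycles (p - 1))

noncomputable def attCx : CochainComplex (Mod O) ℤ := zeroCx (attX q)

noncomputable def attGen (p : ℤ) : (attCx q).X p ⟶ (mappingCone q).cycles (p - 1) :=
  genπ ((mappingCone q).cycles (p - 1))

instance epi_attGen (p : ℤ) : Epi (attGen q p) := epi_genπ _

noncomputable def attCyc (p : ℤ) : (attCx q).X p ⟶ (mappingCone q).X (p - 1) :=
  attGen q p ≫ (mappingCone q).iCycles (p - 1)

theorem attCx_d (p p' : ℤ) : (attCx q).d p p' = 0 := rfl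

theorem attCyc_d (p : ℤ) (p' : ℤ) : attCyc q p ≫ (mappingCone q).d (p - 1) p' = 0 := by
  rw [attCyc, Category.assoc, HomologicalComplex.iCycles_d, comp_zero]

noncomputable def att : attCx q ⟶ K where
  f p := attCyc q p ≫ (mappingCone.fst q).1.v (p - 1) p (by omega)
  comm' p p' h := by
    have h' : p + 1 = p' := h
    rw [attCx_d, zero_comp, Category.assoc]
    have := mappingCone.d_fst_v q (p - 1) p p' (by omega) h'
    have h2 : (mappingCone.fst q).1.v (p - 1) p (by omega) ≫ K.d p p' =
        -((mappingCone q).d (p - 1) p ≫ (mappingCone.fst q).1.v p p' h') := by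
      rw [this, neg_neg]
    rw [h2, Preadditive.comp_neg, ← Category.assoc, attCyc_d, zero_comp, neg_zero]

noncomputable def attα : Cochain (attCx q) G (-1) :=
  Cochain.mk (fun p p' hpp' => -(attCyc q p ≫ (mappingCone.snd q).v (p - 1) p' (by omega)))

theorem attα_eq : δ (-1) 0 (attα q) = Cochain.ofHom (att q ≫ q) := by
  apply Cochain.ext₀
  intro p
  rw [δ_v (-1) 0 (by omega) (attα q) p p (add_zero p) (p - 1) (p + 1) rfl rfl]
  rw [attCx_d, zero_comp, smul_zero, add_zero, Cochain.ofHom_v]
  change (-(attCyc q p ≫ (mappingCone.snd q).v (p - 1) (p - 1) (by omega))) ≫ G.d (p - 1) p =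
    (attCyc q p ≫ (mappingCone.fst q).1.v (p - 1) p (by omega)) ≫ q.f p
  have h := mappingCone.d_snd_v q (p - 1) p (by omega)
  have h2 : attCyc q p ≫ ((mappingCone q).d (p - 1) p ≫ (mappingCone.snd q).v p p (add_zero p)) =
      attCyc q p ≫ ((mappingCone.fst q).1.v (p - 1) p (by omega) ≫ q.f p +
        (mappingCone.snd q).v (p - 1) (p - 1) (add_zero _) ≫ G.d (p - 1) p) := by rw [h]
  rw [← Category.assoc, attCyc_d, zero_comp, Preadditive.comp_add] at h2
  rw [Preadditive.neg_comp, Category.assoc, Category.assoc]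
  exact (eq_neg_of_add_eq_zero_left h2.symm).symm


noncomputable abbrev stepK : CochainComplex (Mod O) ℤ := mappingCone (att q)

noncomputable abbrev stepJ : K ⟶ stepK q := mappingCone.inr (att q)

noncomputable def stepQ : stepK q ⟶ G := mappingCone.desc (att q) (attα q) q (attα_eq q)

@[reassoc (attr := simp)]
theorem stepJ_Q : stepJ q ≫ stepQ q = q := mappingCone.inr_desc _ _ _ _

noncomputable def stepφ : mappingCone q ⟶ mappingCone (stepQ q) :=
  mappingCone.map q (stepQ q) (stepJ q) (𝟙 G) (by rw [Category.comp_id, stepJ_Q])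

theorem inl_stepφ (p p' : ℤ) (h : p + (-1) = p') :
    (mappingCone.inl q).v p p' h ≫ (stepφ q).f p' =
      (stepJ q).f p ≫ (mappingCone.inl (stepQ q)).v p p' h := by
  unfold stepφ mappingCone.map
  rw [mappingCone.inl_v_desc_f, Cochain.zero_cochain_comp_v, Cochain.ofHom_v]

theorem inr_stepφ (p : ℤ) :
    (mappingCone.inr q).f p ≫ (stepφ q).f p = (mappingCone.inr (stepQ q)).f p := by
  unfold stepφ mappingCone.map
  rw [mappingCone.inr_f_desc_f, Category.id_comp]

noncomputable def stepE (p m : ℤ) (hm : m + 1 = p - 1) :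
    (attCx q).X p ⟶ (mappingCone (stepQ q)).X m :=
  (mappingCone.inl (att q)).v p (p - 1) (by omega) ≫
    (mappingCone.inl (stepQ q)).v (p - 1) m (by omega)

theorem stepE_d (p m : ℤ) (hm : m + 1 = p - 1) :
    stepE q p m hm ≫ (mappingCone (stepQ q)).d m (p - 1) = -(attCyc q p ≫ (stepφ q).f (p - 1)) := by
  have h1 := mappingCone.inl_v_d (stepQ q) (p - 1) m p (by omega) (by omega)
  have h2 := mappingCone.inl_v_d (att q) p (p - 1) (p + 1) (by omega) (by omega)
  rw [attCx_d, zero_comp, sub_zero] at h2
  have h3 : (mappingCone.inl (att q)).v p (p - 1) (by omega) ≫ (stepQ q).f (p - 1) =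
      -(attCyc q p ≫ (mappingCone.snd q).v (p - 1) (p - 1) (add_zero _)) :=
    mappingCone.inl_v_desc_f _ _ _ _ _ _ _
  have hid := mappingCone.id_X q (p - 1) p (by omega)
  have h4 : attCyc q p ≫ (stepφ q).f (p - 1) =
      attCyc q p ≫ ((mappingCone.fst q).1.v (p - 1) p (by omega) ≫
        (mappingCone.inl q).v p (p - 1) (by omega) +
        (mappingCone.snd q).v (p - 1) (p - 1) (add_zero _) ≫ (mappingCone.inr q).f (p - 1)) ≫
        (stepφ q).f (p - 1) := by
    rw [hid, Category.id_comp]
  rw [h4]
  unfold stepE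
  rw [Category.assoc, h1, Preadditive.comp_sub, ← Category.assoc, h3]
  rw [← Category.assoc ((mappingCone.inl (att q)).v p (p - 1) _), h2]
  simp only [Preadditive.add_comp, Preadditive.comp_add, Category.assoc, inl_stepφ, inr_stepφ,
    Preadditive.neg_comp]
  have h5 : attCyc q p ≫ (mappingCone.fst q).1.v (p - 1) p (by omega) = (att q).f p := rfl
  rw [← Category.assoc (attCyc q p) ((mappingCone.fst q).1.v (p - 1) p _), h5]
  unfold stepJ
  abel


theorem homologyMap_stepφ (i : ℤ) : HomologicalComplex.homologyMap (stepφ q) i = 0 := by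
  obtain ⟨p, rfl⟩ : ∃ p, i = p - 1 := ⟨i + 1, by omega⟩
  rw [← cancel_epi ((mappingCone q).homologyπ (p - 1)), comp_zero,
    HomologicalComplex.homologyπ_naturality]
  rw [← cancel_epi (attGen q p), comp_zero]
  have key : attGen q p ≫ HomologicalComplex.cyclesMap (stepφ q) (p - 1) =
      (-(stepE q p (p - 1 - 1) (by omega))) ≫
        (mappingCone (stepQ q)).toCycles (p - 1 - 1) (p - 1) := by
    rw [← cancel_mono ((mappingCone (stepQ q)).iCycles (p - 1))]
    rw [Category.assoc, HomologicalComplex.cyclesMap_i, Category.assoc,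
      HomologicalComplex.toCycles_i, Preadditive.neg_comp, stepE_d, neg_neg]
    rfl
  rw [← Category.assoc, key, Category.assoc, HomologicalComplex.toCycles_comp_homologyπ,
    comp_zero]

end Step

end Groth.Agent.Lib.Helper12.KFlat
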