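import Mathlib.CategoryTheory.Localization.DerivabilityStructure.Derives
import Mathlib.CategoryTheory.Localization.DerivabilityStructure.OfFunctorialResolutions
import Mathlib.CategoryTheory.Functor.Derived.LeftDerived
import Mathlib.CategoryTheory.Localization.Opposite

set_option autoImplicit false
open CategoryTheory CategoryTheory.Limits Opposite

namespace Groth.Agent.Lib.Helper12.LDer

universe v₁ v₂ v₃ v₄ u₁ u₂ u₃ u₄

section OpKan

variable {C : Type u₁} {D : Type u₂} {H : Type u₃} [Category.{v₁} C] [Category.{v₂} D]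
  [Category.{v₃} H]

def opNat {L : C ⥤ D} {F : C ⥤ H} {F' : D ⥤ H} (α : L ⋙ F' ⟶ F) : F.op ⟶ L.op ⋙ F'.op where
  app X := (α.app X.unop).op
  naturality _ _ f := Quiver.Hom.unop_inj (α.naturality f.unop).symm

@[simp]
theorem opNat_app {L : C ⥤ D} {F : C ⥤ H} {F' : D ⥤ H} (α : L ⋙ F' ⟶ F) (X : Cᵒᵖ) :
    (opNat α).app X = (α.app X.unop).op := rfl

def unopExt {L : C ⥤ D} {F : C ⥤ H} (E : Functor.LeftExtension L.op F.op) :
    L ⋙ E.right.unop ⟶ F where
  app X := (E.hom.app (op X)).unop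
  naturality _ _ f := Quiver.Hom.op_inj (E.hom.naturality f.op).symm

def opLift {F' : D ⥤ H} {G : Dᵒᵖ ⥤ Hᵒᵖ} (δ : G.unop ⟶ F') : F'.op ⟶ G where
  app Y := (δ.app Y.unop).op
  naturality _ _ f := Quiver.Hom.unop_inj (δ.naturality f.unop).symm

def unopLift {F' : D ⥤ H} {G : Dᵒᵖ ⥤ Hᵒᵖ} (γ : F'.op ⟶ G) : G.unop ⟶ F' where
  app Y := (γ.app (op Y)).unop
  naturality _ _ f := Quiver.Hom.op_inj (γ.naturality f.op).symm

theorem isLeftKanExtension_op (F' : D ⥤ H) {L : C ⥤ D} {F : C ⥤ H} (α : L ⋙ F' ⟶ F)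
    [F'.IsRightKanExtension α] : F'.op.IsLeftKanExtension (opNat α) := by
  refine ⟨⟨IsInitial.ofUniqueHom (fun E => StructuredArrow.homMk
    (opLift (F'.liftOfIsRightKanExtension α E.right.unop (unopExt E))) ?_) ?_⟩⟩
  · ext X
    apply Quiver.Hom.unop_inj
    exact F'.liftOfIsRightKanExtension_fac_app α E.right.unop (unopExt E) X.unop
  · intro E m
    apply StructuredArrow.ext
    have hm := StructuredArrow.w m
    have h2 : unopLift m.right = F'.liftOfIsRightKanExtension α E.right.unop (unopExt E) := by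
      apply F'.hom_ext_of_isRightKanExtension α
      rw [F'.liftOfIsRightKanExtension_fac α]
      ext X
      apply Quiver.Hom.op_inj
      exact congrArg (fun t => t.app (op X)) hm
    ext Y
    apply Quiver.Hom.unop_inj
    exact congrArg (fun t => t.app Y.unop) h2

end OpKan

section LeftDerives

variable {C₁ : Type u₁} {C₂ : Type u₂} {H : Type u₃} {D₂ : Type u₄}
  [Category.{v₁} C₁] [Category.{v₂} C₂] [Category.{v₃} H] [Category.{v₄} D₂]
  {W₁ : MorphismProperty C₁} {W₂ : MorphismProperty C₂}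
  (Φ : LocalizerMorphism W₁ W₂) [Φ.IsLeftDerivabilityStructure] {F : C₂ ⥤ H}
  (h : Φ.Derives F) {L₂ : C₂ ⥤ D₂} [L₂.IsLocalization W₂] {LF : D₂ ⥤ H}
  (α : L₂ ⋙ LF ⟶ F) [LF.IsLeftDerivedFunctor α W₂]

include h in
theorem isIso_of_isLeftDerivedFunctor (X₁ : C₁) : IsIso (α.app (Φ.functor.obj X₁)) := by
  have hop : Φ.op.Derives F.op := by
    intro X Y f hf
    have h1 : IsIso (F.map (Φ.functor.map f.unop)) := h f.unop hf
    exact inferInstanceAs (IsIso ((F.map (Φ.functor.map f.unop)).op))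
  have : LF.IsRightKanExtension α := Functor.IsLeftDerivedFunctor.isRightKanExtension LF α W₂
  have : LF.op.IsRightDerivedFunctor (opNat α) W₂.op := ⟨isLeftKanExtension_op LF α⟩
  have h3 := hop.isIso_of_isRightDerivedFunctor (opNat α) (op X₁)
  have h4 : IsIso ((α.app (Φ.functor.obj X₁)).op) := h3
  exact isIso_of_op _

end LeftDerives

section Functorial

variable {C₁ : Type u₁} {C₂ : Type u₂} [Category.{v₁} C₁] [Category.{v₂} C₂]
  {W₁ : MorphismProperty C₁} {W₂ : MorphismProperty C₂}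
  (Φ : LocalizerMorphism W₁ W₂) [Φ.functor.Full] [Φ.functor.Faithful]
  [W₂.HasTwoOutOfThreeProperty] [W₂.IsMultiplicative]
  {ρ : C₂ ⥤ C₁} (p : ρ ⋙ Φ.functor ⟶ 𝟭 C₂) (hp : ∀ X₂, W₂ (p.app X₂))
  (hW₁ : W₁ = W₂.inverseImage Φ.functor)

include hp hW₁ in
theorem isLeftDerivabilityStructure_of_functorial_resolutions :
    Φ.IsLeftDerivabilityStructure := by
  rw [Φ.isLeftDerivabilityStructure_iff_op]
  let i : 𝟭 C₂ᵒᵖ ⟶ ρ.op ⋙ Φ.op.functor :=
    { app := fun X => (p.app X.unop).op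
      naturality := fun _ _ f => Quiver.Hom.unop_inj (p.naturality f.unop).symm }
  have hW : W₁.op = W₂.op.inverseImage Φ.op.functor := by
    ext X Y f
    change W₁ f.unop ↔ W₂ (Φ.functor.map f.unop)
    conv_lhs => rw [hW₁]
    rfl
  exact Φ.op.isRightDerivabilityStructure_of_functorial_resolutions i (fun X => hp X.unop) hW

end Functorial

end Groth.Agent.Lib.Helper12.LDer
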