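import Groth.Agent.Lib.Helper12.KFlat25
import Groth.Prelude.Def_DCoh4

set_option autoImplicit false
universe u
open CategoryTheory CategoryTheory.Limits AlgebraicGeometry

attribute [local instance] HasDerivedCategory.standard

namespace Groth.Agent.Lib.Helper12.LTC

open ModSite Groth.Agent.Lib.Helper42.Flat Groth.Agent.Lib.Helper42.Flat2
  Groth.Agent.Lib.Helper42.TensorColim Groth.Agent.Lib.Helper42.FlatCx
open Groth.Agent.Lib.Helper12

variable {X : Scheme.{u}}

abbrev qisC : MorphismProperty (CochainComplex X.Modules ℤ) :=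
  HomologicalComplex.quasiIso X.Modules (ComplexShape.up ℤ)

noncomputable abbrev RTX (E : CochainComplex X.Modules ℤ) :
    CochainComplex X.Modules ℤ ⥤ CochainComplex X.Modules ℤ := (DCoh.tensorCx (X := X)).flip.obj E

theorem tensorCxQ_eq (E : CochainComplex X.Modules ℤ) :
    DCoh.tensorCxQ E = RTX E ⋙ DerivedCategory.Q := rfl

theorem isIso_tensorCxQ_map (E : CochainComplex X.Modules ℤ) {P P' : CochainComplex X.Modules ℤ}
    (f : P ⟶ P') (hf : QuasiIso f) (hP : DCoh.IsKFlat P) (hP' : DCoh.IsKFlat P') :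
    IsIso ((DCoh.tensorCxQ E).map f) := by
  have h1 : QuasiIso ((RTX E).map f) :=
    @KFlat.quasiIso_tensor_right' _ _ _ X.sheaf E P P' f hf hP hP'
  exact (DerivedCategory.isIso_Q_map_iff_quasiIso X.Modules ((RTX E).map f)).mpr h1

theorem isIso_tensorCxQ_map' (L : CochainComplex X.Modules ℤ) (hL : DCoh.IsKFlat L)
    {P P' : CochainComplex X.Modules ℤ} (f : P ⟶ P') (hf : QuasiIso f) :
    IsIso ((DCoh.tensorCxQ L).map f) := by
  have h1 : QuasiIso ((RTX L).map f) :=
    @KFlat.quasiIso_tensor_right _ _ _ X.sheaf L hL P P' f hf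
  exact (DerivedCategory.isIso_Q_map_iff_quasiIso X.Modules ((RTX L).map f)).mpr h1

section Counit

variable (E : CochainComplex X.Modules ℤ) [DCoh.HasLTensorCx E]

noncomputable def couCx : DerivedCategory.Q ⋙ DCoh.LTensorCx E ⟶ DCoh.tensorCxQ E :=
  (DCoh.tensorCxQ E).totalLeftDerivedCounit DerivedCategory.Q qisC

instance : (DCoh.LTensorCx E).IsLeftDerivedFunctor (couCx E) (qisC (X := X)) := by
  unfold couCx
  infer_instance

theorem isIso_couCx_app_of_isKFlat (P : CochainComplex X.Modules ℤ) (hP : DCoh.IsKFlat P) :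
    IsIso ((couCx E).app P) := by
  have h0 : (DerivedCategory.Q (C := X.Modules)).IsLocalization (KFlat.qisCx X.sheaf) :=
    inferInstanceAs ((DerivedCategory.Q (C := X.Modules)).IsLocalization (qisC (X := X)))
  have h00 : (DCoh.LTensorCx E).IsLeftDerivedFunctor (couCx E) (KFlat.qisCx X.sheaf) :=
    inferInstanceAs ((DCoh.LTensorCx E).IsLeftDerivedFunctor (couCx E) (qisC (X := X)))
  refine @KFlat.isIso_counit_app_of_isKFlat _ _ _ X.sheaf _ _ _ _ (DCoh.tensorCxQ E) ?_
    DerivedCategory.Q h0 (DCoh.LTensorCx E) (couCx E) h00 P hP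
  intro P P' f hP hP' hf
  exact isIso_tensorCxQ_map E f hf hP hP'

theorem isIso_couCx_app_of_isKFlat' (hE : DCoh.IsKFlat E) (F : CochainComplex X.Modules ℤ) :
    IsIso ((couCx E).app F) := by
  have hF : (qisC (X := X)).IsInvertedBy (DCoh.tensorCxQ E) := by
    intro P P' f hf
    exact isIso_tensorCxQ_map' E hE f hf
  exact LDer.isIso_app_of_inverts hF (couCx E) F

end Counit

end Groth.Agent.Lib.Helper12.LTC
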