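import Groth.Agent.Lib.Helper12.LTC

set_option autoImplicit false
universe u
open CategoryTheory CategoryTheory.Limits AlgebraicGeometry

attribute [local instance] HasDerivedCategory.standard

namespace Groth.Agent.Lib.Helper12.LTC

open ModSite Groth.Agent.Lib.Helper42.Flat Groth.Agent.Lib.Helper42.Flat2
  Groth.Agent.Lib.Helper42.TensorColim Groth.Agent.Lib.Helper42.FlatCx
open Groth.Agent.Lib.Helper12

variable {X : Scheme.{u}}

theorem quasiIso_RTX_map (E : CochainComplex X.Modules ℤ) {P P' : CochainComplex X.Modules ℤ}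
    (f : P ⟶ P') (hf : QuasiIso f) (hP : DCoh.IsKFlat P) (hP' : DCoh.IsKFlat P') :
    QuasiIso ((RTX E).map f) :=
  @KFlat.quasiIso_tensor_right' _ _ _ X.sheaf E P P' f hf hP hP'

theorem quasiIso_RTX_map' (L : CochainComplex X.Modules ℤ) (hL : DCoh.IsKFlat L)
    {P P' : CochainComplex X.Modules ℤ} (f : P ⟶ P') (hf : QuasiIso f) :
    QuasiIso ((RTX L).map f) :=
  @KFlat.quasiIso_tensor_right _ _ _ X.sheaf L hL P P' f hf

section Comp

variable (K L : CochainComplex X.Modules ℤ) [DCoh.HasLTensorCx K] [DCoh.HasLTensorCx L]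

noncomputable def couComp :
    DerivedCategory.Q ⋙ (DCoh.LTensorCx K ⋙ DCoh.LTensorCx L) ⟶
      (RTX K ⋙ RTX L) ⋙ DerivedCategory.Q where
  app F := (DCoh.LTensorCx L).map ((couCx K).app F) ≫ (couCx L).app ((RTX K).obj F)
  naturality F F' φ := by
    have n1 := (couCx K).naturality φ
    have n2 := (couCx L).naturality ((RTX K).map φ)
    change (DCoh.LTensorCx L).map ((DCoh.LTensorCx K).map (DerivedCategory.Q.map φ)) ≫
        (DCoh.LTensorCx L).map ((couCx K).app F') ≫ (couCx L).app ((RTX K).obj F') =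
      ((DCoh.LTensorCx L).map ((couCx K).app F) ≫ (couCx L).app ((RTX K).obj F)) ≫
        DerivedCategory.Q.map ((RTX L).map ((RTX K).map φ))
    have n1' : (DCoh.LTensorCx K).map (DerivedCategory.Q.map φ) ≫ (couCx K).app F' =
        (couCx K).app F ≫ DerivedCategory.Q.map ((RTX K).map φ) := n1
    have n2' : (DCoh.LTensorCx L).map (DerivedCategory.Q.map ((RTX K).map φ)) ≫
        (couCx L).app ((RTX K).obj F') =
        (couCx L).app ((RTX K).obj F) ≫ DerivedCategory.Q.map ((RTX L).map ((RTX K).map φ)) := n2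
    rw [← Category.assoc, ← Functor.map_comp, n1', Functor.map_comp, Category.assoc, n2',
      Category.assoc]

omit [DCoh.HasLTensorCx K] [DCoh.HasLTensorCx L] in
theorem isIso_comp_map (hL : DCoh.IsKFlat L) {P P' : CochainComplex X.Modules ℤ} (f : P ⟶ P')
    (hf : QuasiIso f) (hP : DCoh.IsKFlat P) (hP' : DCoh.IsKFlat P') :
    IsIso (((RTX K ⋙ RTX L) ⋙ DerivedCategory.Q).map f) := by
  have h1 : QuasiIso ((RTX K).map f) := quasiIso_RTX_map K f hf hP hP'
  have h2 : QuasiIso ((RTX L).map ((RTX K).map f)) := quasiIso_RTX_map' L hL ((RTX K).map f) h1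
  exact (DerivedCategory.isIso_Q_map_iff_quasiIso X.Modules ((RTX L).map ((RTX K).map f))).mpr h2

theorem isLeftDerivedFunctor_couComp (hL : DCoh.IsKFlat L) :
    (DCoh.LTensorCx K ⋙ DCoh.LTensorCx L).IsLeftDerivedFunctor (couComp K L) (qisC (X := X)) := by
  have h0 : (DerivedCategory.Q (C := X.Modules)).IsLocalization (KFlat.qisCx X.sheaf) :=
    inferInstanceAs ((DerivedCategory.Q (C := X.Modules)).IsLocalization (qisC (X := X)))
  have h : (KFlat.kflatΦ X.sheaf).Derives ((RTX K ⋙ RTX L) ⋙ DerivedCategory.Q) := by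
    intro P P' f hf
    exact isIso_comp_map K L hL f.hom hf P.property P'.property
  refine @LDer.isLeftDerivedFunctor_of_isIso _ _ _ _ _ _ _ _ _ _ (KFlat.kflatΦ X.sheaf)
    (KFlat.isLeftDerivabilityStructure_kflatΦ X.sheaf) _ h
    DerivedCategory.Q h0 _ (couComp K L) ?_
  intro P
  have i1 : IsIso ((couCx K).app P.obj) := isIso_couCx_app_of_isKFlat K P.obj P.property
  have i2 : IsIso ((couCx L).app ((RTX K).obj P.obj)) := isIso_couCx_app_of_isKFlat' L hL _
  change IsIso ((DCoh.LTensorCx L).map ((couCx K).app P.obj) ≫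
    (couCx L).app ((RTX K).obj P.obj))
  infer_instance

end Comp

end Groth.Agent.Lib.Helper12.LTC
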