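import Groth.Agent.Lib.Helper12.LTC2

set_option autoImplicit false
universe u
open CategoryTheory CategoryTheory.Limits AlgebraicGeometry

attribute [local instance] HasDerivedCategory.standard

namespace Groth.Agent.Lib.Helper12.LTC

open Groth.Agent.Lib.Helper12

variable {X : Scheme.{u}}

section Final

variable (K L : CochainComplex X.Modules ℤ) [DCoh.HasLTensorCx K] [DCoh.HasLTensorCx L]
  [DCoh.HasLTensorCx ((DCoh.tensorCx.obj K).obj L)]

noncomputable def compIso (hL : DCoh.IsKFlat L) :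
    DCoh.LTensorCx K ⋙ DCoh.LTensorCx L ≅ DCoh.LTensorCx ((DCoh.tensorCx.obj K).obj L) := by
  have := isLeftDerivedFunctor_couComp K L hL
  exact Functor.leftDerivedNatIso _ _ (couComp K L) (couCx ((DCoh.tensorCx.obj K).obj L)) qisC
    (Functor.isoWhiskerRight (KFlat.assocNat (O := X.sheaf) K L) DerivedCategory.Q)

theorem rsheafHom_comp_iso (hL : DCoh.IsKFlat L) [DCoh.HasRSheafHom K] [DCoh.HasRSheafHom L]
    [DCoh.HasRSheafHom ((DCoh.tensorCx.obj K).obj L)] (M : DCoh.D X) :
    Nonempty ((DCoh.RSheafHom K).obj ((DCoh.RSheafHom L).obj M) ≅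
      (DCoh.RSheafHom ((DCoh.tensorCx.obj K).obj L)).obj M) := by
  let adj1 := (DCoh.RSheafHomAdj K).comp (DCoh.RSheafHomAdj L)
  let adj2 := DCoh.RSheafHomAdj ((DCoh.tensorCx.obj K).obj L)
  let e := Adjunction.rightAdjointUniq (adj1.ofNatIsoLeft (compIso K L hL)) adj2
  exact ⟨e.app M⟩

end Final

end Groth.Agent.Lib.Helper12.LTC
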