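import Groth.Agent.Lib.Helper12.LTC3

set_option autoImplicit false
universe u
open CategoryTheory CategoryTheory.Limits AlgebraicGeometry

attribute [local instance] HasDerivedCategory.standard

namespace Groth.Agent.Lib.Helper12.LTC

open Groth.Agent.Lib.Helper12

variable {X : Scheme.{u}}

theorem rsheafHom_comp_natIso (K L : CochainComplex X.Modules ℤ) [DCoh.HasLTensorCx K]
    [DCoh.HasLTensorCx L] [DCoh.HasLTensorCx ((DCoh.tensorCx.obj K).obj L)]
    (hL : DCoh.IsKFlat L) [DCoh.HasRSheafHom K] [DCoh.HasRSheafHom L]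
    [DCoh.HasRSheafHom ((DCoh.tensorCx.obj K).obj L)] :
    Nonempty (DCoh.RSheafHom ((DCoh.tensorCx.obj K).obj L) ≅
      DCoh.RSheafHom L ⋙ DCoh.RSheafHom K) := by
  let adj1 := (DCoh.RSheafHomAdj K).comp (DCoh.RSheafHomAdj L)
  let adj2 := DCoh.RSheafHomAdj ((DCoh.tensorCx.obj K).obj L)
  let e := Adjunction.rightAdjointUniq (adj1.ofNatIsoLeft (compIso K L hL)) adj2
  exact ⟨e.symm⟩

end Groth.Agent.Lib.Helper12.LTC
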