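import Groth.Agent.Lib.Helper12.LTC
import Groth.Agent.Lib.Helper12.KFlat27

set_option autoImplicit false
universe u
open CategoryTheory CategoryTheory.Limits AlgebraicGeometry

attribute [local instance] HasDerivedCategory.standard

namespace Groth.Agent.Lib.Helper12.LTC

open ModSite
open Groth.Agent.Lib.Helper12

variable {X : Scheme.{u}}

theorem isKFlat_of_isColimit_cofan {ι : Type u} (K : ι → CochainComplex X.Modules ℤ)
    (c : Cofan K) (hc : IsColimit c) (hK : ∀ i, DCoh.IsKFlat (K i)) : DCoh.IsKFlat c.pt :=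
  @KFlat.isKFlat_of_isColimit_cofan _ _ _ X.sheaf ι K c hc hK

theorem isColimit_RTX_mapCocone (E : CochainComplex X.Modules ℤ) {ι : Type u}
    (K : ι → CochainComplex X.Modules ℤ) (c : Cofan K) (hc : IsColimit c) :
    Nonempty (IsColimit ((RTX E).mapCocone c)) :=
  @KFlat.isColimit_tensorCx_flip _ _ _ X.sheaf (Discrete ι) _ E (Discrete.functor K) c hc

theorem exists_isKFlat_resolution (G : CochainComplex X.Modules ℤ) :
    ∃ (K : CochainComplex X.Modules ℤ) (q : K ⟶ G), DCoh.IsKFlat K ∧ QuasiIso q := by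
  obtain ⟨K', q, hK', -, hq, -⟩ := @KFlat.exists_isKFlat_resolution _ _ _ X.sheaf G
  exact ⟨K', q, hK', hq⟩

end Groth.Agent.Lib.Helper12.LTC
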