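import Groth.Agent.Lib.Helper12.KFlat21
import Groth.Prelude.Def_DTor2
import Groth.Prelude.Def_DCoh4

set_option autoImplicit false
universe u
open CategoryTheory CategoryTheory.Limits AlgebraicGeometry

attribute [local instance] HasDerivedCategory.standard

namespace Groth.Agent.Lib.Helper12.LTK

open ModSite Groth.Agent.Lib.Helper42.Flat Groth.Agent.Lib.Helper42.Flat2
  Groth.Agent.Lib.Helper42.TensorColim Groth.Agent.Lib.Helper42.FlatCx
open Groth.Agent.Lib.Helper12

variable {X : Scheme.{u}}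

theorem tensorRightMod_eq (M : X.Modules) : DCoh.tensorRightMod M = tensR X.sheaf M := rfl

noncomputable abbrev twX (M : X.Modules) :
    CochainComplex X.Modules ℤ ⥤ CochainComplex X.Modules ℤ :=
  (DCoh.tensorRightMod M).mapHomologicalComplex (ComplexShape.up ℤ)

noncomputable abbrev quot : CochainComplex X.Modules ℤ ⥤ HomotopyCategory X.Modules (ComplexShape.up ℤ) :=
  HomotopyCategory.quotient X.Modules (ComplexShape.up ℤ)

abbrev qisH : MorphismProperty (HomotopyCategory X.Modules (ComplexShape.up ℤ)) :=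
  HomotopyCategory.quasiIso X.Modules (ComplexShape.up ℤ)

abbrev qisC : MorphismProperty (CochainComplex X.Modules ℤ) :=
  HomologicalComplex.quasiIso X.Modules (ComplexShape.up ℤ)

instance isLocalization_quot_Qh :
    ((quot (X := X)) ⋙ DerivedCategory.Qh).IsLocalization (qisC (X := X)) :=
  Functor.IsLocalization.of_iso _ (DerivedCategory.quotientCompQhIso X.Modules).symm

theorem quasiIso_twX_map (M : X.Modules) {P Q : CochainComplex X.Modules ℤ} (α : P ⟶ Q)
    (hα : QuasiIso α) (hP : DCoh.IsKFlat P) (hQ : DCoh.IsKFlat Q) : QuasiIso ((twX M).map α) :=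
  @KFlat.quasiIso_tw_map _ _ _ X.sheaf P Q α hα hP hQ M

theorem isIso_map_of_quasiIso (M : X.Modules) {P Q : CochainComplex X.Modules ℤ} (f : P ⟶ Q)
    (hf : QuasiIso f) (hP : DCoh.IsKFlat P) (hQ : DCoh.IsKFlat Q) :
    IsIso ((quot ⋙ DCoh.tensorModKh M).map f) := by
  have h1 : QuasiIso ((twX M).map f) := quasiIso_twX_map M f hf hP hQ
  have h2 : IsIso (DerivedCategory.Q.map ((twX M).map f)) := inferInstance
  have h3 : IsIso ((quot ⋙ DerivedCategory.Qh).map ((twX M).map f)) :=
    (NatIso.isIso_map_iff (DerivedCategory.quotientCompQhIso X.Modules) _).mpr h2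
  have h4 : (quot ⋙ DCoh.tensorModKh M).map f =
      (quot ⋙ DerivedCategory.Qh).map ((twX M).map f) := by
    change DerivedCategory.Qh.map (((DCoh.tensorRightMod M).mapHomotopyCategory
      (ComplexShape.up ℤ)).map (quot.map f)) = _
    rw [Functor.mapHomotopyCategory_map]
    rfl
  rw [h4]
  exact h3

section Counit

variable (M : X.Modules) [DCoh.HasLTensorMod M]

noncomputable def cou : DerivedCategory.Qh ⋙ DCoh.LTensorMod M ⟶ DCoh.tensorModKh M :=
  (DCoh.tensorModKh M).totalLeftDerivedCounit DerivedCategory.Qh qisH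

instance : (DCoh.LTensorMod M).IsLeftDerivedFunctor (cou M) qisH := by
  unfold cou
  infer_instance

noncomputable def couC :
    (quot ⋙ DerivedCategory.Qh) ⋙ DCoh.LTensorMod M ⟶ quot ⋙ DCoh.tensorModKh M :=
  LDer.preAlpha quot (DCoh.LTensorMod M) (cou M)

instance : (DCoh.LTensorMod M).IsLeftDerivedFunctor (couC M) (qisC (X := X)) :=
  LDer.isLeftDerivedFunctor_precomp quot
    (HomologicalComplex.homotopyEquivalences X.Modules (ComplexShape.up ℤ))
    (DCoh.LTensorMod M) (cou M) qisC (W := qisH)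

theorem isIso_couC_app (P : CochainComplex X.Modules ℤ) (hP : DCoh.IsKFlat P) :
    IsIso ((couC M).app P) := by
  have h0 : ((quot (X := X)) ⋙ DerivedCategory.Qh).IsLocalization (KFlat.qisCx X.sheaf) :=
    isLocalization_quot_Qh
  have h00 : (DCoh.LTensorMod M).IsLeftDerivedFunctor (couC M) (KFlat.qisCx X.sheaf) :=
    inferInstanceAs ((DCoh.LTensorMod M).IsLeftDerivedFunctor (couC M) (qisC (X := X)))
  refine @KFlat.isIso_counit_app_of_isKFlat _ _ _ X.sheaf _ _ _ _ (quot ⋙ DCoh.tensorModKh M) ?_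
    (quot ⋙ DerivedCategory.Qh) h0 (DCoh.LTensorMod M) (couC M) h00 P hP
  intro P Q f hP hQ hf
  exact isIso_map_of_quasiIso M f hf hP hQ

noncomputable def ltQIso (P : CochainComplex X.Modules ℤ) (hP : DCoh.IsKFlat P) :
    (DCoh.LTensorMod M).obj (DerivedCategory.Q.obj P) ≅ DerivedCategory.Q.obj ((twX M).obj P) :=
  (DCoh.LTensorMod M).mapIso ((DerivedCategory.quotientCompQhIso X.Modules).symm.app P) ≪≫
    @asIso _ _ _ _ ((couC M).app P) (isIso_couC_app M P hP) ≪≫
    DerivedCategory.Qh.mapIso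
      (((DCoh.tensorRightMod M).mapHomotopyCategoryFactors (ComplexShape.up ℤ)).app P) ≪≫
    (DerivedCategory.quotientCompQhIso X.Modules).app ((twX M).obj P)

noncomputable def hdIso (P : CochainComplex X.Modules ℤ) (hP : DCoh.IsKFlat P) (i : ℤ) :
    DCoh.HD ((DCoh.LTensorMod M).obj (DCoh.toD X P)) i ≅ ((twX M).obj P).homology i :=
  (DerivedCategory.homologyFunctor X.Modules i).mapIso (ltQIso M P hP) ≪≫
    (DerivedCategory.homologyFunctorFactors X.Modules i).app ((twX M).obj P)

end Counit

end Groth.Agent.Lib.Helper12.LTK
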