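import Groth.Agent.Lib.Helper12.LTK
import Groth.Agent.Lib.Helper12.KFlat22
import Groth.Agent.Lib.Helper12.FlatBridge2

set_option autoImplicit false
universe u
open CategoryTheory CategoryTheory.Limits AlgebraicGeometry

attribute [local instance] HasDerivedCategory.standard

namespace Groth.Agent.Lib.Helper12.LTK

open ModSite Groth.Agent.Lib.Helper42.Flat Groth.Agent.Lib.Helper42.Flat2
  Groth.Agent.Lib.Helper42.TensorColim Groth.Agent.Lib.Helper42.FlatCx
open Groth.Agent.Lib.Helper12

variable {X : Scheme.{u}}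

theorem isKFlat_of_bddAbove_flat (E : CochainComplex X.Modules ℤ) (b : ℤ)
    (hb : ∀ n, b < n → IsZero (E.X n)) (hflat : ∀ i : ℤ, FlatMod.IsFlat (E.X i)) :
    DCoh.IsKFlat E :=
  KFlat.isKFlat_of_bounded_above (O := X.sheaf) E b hb
    (fun n => FlatBridge.isFlat_of_flatMod _ (hflat n))

theorem exact_of_isZero_homology (E : CochainComplex X.Modules ℤ) (G : X.Modules) (i j k : ℤ)
    (hij : i + 1 = j) (hjk : j + 1 = k) (h : IsZero (((twX G).obj E).homology j)) :
    (ShortComplex.mk (KFlat.mapR (O := X.sheaf) (E.d i j) G) (KFlat.mapR (E.d j k) G)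
      (KFlat.mapR_comp_zero _ _ (E.d_comp_d i j k) G)).Exact := by
  have h1 := (HomologicalComplex.exactAt_iff_isZero_homology _ _).mpr h
  rw [HomologicalComplex.exactAt_iff' _ i j k (by simp; omega) (by simp; omega)] at h1
  exact h1

theorem flat_cokernel_of_vanishing (E : CochainComplex X.Modules ℤ) (a : ℤ)
    (hfl : FlatMod.IsFlat (E.X a))
    (h : ∀ G : X.Modules, IsZero (((twX G).obj E).homology (a - 1))) :
    FlatMod.IsFlat (cokernel (E.d (a - 1) a)) := by
  rw [← FlatBridge.isFlat_iff_flatMod]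
  exact KFlat.isFlat_cokernel_of_exact (O := X.sheaf) E (a - 2) (a - 1) a
    (FlatBridge.isFlat_of_flatMod _ hfl)
    (fun G => exact_of_isZero_homology E G (a - 2) (a - 1) a (by omega) (by omega) (h G))

theorem isZero_homology_twX_of_torAmp (E : CochainComplex X.Modules ℤ) (hK : DCoh.IsKFlat E)
    (G : X.Modules) [DCoh.HasLTensorMod G] (a b : ℤ)
    (hE : DCoh.HasTorAmplitudeIn a b (DCoh.toD X E)) (i : ℤ) (hi : i < a ∨ b < i) :
    IsZero (((twX G).obj E).homology i) :=
  IsZero.of_iso (hE G i hi) (hdIso G E hK i).symm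

end Groth.Agent.Lib.Helper12.LTK
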