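import Groth.Agent.Lib.Helper12.LTK2

set_option autoImplicit false
universe u
open CategoryTheory CategoryTheory.Limits AlgebraicGeometry

attribute [local instance] HasDerivedCategory.standard

namespace Groth.Agent.Lib.Helper12.LTK

open ModSite Groth.Agent.Lib.Helper42.Flat Groth.Agent.Lib.Helper42.Flat2
  Groth.Agent.Lib.Helper42.TensorColim Groth.Agent.Lib.Helper42.FlatCx
open Groth.Agent.Lib.Helper12

variable {X : Scheme.{u}}

theorem isZero_homology_twX_of_isZero (E : CochainComplex X.Modules ℤ) (G : X.Modules) (i : ℤ)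
    (h : IsZero (E.X i)) : IsZero (((twX G).obj E).homology i) := by
  rw [← HomologicalComplex.exactAt_iff_isZero_homology]
  exact HomologicalComplex.ExactAt.of_isZero
    (Functor.map_isZero (DCoh.tensorRightMod G) h)

theorem isKFlat_of_vanishesOutside (E : CochainComplex X.Modules ℤ) (a b : ℤ)
    (hv : DCoh.VanishesOutside E a b) (hflat : ∀ i : ℤ, FlatMod.IsFlat (E.X i)) :
    DCoh.IsKFlat E :=
  isKFlat_of_bddAbove_flat E b (fun n hn => hv n (Or.inr hn)) hflat

theorem hasTorAmplitudeIn_toD (E : CochainComplex X.Modules ℤ) (a b : ℤ)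
    (hv : DCoh.VanishesOutside E a b) (hflat : ∀ i : ℤ, FlatMod.IsFlat (E.X i)) :
    DCoh.HasTorAmplitudeIn a b (DCoh.toD X E) := by
  intro F _ i hi
  exact IsZero.of_iso (isZero_homology_twX_of_isZero E F i (hv i hi))
    (hdIso F E (isKFlat_of_vanishesOutside E a b hv hflat) i)

theorem hasTorAmplitudeIn_of_iso {K K' : DCoh.D X} (e : K ≅ K') (a b : ℤ)
    (h : DCoh.HasTorAmplitudeIn a b K) : DCoh.HasTorAmplitudeIn a b K' := by
  intro F _ i hi
  exact IsZero.of_iso (h F i hi)
    ((DerivedCategory.homologyFunctor X.Modules i).mapIso ((DCoh.LTensorMod F).mapIso e.symm))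

theorem hasTorAmplitudeIn_of_flatAmp (K : DCoh.D X) (a b : ℤ)
    (h : DCoh.HasFlatAmplitudeIn a b K) : DCoh.HasTorAmplitudeIn a b K := by
  obtain ⟨E, hv, hfl, ⟨e⟩⟩ := h
  exact hasTorAmplitudeIn_of_iso e a b (hasTorAmplitudeIn_toD E a b hv hfl)

theorem hasTorAmplitudeIn_of_retract {K K' : DCoh.D X} (i : K ⟶ K') (r : K' ⟶ K)
    (hir : i ≫ r = 𝟙 K) (a b : ℤ) (h : DCoh.HasTorAmplitudeIn a b K') :
    DCoh.HasTorAmplitudeIn a b K := by
  intro F _ n hn
  have hz := h F n hn
  rw [IsZero.iff_id_eq_zero]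
  have h1 : 𝟙 (DCoh.HD ((DCoh.LTensorMod F).obj K) n) =
      (DerivedCategory.homologyFunctor X.Modules n).map ((DCoh.LTensorMod F).map i) ≫
        (DerivedCategory.homologyFunctor X.Modules n).map ((DCoh.LTensorMod F).map r) := by
    rw [← Functor.map_comp, ← Functor.map_comp, hir, CategoryTheory.Functor.map_id,
      CategoryTheory.Functor.map_id]
  rw [h1, hz.eq_of_tgt ((DerivedCategory.homologyFunctor X.Modules n).map
    ((DCoh.LTensorMod F).map i)) 0, zero_comp]

end Groth.Agent.Lib.Helper12.LTK
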