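import Groth.Agent.Lib.Helper12.LTK3
import Groth.Agent.Lib.Helper12.FreeRes7

set_option autoImplicit false
universe u
open CategoryTheory CategoryTheory.Limits AlgebraicGeometry

attribute [local instance] HasDerivedCategory.standard

namespace Groth.Agent.Lib.Helper12.LTK

open ModSite Groth.Agent.Lib.Helper42.Flat Groth.Agent.Lib.Helper42.Flat2
  Groth.Agent.Lib.Helper42.TensorColim Groth.Agent.Lib.Helper42.FlatCx
open Groth.Agent.Lib.Helper12

variable {X : Scheme.{u}}

noncomputable abbrev sgX (F : X.Modules) : CochainComplex X.Modules ℤ :=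
  (HomologicalComplex.single X.Modules (ComplexShape.up ℤ) 0).obj F

noncomputable def inDIso (F : X.Modules) : DCoh.inD X F ≅ DCoh.toD X (sgX F) :=
  (DerivedCategory.singleFunctorIsoCompQ X.Modules 0).app F

theorem flatMod_of_iso {M N : X.Modules} (e : M ≅ N) (h : FlatMod.IsFlat M) : FlatMod.IsFlat N :=
  (FlatBridge.isFlat_iff_flatMod N).mp
    (isFlat_of_iso X.sheaf e (FlatBridge.isFlat_of_flatMod M h))

theorem vanishesOutside_sgX (F : X.Modules) : DCoh.VanishesOutside (sgX F) 0 0 := by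
  intro i hi
  exact HomologicalComplex.isZero_single_obj_X (ComplexShape.up ℤ) 0 F i (by omega)

theorem flatMod_sgX (F : X.Modules) (hF : FlatMod.IsFlat F) (i : ℤ) :
    FlatMod.IsFlat ((sgX F).X i) :=
  (FlatBridge.isFlat_iff_flatMod _).mp
    (KFlat.isFlat_single (O := X.sheaf) 0 F (FlatBridge.isFlat_of_flatMod F hF) i)

theorem hasTorAmplitudeIn_inD_of_flat (F : X.Modules) (hF : FlatMod.IsFlat F) :
    DCoh.HasTorAmplitudeIn 0 0 (DCoh.inD X F) :=
  hasTorAmplitudeIn_of_iso (inDIso F).symm 0 0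
    (hasTorAmplitudeIn_toD (sgX F) 0 0 (vanishesOutside_sgX F) (flatMod_sgX F hF))

theorem exists_resolution_sgX (F : X.Modules) :
    ∃ (R : CochainComplex X.Modules ℤ) (q : R ⟶ sgX F), QuasiIso q ∧ (∀ i, 0 < i → IsZero (R.X i)) ∧
      (∀ i, FlatMod.IsFlat (R.X i)) ∧ DCoh.IsKFlat R := by
  obtain ⟨R, q, hq, hb, hfl, hK⟩ := FreeRes.exists_bddLE_flat_resolution (O := X.sheaf) (sgX F) 0
    (fun i hi => HomologicalComplex.isZero_single_obj_X (ComplexShape.up ℤ) 0 F i (by omega))
  exact ⟨R, q, hq, hb, fun i => (FlatBridge.isFlat_iff_flatMod _).mp (hfl i), hK⟩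

theorem flat_of_tor_one_vanishes (F : X.Modules) (hL : ∀ G : X.Modules, DCoh.HasLTensorMod G)
    (h : ∀ (G : X.Modules) [DCoh.HasLTensorMod G],
      IsZero (DCoh.HD ((DCoh.LTensorMod G).obj (DCoh.inD X F)) (-1))) : FlatMod.IsFlat F := by
  obtain ⟨R, q, hq, hb, hfl, hK⟩ := exists_resolution_sgX F
  have e : DCoh.toD X R ≅ DCoh.inD X F :=
    @asIso _ _ _ _ (DerivedCategory.Q.map q) inferInstance ≪≫ (inDIso F).symm
  have hv : ∀ G : X.Modules, IsZero (((twX G).obj R).homology (0 - 1)) := by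
    intro G
    have h01 : (0 : ℤ) - 1 = -1 := by norm_num
    rw [h01]
    have := hL G
    have h1 : IsZero (DCoh.HD ((DCoh.LTensorMod G).obj (DCoh.toD X R)) (-1)) :=
      IsZero.of_iso (h G) ((DerivedCategory.homologyFunctor X.Modules (-1)).mapIso
        ((DCoh.LTensorMod G).mapIso e))
    exact IsZero.of_iso h1 (hdIso G R hK (-1)).symm
  have hc := flat_cokernel_of_vanishing R 0 (hfl 0) hv
  have e2 : cokernel (R.d (0 - 1) 0) ≅ F :=
    (FreeRes.homologyIsoCokernel R (0 - 1) 0 1 (by omega) (by omega) (hb 1 (by omega))).symm ≪≫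
      @asIso _ _ _ _ (HomologicalComplex.homologyMap q 0) inferInstance ≪≫
      HomologicalComplex.singleObjHomologySelfIso (ComplexShape.up ℤ) 0 F
  exact flatMod_of_iso e2 hc

end Groth.Agent.Lib.Helper12.LTK
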