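import Groth.Agent.Lib.Helper12.LTK4
import Groth.Agent.Lib.Helper42.Proj

set_option autoImplicit false
universe u
open CategoryTheory CategoryTheory.Limits AlgebraicGeometry

attribute [local instance] HasDerivedCategory.standard

namespace Groth.Agent.Lib.Helper12.LTK

open ModSite Groth.Agent.Lib.Helper42.Flat Groth.Agent.Lib.Helper42.Flat2
  Groth.Agent.Lib.Helper42.TensorColim Groth.Agent.Lib.Helper42.FlatCx
open Groth.Agent.Lib.Helper12

variable {X : Scheme.{u}}

noncomputable abbrev unitX (X : Scheme.{u}) : X.Modules := ModSite.unit X.sheaf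

noncomputable def tensRUnitIso : DCoh.tensorRightMod (unitX X) ≅ 𝟭 X.Modules :=
  (tensLRIso X.sheaf (ModSite.unit X.sheaf)).symm ≪≫
    Groth.Agent.Lib.Helper42.Proj.tensLUnitIso X.sheaf

noncomputable def twUnitIso (P : CochainComplex X.Modules ℤ) : (twX (unitX X)).obj P ≅ P :=
  (NatIso.mapHomologicalComplex tensRUnitIso (ComplexShape.up ℤ)).app P ≪≫
    (Functor.mapHomologicalComplexIdIso X.Modules (ComplexShape.up ℤ)).app P

theorem isZero_homology_of_torAmp (P : CochainComplex X.Modules ℤ) (hK : DCoh.IsKFlat P)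
    [DCoh.HasLTensorMod (unitX X)] (a b : ℤ)
    (hE : DCoh.HasTorAmplitudeIn a b (DCoh.toD X P)) (i : ℤ) (hi : i < a ∨ b < i) :
    IsZero (P.homology i) :=
  IsZero.of_iso (isZero_homology_twX_of_torAmp P hK (unitX X) a b hE i hi)
    ((HomologicalComplex.homologyFunctor X.Modules (ComplexShape.up ℤ) i).mapIso
      (twUnitIso P).symm)

noncomputable def opcyclesIsoCokernel (K : CochainComplex X.Modules ℤ) (i j : ℤ)
    (hij : i + 1 = j) : K.opcycles j ≅ cokernel (K.d i j) := by
  have h1 := K.opcyclesIsCokernel i j (by simp; omega)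
  have h2 := cokernelIsCokernel (K.d i j)
  have e := IsColimit.coconePointUniqueUpToIso h1 h2
  exact e

noncomputable def qIso {K L : CochainComplex X.Modules ℤ} (f : K ⟶ L) (hf : QuasiIso f) :
    DCoh.toD X K ≅ DCoh.toD X L :=
  @asIso _ _ _ _ (DerivedCategory.Q.map f) ((DerivedCategory.isIso_Q_map_iff_quasiIso X.Modules f).mpr hf)

theorem flatMod_of_isZero (M : X.Modules) (h : IsZero M) : FlatMod.IsFlat M :=
  (FlatBridge.isFlat_iff_flatMod M).mp (isFlat_of_isZero (O := X.sheaf) M h)

theorem hasFlatAmplitudeIn_of_torAmp (E : DCoh.D X) (a b : ℤ) (hab : a ≤ b)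
    (hL : ∀ G : X.Modules, DCoh.HasLTensorMod G) (hE : DCoh.HasTorAmplitudeIn a b E) :
    DCoh.HasFlatAmplitudeIn a b E := by
  have := hL (unitX X)
  let K₀ : CochainComplex X.Modules ℤ := DerivedCategory.Q.objPreimage E
  let e₀ : DerivedCategory.Q.obj K₀ ≅ E := DerivedCategory.Q.objObjPreimageIso E
  let P : CochainComplex X.Modules ℤ := (KFlat.resFunctor X.sheaf).obj K₀
  have hPK : DCoh.IsKFlat P := KFlat.isKFlat_resFunctor_obj K₀
  have hp : QuasiIso ((KFlat.resNat X.sheaf).app K₀) := KFlat.quasiIso_resNat_app K₀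
  let eP : DCoh.toD X P ≅ E :=
    qIso ((KFlat.resNat X.sheaf).app K₀) hp ≪≫ e₀
  have hEP : DCoh.HasTorAmplitudeIn a b (DCoh.toD X P) := hasTorAmplitudeIn_of_iso eP.symm a b hE
  have hPle : P.IsLE b := by
    rw [CochainComplex.isLE_iff]
    intro i hi
    rw [HomologicalComplex.exactAt_iff_isZero_homology]
    exact isZero_homology_of_torAmp P hPK a b hEP i (Or.inr hi)
  have hι : QuasiIso (P.ιTruncLE b) := (CochainComplex.quasiIso_ιTruncLE_iff P b).mpr hPle
  obtain ⟨R, q, hq, hRb, hRfl, hRK⟩ :=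
    FreeRes.exists_bddLE_flat_resolution (O := X.sheaf) (P.truncLE b) b
      (fun i hi => CochainComplex.isZero_of_isStrictlyLE (P.truncLE b) b i hi)
  let eR : DCoh.toD X R ≅ E :=
    qIso q hq ≪≫ qIso (P.ιTruncLE b) hι ≪≫ eP
  have hER : DCoh.HasTorAmplitudeIn a b (DCoh.toD X R) := hasTorAmplitudeIn_of_iso eR.symm a b hE
  have hRge : R.IsGE a := by
    rw [CochainComplex.isGE_iff]
    intro i hi
    rw [HomologicalComplex.exactAt_iff_isZero_homology]
    exact isZero_homology_of_torAmp R hRK a b hER i (Or.inl hi)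
  have hπ : QuasiIso (R.πTruncGE a) := (CochainComplex.quasiIso_πTruncGE_iff R a).mpr hRge
  have hRflX : ∀ i, FlatMod.IsFlat (R.X i) := fun i => (FlatBridge.isFlat_iff_flatMod _).mp (hRfl i)
  refine ⟨R.truncGE a, ?_, ?_, ⟨(qIso (R.πTruncGE a) hπ).symm ≪≫ eR⟩⟩
  · intro i hi
    rcases hi with hi | hi
    · exact CochainComplex.isZero_of_isStrictlyGE (R.truncGE a) a i hi
    · exact IsZero.of_iso (hRb i hi) (CochainComplex.truncGEXIso R a i (by omega))
  · intro i
    rcases lt_trichotomy i a with hi | hi | hi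
    · exact flatMod_of_isZero _ (CochainComplex.isZero_of_isStrictlyGE (R.truncGE a) a i hi)
    · subst hi
      have hc : FlatMod.IsFlat (cokernel (R.d (i - 1) i)) :=
        flat_cokernel_of_vanishing R i (hRflX i) (fun G => by
          have := hL G
          exact isZero_homology_twX_of_torAmp R hRK G i b hER (i - 1) (Or.inl (by omega)))
      exact flatMod_of_iso ((CochainComplex.truncGEXIsoOpcycles R i ≪≫
        opcyclesIsoCokernel R (i - 1) i (by omega)).symm) hc
    · exact flatMod_of_iso (CochainComplex.truncGEXIso R a i hi).symm (hRflX i)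

end Groth.Agent.Lib.Helper12.LTK
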