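import Groth.Agent.Lib.Helper12.LTK5

set_option autoImplicit false
universe u
open CategoryTheory CategoryTheory.Limits AlgebraicGeometry CategoryTheory.Pretriangulated

attribute [local instance] HasDerivedCategory.standard

namespace Groth.Agent.Lib.Helper12.LTK

open ModSite Groth.Agent.Lib.Helper42.Flat Groth.Agent.Lib.Helper42.Flat2
  Groth.Agent.Lib.Helper42.TensorColim Groth.Agent.Lib.Helper42.FlatCx
open Groth.Agent.Lib.Helper12

variable {X : Scheme.{u}}

section ConeMiddle

universe v₂ u₂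

variable {A : Type u₂} [Category.{v₂} A] [Abelian A]

open CochainComplex in
theorem isZero_homology_of_cone {K L : CochainComplex A ℤ} (φ : K ⟶ L) (n : ℤ)
    (h₁ : IsZero (K.homology n)) (h₃ : IsZero ((mappingCone φ).homology n)) :
    IsZero (L.homology n) := by
  let F := HomotopyCategory.homologyFunctor A (ComplexShape.up ℤ) 0
  have hT := HomotopyCategory.mappingCone_triangleh_distinguished φ
  have e := F.homologySequence_exact₂ _ hT n
  have iso : ∀ M : CochainComplex A ℤ, IsZero (M.homology n) →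
      IsZero ((F.shift n).obj ((HomotopyCategory.quotient A (ComplexShape.up ℤ)).obj M)) := by
    intro M hM
    exact IsZero.of_iso hM
      ((HomotopyCategory.homologyFunctorFactors A (ComplexShape.up ℤ) n).app M)
  have z := e.isZero_X₂ ((iso K h₁).eq_of_src _ _) ((iso _ h₃).eq_of_tgt _ _)
  exact IsZero.of_iso z
    ((HomotopyCategory.homologyFunctorFactors A (ComplexShape.up ℤ) n).app L).symm

end ConeMiddle

open CochainComplex in
theorem exists_kflat_model (T : Triangle (DCoh.D X)) (hT : T ∈ distTriang (DCoh.D X)) :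
    ∃ (P P' : CochainComplex X.Modules ℤ) (g : P ⟶ P'), DCoh.IsKFlat P ∧ DCoh.IsKFlat P' ∧
      Nonempty (T.obj₁ ≅ DCoh.toD X P) ∧ Nonempty (T.obj₂ ≅ DCoh.toD X P') ∧
      Nonempty (T.obj₃ ≅ DCoh.toD X (mappingCone g)) := by
  obtain ⟨K, L, f, ⟨e⟩⟩ := (DerivedCategory.mem_distTriang_iff T).mp hT
  let P : CochainComplex X.Modules ℤ := (KFlat.resFunctor X.sheaf).obj K
  let P' : CochainComplex X.Modules ℤ := (KFlat.resFunctor X.sheaf).obj L
  let g : P ⟶ P' := (KFlat.resFunctor X.sheaf).map f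
  let pK : P ⟶ K := (KFlat.resNat X.sheaf).app K
  let pL : P' ⟶ L := (KFlat.resNat X.sheaf).app L
  have hpK : QuasiIso pK := KFlat.quasiIso_resNat_app K
  have hpL : QuasiIso pL := KFlat.quasiIso_resNat_app L
  have comm : g ≫ pL = pK ≫ f := (KFlat.resNat X.sheaf).naturality f
  let tm := mappingCone.triangleMap g f pK pL comm
  let φ := DerivedCategory.Q.mapTriangle.map tm
  have i1 : IsIso φ.hom₁ := (DerivedCategory.isIso_Q_map_iff_quasiIso X.Modules pK).mpr hpK
  have i2 : IsIso φ.hom₂ := (DerivedCategory.isIso_Q_map_iff_quasiIso X.Modules pL).mpr hpL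
  have i3 : IsIso φ.hom₃ := isIso₃_of_isIso₁₂ φ
    (DerivedCategory.mappingCone_triangle_distinguished g)
    (DerivedCategory.mappingCone_triangle_distinguished f) i1 i2
  refine ⟨P, P', g, KFlat.isKFlat_resFunctor_obj K, KFlat.isKFlat_resFunctor_obj L,
    ⟨Triangle.π₁.mapIso e ≪≫ (asIso φ.hom₁).symm⟩, ⟨Triangle.π₂.mapIso e ≪≫ (asIso φ.hom₂).symm⟩,
    ⟨Triangle.π₃.mapIso e ≪≫ (asIso φ.hom₃).symm⟩⟩

theorem hasTorAmplitudeIn_middle (T : Triangle (DCoh.D X)) (hT : T ∈ distTriang (DCoh.D X))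
    (a b : ℤ) (h₁ : DCoh.HasTorAmplitudeIn a b T.obj₁) (h₃ : DCoh.HasTorAmplitudeIn a b T.obj₃) :
    DCoh.HasTorAmplitudeIn a b T.obj₂ := by
  obtain ⟨P, P', g, hP, hP', ⟨e₁⟩, ⟨e₂⟩, ⟨e₃⟩⟩ := exists_kflat_model T hT
  refine hasTorAmplitudeIn_of_iso e₂.symm a b ?_
  intro F _ i hi
  have hC : DCoh.IsKFlat (CochainComplex.mappingCone g) := (KFlat.isKFlat_cone g).1 hP hP'
  have z₁ : IsZero (((twX F).obj P).homology i) :=
    isZero_homology_twX_of_torAmp P hP F a b (hasTorAmplitudeIn_of_iso e₁ a b h₁) i hi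
  have z₃ : IsZero (((twX F).obj (CochainComplex.mappingCone g)).homology i) :=
    isZero_homology_twX_of_torAmp _ hC F a b (hasTorAmplitudeIn_of_iso e₃ a b h₃) i hi
  have z₃' : IsZero ((CochainComplex.mappingCone ((twX F).map g)).homology i) :=
    IsZero.of_iso z₃ ((HomologicalComplex.homologyFunctor X.Modules (ComplexShape.up ℤ) i).mapIso
      (CochainComplex.mappingCone.mapHomologicalComplexIso g (DCoh.tensorRightMod F)).symm)
  exact IsZero.of_iso (isZero_homology_of_cone ((twX F).map g) i z₁ z₃') (hdIso F P' hP' i)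

end Groth.Agent.Lib.Helper12.LTK
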