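import Groth.Agent.Lib.Helper12.LTK6

set_option autoImplicit false
universe u
open CategoryTheory CategoryTheory.Limits AlgebraicGeometry CategoryTheory.Pretriangulated

attribute [local instance] HasDerivedCategory.standard

namespace Groth.Agent.Lib.Helper12.LTK

variable {X : Scheme.{u}}

theorem hasFlatAmplitudeIn_shift (K : DCoh.D X) (a b n a' b' : ℤ) (ha : a' + n = a)
    (hb : b' + n = b) (h : DCoh.HasFlatAmplitudeIn a b K) :
    DCoh.HasFlatAmplitudeIn a' b' (K⟦n⟧) := by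
  obtain ⟨E, hv, hfl, ⟨e⟩⟩ := h
  refine ⟨E⟦n⟧, ?_, ?_, ⟨(DerivedCategory.Q.commShiftIso n).app E ≪≫
    (shiftFunctor (DCoh.D X) n).mapIso e⟩⟩
  · intro i hi
    exact hv (i + n) (by omega)
  · intro i
    exact hfl (i + n)

theorem torAmp_triangle (T : Triangle (DCoh.D X)) (hT : T ∈ distTriang (DCoh.D X)) (a b : ℤ) :
    (DCoh.HasFlatAmplitudeIn (a + 1) (b + 1) T.obj₁ → DCoh.HasFlatAmplitudeIn a b T.obj₂ →
      DCoh.HasTorAmplitudeIn a b T.obj₃) ∧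
    (DCoh.HasFlatAmplitudeIn a b T.obj₁ → DCoh.HasFlatAmplitudeIn a b T.obj₃ →
      DCoh.HasTorAmplitudeIn a b T.obj₂) ∧
    (DCoh.HasFlatAmplitudeIn (a + 1) (b + 1) T.obj₂ → DCoh.HasFlatAmplitudeIn a b T.obj₃ →
      DCoh.HasTorAmplitudeIn (a + 1) (b + 1) T.obj₁) := by
  refine ⟨fun h₁ h₂ => ?_, fun h₁ h₃ => ?_, fun h₂ h₃ => ?_⟩
  · exact hasTorAmplitudeIn_middle T.rotate (rot_of_distTriang _ hT) a b
      (hasTorAmplitudeIn_of_flatAmp _ a b h₂)
      (hasTorAmplitudeIn_of_flatAmp _ a b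
        (hasFlatAmplitudeIn_shift T.obj₁ (a + 1) (b + 1) 1 a b rfl rfl h₁))
  · exact hasTorAmplitudeIn_middle T hT a b (hasTorAmplitudeIn_of_flatAmp _ a b h₁)
      (hasTorAmplitudeIn_of_flatAmp _ a b h₃)
  · exact hasTorAmplitudeIn_middle T.invRotate (inv_rot_of_distTriang _ hT) (a + 1) (b + 1)
      (hasTorAmplitudeIn_of_flatAmp _ (a + 1) (b + 1)
        (hasFlatAmplitudeIn_shift T.obj₃ a b (-1) (a + 1) (b + 1) (by omega) (by omega) h₃))
      (hasTorAmplitudeIn_of_flatAmp _ (a + 1) (b + 1) h₂)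

end Groth.Agent.Lib.Helper12.LTK
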