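import Groth.Agent.Lib.Helper12.KFlat25
import Groth.Prelude.Def_KFlatSite

set_option autoImplicit false
universe u
open CategoryTheory CategoryTheory.Limits

attribute [local instance] HasDerivedCategory.standard

namespace Groth.Agent.Lib.Helper12.LTS

open ModSite Groth.Agent.Lib.Helper42.Flat Groth.Agent.Lib.Helper42.Flat2
  Groth.Agent.Lib.Helper42.TensorColim Groth.Agent.Lib.Helper42.FlatCx
open Groth.Agent.Lib.Helper12

variable {C : Type u} [SmallCategory C] {J : GrothendieckTopology C} {O : Sheaf J CommRingCat.{u}}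

theorem tensorCxQ_eq (E : CochainComplex (Mod O) ℤ) :
    ModSite.tensorCxQ E = KFlat.RT E ⋙ DerivedCategory.Q := rfl

theorem isIso_tensorCxQ_map (E : CochainComplex (Mod O) ℤ) {P P' : CochainComplex (Mod O) ℤ}
    (f : P ⟶ P') (hf : QuasiIso f) (hP : IsKFlat P) (hP' : IsKFlat P') :
    IsIso ((ModSite.tensorCxQ E).map f) := by
  have h1 : QuasiIso ((KFlat.RT E).map f) := KFlat.quasiIso_tensor_right' E f hP hP'
  exact (DerivedCategory.isIso_Q_map_iff_quasiIso (Mod O) ((KFlat.RT E).map f)).mpr h1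

theorem isIso_tensorCxQ_map' (L : CochainComplex (Mod O) ℤ) (hL : IsKFlat L)
    {P P' : CochainComplex (Mod O) ℤ} (f : P ⟶ P') (hf : QuasiIso f) :
    IsIso ((ModSite.tensorCxQ L).map f) := by
  have h1 : QuasiIso ((KFlat.RT L).map f) := KFlat.quasiIso_tensor_right L hL f
  exact (DerivedCategory.isIso_Q_map_iff_quasiIso (Mod O) ((KFlat.RT L).map f)).mpr h1

section Counit

variable (E : CochainComplex (Mod O) ℤ) [ModSite.HasLTensorCx E]

noncomputable def cou : DerivedCategory.Q ⋙ ModSite.LTensorCx E ⟶ ModSite.tensorCxQ E :=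
  (ModSite.tensorCxQ E).totalLeftDerivedCounit DerivedCategory.Q (KFlat.qisCx O)

instance : (ModSite.LTensorCx E).IsLeftDerivedFunctor (cou E) (KFlat.qisCx O) := by
  unfold cou
  infer_instance

theorem isIso_cou_app_of_isKFlat (P : CochainComplex (Mod O) ℤ) (hP : IsKFlat P) :
    IsIso ((cou E).app P) := by
  refine KFlat.isIso_counit_app_of_isKFlat O (ModSite.tensorCxQ E) ?_
    DerivedCategory.Q (ModSite.LTensorCx E) (cou E) P hP
  intro P P' f hP hP' hf
  exact isIso_tensorCxQ_map E f hf hP hP'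

theorem isIso_cou_app_of_isKFlat' (hE : IsKFlat E) (F : CochainComplex (Mod O) ℤ) :
    IsIso ((cou E).app F) := by
  have hF : (KFlat.qisCx O).IsInvertedBy (ModSite.tensorCxQ E) := by
    intro P P' f hf
    exact isIso_tensorCxQ_map' E hE f hf
  exact LDer.isIso_app_of_inverts hF (cou E) F

theorem isIso_cou_of_isKFlat (hE : IsKFlat E) : IsIso (cou E) := by
  have : ∀ F, IsIso ((cou E).app F) := fun F => isIso_cou_app_of_isKFlat' E hE F
  exact NatIso.isIso_of_isIso_app _

end Counit

end Groth.Agent.Lib.Helper12.LTS
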