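import Groth.Agent.Lib.Helper12.LTS

set_option autoImplicit false
universe u
open CategoryTheory CategoryTheory.Limits

namespace Groth.Agent.Lib.Helper12.LTS

open ModSite Groth.Agent.Lib.Helper42.Flat Groth.Agent.Lib.Helper42.Flat2
  Groth.Agent.Lib.Helper42.TensorColim Groth.Agent.Lib.Helper42.FlatCx
open Groth.Agent.Lib.Helper12 Groth.Agent.Lib.Helper12.KFlat

variable {C : Type u} [SmallCategory C] {J : GrothendieckTopology C} {O : Sheaf J CommRingCat.{u}}

section SingleLeft

variable (F K : CochainComplex (Mod O) ℤ)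

theorem isIso_ιT_left (hz : ∀ p, p ≠ 0 → IsZero (F.X p)) (q n : ℤ) (h : 0 + q = n) :
    IsIso (ιT F K 0 q n h) := by
  have := isIso_coc_ι F K n ⟨(0, q), h⟩ (by
    rintro ⟨⟨p', q'⟩, hpq'⟩ hne
    have hp : p' ≠ 0 := by
      intro hp
      apply hne
      subst hp
      have hq : q' = q := by
        have h1 : 0 + q' = n := hpq'
        omega
      subst hq
      rfl
    exact (Functor.map_isZero (tensorBi O) (hz p' hp)).obj (K.X q'))
  exact this

theorem ιT_d_left (hz : ∀ p, p ≠ 0 → IsZero (F.X p)) (q q' n n' : ℤ) (h : 0 + q = n)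
    (h' : 0 + q' = n') (hq : q + 1 = q') :
    ιT F K 0 q n h ≫ (T F K).d n n' =
      ((tensorBi O).obj (F.X 0)).map (K.d q q') ≫ ιT F K 0 q' n' h' := by
  have hd : (T F K).d n n' = HomologicalComplex.mapBifunctor.D₁ F K (tensorBi O) _ n n' +
      HomologicalComplex.mapBifunctor.D₂ F K (tensorBi O) _ n n' := rfl
  rw [hd, Preadditive.comp_add, HomologicalComplex.mapBifunctor.ι_D₁,
    HomologicalComplex.mapBifunctor.ι_D₂]
  have h1 : HomologicalComplex.mapBifunctor.d₁ F K (tensorBi O) (ComplexShape.up ℤ) 0 q n' = 0 := by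
    rw [HomologicalComplex.mapBifunctor.d₁_eq' F K (tensorBi O) (ComplexShape.up ℤ)
      (show (ComplexShape.up ℤ).Rel 0 (0 + 1) from rfl) q n']
    have : F.d 0 (0 + 1) = 0 := (hz (0 + 1) (by omega)).eq_of_tgt _ _
    rw [this, Functor.map_zero, Limits.zero_app, zero_comp, smul_zero]
  rw [h1, zero_add,
    HomologicalComplex.mapBifunctor.d₂_eq F K (tensorBi O) (ComplexShape.up ℤ) 0
      (show (ComplexShape.up ℤ).Rel q q' from hq) n' h']
  simp

end SingleLeft

section TL

variable (E : CochainComplex (Mod O) ℤ)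

noncomputable def tl : Mod O ⥤ CochainComplex (Mod O) ℤ where
  obj M := (((tensorBi O).obj M).mapHomologicalComplex (ComplexShape.up ℤ)).obj E
  map f := (NatTrans.mapHomologicalComplex ((tensorBi O).map f) (ComplexShape.up ℤ)).app E
  map_id M := by
    ext n
    simp
  map_comp f g := by
    ext n
    simp

noncomputable abbrev sl : Mod O ⥤ CochainComplex (Mod O) ℤ :=
  HomologicalComplex.single (Mod O) (ComplexShape.up ℤ) 0 ⋙ RT E

noncomputable def slHom (M : Mod O) (n : ℤ) :
    ((tensorBi O).obj M).obj (E.X n) ⟶ (T (sg M) E).X n :=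
  ((tensorBi O).map (HomologicalComplex.singleObjXSelf (ComplexShape.up ℤ) 0 M).inv).app (E.X n) ≫
    ιT (sg M) E 0 n n (zero_add n)

theorem isIso_slHom (M : Mod O) (n : ℤ) : IsIso (slHom E M n) := by
  have := isIso_ιT_left (sg M) E (isZero_sg_X M) n n (zero_add n)
  unfold slHom
  infer_instance

theorem slHom_d (M : Mod O) (n n' : ℤ) (hn : n + 1 = n') :
    slHom E M n ≫ (T (sg M) E).d n n' =
      ((tensorBi O).obj M).map (E.d n n') ≫ slHom E M n' := by
  have h1 := ιT_d_left (sg M) E (isZero_sg_X M) n n' n n' (zero_add n) (zero_add n') hn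
  have h2 := ((tensorBi O).map
    (HomologicalComplex.singleObjXSelf (ComplexShape.up ℤ) 0 M).inv).naturality (E.d n n')
  calc slHom E M n ≫ (T (sg M) E).d n n'
      = ((tensorBi O).map (HomologicalComplex.singleObjXSelf (ComplexShape.up ℤ) 0 M).inv).app
          (E.X n) ≫ (ιT (sg M) E 0 n n (zero_add n) ≫ (T (sg M) E).d n n') :=
        Category.assoc _ _ _
    _ = ((tensorBi O).map (HomologicalComplex.singleObjXSelf (ComplexShape.up ℤ) 0 M).inv).app
          (E.X n) ≫ (((tensorBi O).obj ((sg M).X 0)).map (E.d n n') ≫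
            ιT (sg M) E 0 n' n' (zero_add n')) := by rw [h1]
    _ = (((tensorBi O).map (HomologicalComplex.singleObjXSelf (ComplexShape.up ℤ) 0 M).inv).app
          (E.X n) ≫ ((tensorBi O).obj ((sg M).X 0)).map (E.d n n')) ≫
            ιT (sg M) E 0 n' n' (zero_add n') := (Category.assoc _ _ _).symm
    _ = (((tensorBi O).obj M).map (E.d n n') ≫
          ((tensorBi O).map (HomologicalComplex.singleObjXSelf (ComplexShape.up ℤ) 0 M).inv).app
          (E.X n')) ≫ ιT (sg M) E 0 n' n' (zero_add n') := by rw [h2]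
    _ = _ := Category.assoc _ _ _

theorem slHom_naturality {M N : Mod O} (f : M ⟶ N) (n : ℤ) :
    ((tensorBi O).map f).app (E.X n) ≫ slHom E N n =
      slHom E M n ≫ (((tensorCx O).map
        ((HomologicalComplex.single (Mod O) (ComplexShape.up ℤ) 0).map f)).app E).f n := by
  have h1 := coc_ι_map₁ E ((HomologicalComplex.single (Mod O) (ComplexShape.up ℤ) 0).map f) n
    ⟨⟨(0, n), zero_add n⟩⟩
  have h1' : ιT (sg M) E 0 n n (zero_add n) ≫ (((tensorCx O).map
        ((HomologicalComplex.single (Mod O) (ComplexShape.up ℤ) 0).map f)).app E).f n =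
      ((tensorBi O).map (((HomologicalComplex.single (Mod O) (ComplexShape.up ℤ) 0).map f).f 0)).app
        (E.X n) ≫ ιT (sg N) E 0 n n (zero_add n) := h1
  have h2 : f ≫ (HomologicalComplex.singleObjXSelf (ComplexShape.up ℤ) 0 N).inv =
      (HomologicalComplex.singleObjXSelf (ComplexShape.up ℤ) 0 M).inv ≫
        ((HomologicalComplex.single (Mod O) (ComplexShape.up ℤ) 0).map f).f 0 := by
    rw [HomologicalComplex.single_map_f_self]
    simp
  have h3 : ((tensorBi O).map f).app (E.X n) ≫
      ((tensorBi O).map (HomologicalComplex.singleObjXSelf (ComplexShape.up ℤ) 0 N).inv).app (E.X n) =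
      ((tensorBi O).map (HomologicalComplex.singleObjXSelf (ComplexShape.up ℤ) 0 M).inv).app (E.X n) ≫
      ((tensorBi O).map (((HomologicalComplex.single (Mod O) (ComplexShape.up ℤ) 0).map f).f 0)).app
        (E.X n) := by
    rw [← NatTrans.comp_app, ← NatTrans.comp_app, ← Functor.map_comp, ← Functor.map_comp, h2]
  have e1 : ((tensorBi O).map f).app (E.X n) ≫ slHom E N n
      = (((tensorBi O).map f).app (E.X n) ≫
        ((tensorBi O).map (HomologicalComplex.singleObjXSelf (ComplexShape.up ℤ) 0 N).inv).app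
          (E.X n)) ≫ ιT (sg N) E 0 n n (zero_add n) := (Category.assoc _ _ _).symm
  have e2 : (((tensorBi O).map (HomologicalComplex.singleObjXSelf (ComplexShape.up ℤ) 0 M).inv).app
          (E.X n) ≫
        ((tensorBi O).map (((HomologicalComplex.single (Mod O) (ComplexShape.up ℤ) 0).map f).f 0)).app
          (E.X n)) ≫ ιT (sg N) E 0 n n (zero_add n) =
      ((tensorBi O).map (HomologicalComplex.singleObjXSelf (ComplexShape.up ℤ) 0 M).inv).app
          (E.X n) ≫ (ιT (sg M) E 0 n n (zero_add n) ≫ (((tensorCx O).map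
        ((HomologicalComplex.single (Mod O) (ComplexShape.up ℤ) 0).map f)).app E).f n) := by
    rw [Category.assoc, h1']
    rfl
  have e3 : ((tensorBi O).map (HomologicalComplex.singleObjXSelf (ComplexShape.up ℤ) 0 M).inv).app
          (E.X n) ≫ (ιT (sg M) E 0 n n (zero_add n) ≫ (((tensorCx O).map
        ((HomologicalComplex.single (Mod O) (ComplexShape.up ℤ) 0).map f)).app E).f n) =
      slHom E M n ≫ (((tensorCx O).map
        ((HomologicalComplex.single (Mod O) (ComplexShape.up ℤ) 0).map f)).app E).f n :=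
    (Category.assoc _ _ _).symm
  rw [e1, h3, e2, e3]

noncomputable def slIsoApp (M : Mod O) : (tl E).obj M ≅ (sl E).obj M :=
  HomologicalComplex.Hom.isoOfComponents
    (fun n => @asIso _ _ (((tl E).obj M).X n) (((sl E).obj M).X n) (slHom E M n)
      (isIso_slHom E M n))
    (by
      intro i j hij
      exact slHom_d E M i j hij)

theorem slIsoApp_hom_f (M : Mod O) (n : ℤ) : (slIsoApp E M).hom.f n = slHom E M n := rfl

noncomputable def slIso : tl E ≅ sl E :=
  NatIso.ofComponents (fun M => slIsoApp E M) (by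
    intro M N f
    refine HomologicalComplex.hom_ext _ _ (fun n => ?_)
    rw [HomologicalComplex.comp_f, HomologicalComplex.comp_f, slIsoApp_hom_f, slIsoApp_hom_f]
    exact slHom_naturality E f n)

end TL

end Groth.Agent.Lib.Helper12.LTS
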