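import Groth.Agent.Lib.Helper12.LTS2
import Groth.Agent.Lib.Helper12.KFlat26
import Mathlib.CategoryTheory.Functor.Derived.PointwiseLeftDerived

set_option autoImplicit false
universe u
open CategoryTheory CategoryTheory.Limits

attribute [local instance] HasDerivedCategory.standard

namespace Groth.Agent.Lib.Helper12.LTS

open ModSite Groth.Agent.Lib.Helper42.Flat Groth.Agent.Lib.Helper42.Flat2
  Groth.Agent.Lib.Helper42.TensorColim Groth.Agent.Lib.Helper42.FlatCx
open Groth.Agent.Lib.Helper12 Groth.Agent.Lib.Helper12.KFlat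

variable {C : Type u} [SmallCategory C] {J : GrothendieckTopology C} {O : Sheaf J CommRingCat.{u}}

theorem hasLTensorCx_of_isKFlat (P : CochainComplex (Mod O) ℤ) (hP : IsKFlat P) :
    ModSite.HasLTensorCx P := by
  have hF : (KFlat.qisCx O).IsInvertedBy (ModSite.tensorCxQ P) := by
    intro A B f hf
    exact isIso_tensorCxQ_map' P hP f hf
  have := Functor.hasPointwiseLeftDerivedFunctor_of_inverts (ModSite.tensorCxQ P) hF
  exact Functor.hasLeftDerivedFunctor_of_hasPointwiseLeftDerivedFunctor _ _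

section Invariance

variable {P E : CochainComplex (Mod O) ℤ} (φ : P ⟶ E)

noncomputable def tauQ : ModSite.tensorCxQ P ⟶ ModSite.tensorCxQ E :=
  Functor.whiskerRight ((tensorCx O).flip.map φ) DerivedCategory.Q

theorem tauQ_app (K : CochainComplex (Mod O) ℤ) :
    (tauQ φ).app K = DerivedCategory.Q.map (((tensorCx O).obj K).map φ) := rfl

variable [ModSite.HasLTensorCx P] [ModSite.HasLTensorCx E]

noncomputable def ltNat : ModSite.LTensorCx P ⟶ ModSite.LTensorCx E :=
  Functor.leftDerivedNatTrans (ModSite.LTensorCx P) (ModSite.LTensorCx E) (cou P) (cou E)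
    (KFlat.qisCx O) (tauQ φ)

theorem ltNat_app (K : CochainComplex (Mod O) ℤ) :
    (ltNat φ).app (DerivedCategory.Q.obj K) ≫ (cou E).app K = (cou P).app K ≫ (tauQ φ).app K :=
  Functor.leftDerivedNatTrans_app (ModSite.LTensorCx P) (ModSite.LTensorCx E) (cou P) (cou E)
    (KFlat.qisCx O) (tauQ φ) K

theorem isIso_ltNat_app_Q_of_isKFlat [QuasiIso φ] (K : CochainComplex (Mod O) ℤ) (hK : IsKFlat K) :
    IsIso ((ltNat φ).app (DerivedCategory.Q.obj K)) := by
  have h1 : IsIso ((cou E).app K) := isIso_cou_app_of_isKFlat E K hK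
  have h2 : IsIso ((cou P).app K) := isIso_cou_app_of_isKFlat P K hK
  have h3 : IsIso ((tauQ φ).app K) := by
    rw [tauQ_app]
    exact (DerivedCategory.isIso_Q_map_iff_quasiIso (Mod O) _).mpr
      (quasiIso_tensor_left_of_isKFlat K hK φ)
  have h4 : IsIso ((ltNat φ).app (DerivedCategory.Q.obj K) ≫ (cou E).app K) := by
    rw [ltNat_app]
    infer_instance
  exact IsIso.of_isIso_comp_right _ ((cou E).app K)

theorem isIso_ltNat [QuasiIso φ] : IsIso (ltNat φ) := by
  have : ∀ X, IsIso ((ltNat φ).app X) := by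
    intro X
    obtain ⟨K, ⟨e⟩⟩ : ∃ K : CochainComplex (Mod O) ℤ, Nonempty (DerivedCategory.Q.obj K ≅ X) :=
      ⟨_, ⟨DerivedCategory.Q.objObjPreimageIso X⟩⟩
    obtain ⟨K', q, hK', -, hq, -⟩ := exists_isKFlat_resolution K
    have hq' : IsIso (DerivedCategory.Q.map q) :=
      (DerivedCategory.isIso_Q_map_iff_quasiIso (Mod O) q).mpr hq
    have e' : DerivedCategory.Q.obj K' ≅ X := asIso (DerivedCategory.Q.map q) ≪≫ e
    have := isIso_ltNat_app_Q_of_isKFlat φ K' hK'
    exact (NatTrans.isIso_app_iff_of_iso (ltNat φ) e').mp this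
  exact NatIso.isIso_of_isIso_app _

noncomputable def ltIso [QuasiIso φ] : ModSite.LTensorCx P ≅ ModSite.LTensorCx E :=
  @asIso _ _ _ _ (ltNat φ) (isIso_ltNat φ)

end Invariance

end Groth.Agent.Lib.Helper12.LTS
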