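import Groth.Agent.Lib.Helper12.LTS3

set_option autoImplicit false
universe u
open CategoryTheory CategoryTheory.Limits

attribute [local instance] HasDerivedCategory.standard

namespace Groth.Agent.Lib.Helper12.LTS

open ModSite Groth.Agent.Lib.Helper42.Flat Groth.Agent.Lib.Helper42.Flat2
  Groth.Agent.Lib.Helper42.TensorColim Groth.Agent.Lib.Helper42.FlatCx
open Groth.Agent.Lib.Helper12 Groth.Agent.Lib.Helper12.KFlat

variable {C : Type u} [SmallCategory C] {J : GrothendieckTopology C} {O : Sheaf J CommRingCat.{u}}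

section TLProps

variable (E : CochainComplex (Mod O) ℤ)

theorem tl_map_f {M N : Mod O} (f : M ⟶ N) (n : ℤ) :
    ((tl E).map f).f n = ((tensorBi O).map f).app (E.X n) := rfl

instance additive_tl : (tl E).Additive where
  map_add {M N f g} := by
    refine HomologicalComplex.hom_ext _ _ (fun n => ?_)
    rw [HomologicalComplex.add_f_apply, tl_map_f, tl_map_f, tl_map_f, Functor.map_add]
    rfl

theorem shortExact_map_tl (hE : ∀ q, IsFlat (E.X q)) (S : ShortComplex (Mod O))
    (hS : S.ShortExact) : (S.map (tl E)).ShortExact := by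
  apply HomologicalComplex.shortExact_of_degreewise_shortExact
  intro n
  have : PreservesFiniteLimits (tensR O (E.X n)) := (isFlat_iff O _).mp (hE n)
  exact hS.map_of_exact (tensR O (E.X n))

end TLProps

section HIso

variable (E : CochainComplex (Mod O) ℤ) [ModSite.HasLTensorCx E]

noncomputable def couIso (hE : IsKFlat E) :
    DerivedCategory.Q ⋙ ModSite.LTensorCx E ≅ RT E ⋙ DerivedCategory.Q :=
  @asIso _ _ _ _ (cou E) (isIso_cou_of_isKFlat E hE)

noncomputable def hIso (hE : IsKFlat E) (p : ℤ) :
    DerivedCategory.singleFunctor (Mod O) 0 ⋙ ModSite.LTensorCx E ⋙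
      DerivedCategory.homologyFunctor (Mod O) p ≅
    tl E ⋙ HomologicalComplex.homologyFunctor (Mod O) (ComplexShape.up ℤ) p :=
  Functor.isoWhiskerRight (DerivedCategory.singleFunctorIsoCompQ (Mod O) 0) _ ≪≫
    Functor.associator _ _ _ ≪≫
    Functor.isoWhiskerLeft (HomologicalComplex.single (Mod O) (ComplexShape.up ℤ) 0)
      ((Functor.associator _ _ _).symm ≪≫
        Functor.isoWhiskerRight (couIso E hE) _ ≪≫ Functor.associator _ _ _ ≪≫
        Functor.isoWhiskerLeft (RT E) (DerivedCategory.homologyFunctorFactors (Mod O) p)) ≪≫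
    (Functor.associator _ _ _).symm ≪≫
    Functor.isoWhiskerRight (slIso E).symm _

end HIso

end Groth.Agent.Lib.Helper12.LTS
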