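import Mathlib.Algebra.Homology.ShortComplex.HomologicalComplex
import Mathlib.CategoryTheory.Limits.Preserves.Shapes.Kernels
import Mathlib.CategoryTheory.Abelian.Basic

set_option autoImplicit false
universe v₂ u₂
open CategoryTheory CategoryTheory.Limits

namespace Groth.Agent.Lib.Helper12.OpcMono

section Opc

variable {B : Type u₂} [Category.{v₂} B] [Abelian B] {K L : CochainComplex B ℤ} (φ : K ⟶ L)

theorem opcyclesMap_fromOpcycles (i j : ℤ) :
    HomologicalComplex.opcyclesMap φ i ≫ L.fromOpcycles i j =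
      K.fromOpcycles i j ≫ φ.f j := by
  rw [← cancel_epi (K.pOpcycles i), HomologicalComplex.p_opcyclesMap_assoc,
    HomologicalComplex.p_fromOpcycles, HomologicalComplex.p_fromOpcycles_assoc, φ.comm]

theorem mono_homologyMap_of_mono_opcyclesMap (i : ℤ)
    (h : Mono (HomologicalComplex.opcyclesMap φ i)) : Mono (HomologicalComplex.homologyMap φ i) := by
  have h1 : Mono (HomologicalComplex.homologyMap φ i ≫ L.homologyι i) := by
    rw [HomologicalComplex.homologyι_naturality]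
    infer_instance
  exact mono_of_mono _ (L.homologyι i)

theorem mono_opcyclesMap_of_mono_homologyMap (i j : ℤ) (hij : i + 1 = j)
    (h : Mono (HomologicalComplex.homologyMap φ i)) (h' : Mono (φ.f j)) :
    Mono (HomologicalComplex.opcyclesMap φ i) := by
  apply Preadditive.mono_of_cancel_zero
  intro W k hk
  have h1 : k ≫ K.fromOpcycles i j = 0 := by
    rw [← cancel_mono (φ.f j), Category.assoc, ← opcyclesMap_fromOpcycles, reassoc_of% hk,
      zero_comp, zero_comp]
  have hker := K.homologyIsKernel i j (by simp [hij])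
  obtain ⟨l, hl⟩ := KernelFork.IsLimit.lift' hker k h1
  have hl' : l ≫ K.homologyι i = k := hl
  have h2 : l ≫ HomologicalComplex.homologyMap φ i = 0 := by
    rw [← cancel_mono (L.homologyι i), Category.assoc, HomologicalComplex.homologyι_naturality,
      reassoc_of% hl', hk, zero_comp]
  have h3 : l = 0 := by
    rw [← cancel_mono (HomologicalComplex.homologyMap φ i), h2, zero_comp]
  rw [← hl', h3, zero_comp]

end Opc

section Coker

variable {B : Type u₂} [Category.{v₂} B] [Preadditive B]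
  {X₁ X₂ Q Q' Y₁ Y₂ R R' : B} {a : X₁ ⟶ X₂} {b : Y₁ ⟶ Y₂}
  {π : X₂ ⟶ Q} {π' : X₂ ⟶ Q'} {ρ : Y₂ ⟶ R} {ρ' : Y₂ ⟶ R'}
  {wπ : a ≫ π = 0} {wπ' : a ≫ π' = 0} {wρ : b ≫ ρ = 0} {wρ' : b ≫ ρ' = 0}

theorem mono_iff_of_cokernels
    (hQ : IsColimit (CokernelCofork.ofπ π wπ)) (hQ' : IsColimit (CokernelCofork.ofπ π' wπ'))
    (hR : IsColimit (CokernelCofork.ofπ ρ wρ)) (hR' : IsColimit (CokernelCofork.ofπ ρ' wρ'))
    (g₂ : X₂ ⟶ Y₂) (u : Q ⟶ R) (u' : Q' ⟶ R') (hu : π ≫ u = g₂ ≫ ρ) (hu' : π' ≫ u' = g₂ ≫ ρ') :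
    Mono u ↔ Mono u' := by
  let θ : Q ≅ Q' := IsColimit.coconePointUniqueUpToIso hQ hQ'
  let θR : R ≅ R' := IsColimit.coconePointUniqueUpToIso hR hR'
  have hθ : π ≫ θ.hom = π' :=
    IsColimit.comp_coconePointUniqueUpToIso_hom hQ hQ' WalkingParallelPair.one
  have hθR : ρ ≫ θR.hom = ρ' :=
    IsColimit.comp_coconePointUniqueUpToIso_hom hR hR' WalkingParallelPair.one
  have hepi : Epi π := epi_of_isColimit_cofork hQ
  have key : u ≫ θR.hom = θ.hom ≫ u' := by
    rw [← cancel_epi π, reassoc_of% hu, hθR, reassoc_of% hθ, hu']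
  constructor
  · intro h
    have h1 : u' = θ.inv ≫ u ≫ θR.hom := by rw [key, Iso.inv_hom_id_assoc]
    rw [h1]
    infer_instance
  · intro h
    have h1 : u = θ.hom ≫ u' ≫ θR.inv := by rw [← reassoc_of% key, Iso.hom_inv_id, Category.comp_id]
    rw [h1]
    infer_instance

end Coker

end Groth.Agent.Lib.Helper12.OpcMono
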