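import Groth.Agent.Lib.Helper12.LTS4
import Groth.Agent.Lib.Helper12.OpcMono
import Groth.Agent.Lib.Helper12.HomSeq

set_option autoImplicit false
universe u
open CategoryTheory CategoryTheory.Limits

namespace Groth.Agent.Lib.Helper12.LTS

open ModSite Groth.Agent.Lib.Helper42.Flat Groth.Agent.Lib.Helper42.Flat2
  Groth.Agent.Lib.Helper42.TensorColim Groth.Agent.Lib.Helper42.FlatCx
open Groth.Agent.Lib.Helper12 Groth.Agent.Lib.Helper12.KFlat

variable {C : Type u} [SmallCategory C] {J : GrothendieckTopology C} {O : Sheaf J CommRingCat.{u}}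

section Opc

variable (E : CochainComplex (Mod O) ℤ)

theorem tl_obj_d (M : Mod O) (p q : ℤ) :
    ((tl E).obj M).d p q = ((tensorBi O).obj M).map (E.d p q) := rfl

theorem tens_d_coker (M : Mod O) (p q : ℤ) :
    ((tensorBi O).obj M).map (E.d p q) ≫ ((tensorBi O).obj M).map (cokernel.π (E.d p q)) = 0 := by
  rw [← Functor.map_comp, cokernel.condition, Functor.map_zero]

instance preservesColimit_tensorBi_obj (M : Mod O) {A B : Mod O} (g : A ⟶ B) :
    PreservesColimit (parallelPair g 0) ((tensorBi O).obj M) :=
  inferInstanceAs (PreservesColimit (parallelPair g 0) (tensL O M))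

noncomputable def isColimitTensCoker (M : Mod O) (p q : ℤ) :
    IsColimit (CokernelCofork.ofπ (f := ((tl E).obj M).d p q)
      (((tensorBi O).obj M).map (cokernel.π (E.d p q))) (tens_d_coker E M p q)) :=
  CokernelCofork.mapIsColimit _ (cokernelIsCokernel (E.d p q)) ((tensorBi O).obj M)

theorem mono_opc_iff {M' M : Mod O} (f : M' ⟶ M) (p q : ℤ) (hpq : p + 1 = q) :
    Mono (HomologicalComplex.opcyclesMap ((tl E).map f) q) ↔
      Mono (((tensorBi O).map f).app (cokernel (E.d p q))) := by
  refine OpcMono.mono_iff_of_cokernels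
    (((tl E).obj M').opcyclesIsCokernel p q (by simp; omega))
    (isColimitTensCoker E M' p q)
    (((tl E).obj M).opcyclesIsCokernel p q (by simp; omega))
    (isColimitTensCoker E M p q)
    (((tl E).map f).f q) _ _ ?_ ?_
  · exact HomologicalComplex.p_opcyclesMap ((tl E).map f) q
  · exact ((tensorBi O).map f).naturality (cokernel.π (E.d p q))

theorem forall_mono_iff_isFlat_cokernel (hE : ∀ q, IsFlat (E.X q)) (p : ℤ) :
    (∀ S : ShortComplex (Mod O), S.ShortExact →
      Mono ((tl E ⋙ HomologicalComplex.homologyFunctor (Mod O) (ComplexShape.up ℤ) (p + 1)).map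
        S.f)) ↔ IsFlat (cokernel (E.d p (p + 1))) := by
  constructor
  · intro h
    rw [isFlat_iff_preservesMono]
    constructor
    intro M' M f hf
    let S : ShortComplex (Mod O) := ShortComplex.mk f (cokernel.π f) (cokernel.condition f)
    have hS : S.ShortExact :=
      { exact := ShortComplex.exact_cokernel f
        mono_f := hf
        epi_g := inferInstanceAs (Epi (cokernel.π f)) }
    have h1 : Mono (HomologicalComplex.homologyMap ((tl E).map f) (p + 1)) := h S hS
    have h2 : Mono (((tl E).map f).f (p + 1 + 1)) := by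
      have := (isFlat_iff_preservesMono O _).mp (hE (p + 1 + 1))
      exact inferInstanceAs (Mono ((tensR O (E.X (p + 1 + 1))).map f))
    have h3 := OpcMono.mono_opcyclesMap_of_mono_homologyMap ((tl E).map f) (p + 1) (p + 1 + 1) rfl
      h1 h2
    exact (mono_opc_iff E f p (p + 1) rfl).mp h3
  · intro h S hS
    have hm := hS.mono_f
    have := (isFlat_iff_preservesMono O _).mp h
    have h1 : Mono (((tensorBi O).map S.f).app (cokernel (E.d p (p + 1)))) :=
      inferInstanceAs (Mono ((tensR O (cokernel (E.d p (p + 1)))).map S.f))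
    have h2 := (mono_opc_iff E S.f p (p + 1) rfl).mpr h1
    exact OpcMono.mono_homologyMap_of_mono_opcyclesMap ((tl E).map S.f) (p + 1) h2

theorem preservesFiniteColimits_tl_iff (hE : ∀ q, IsFlat (E.X q)) (p : ℤ) :
    PreservesFiniteColimits
      (tl E ⋙ HomologicalComplex.homologyFunctor (Mod O) (ComplexShape.up ℤ) p) ↔
      IsFlat (cokernel (E.d p (p + 1))) :=
  (HomSeq.preservesFiniteColimits_iff (tl E) (shortExact_map_tl E hE) p).trans
    (forall_mono_iff_isFlat_cokernel E hE p)

end Opc

end Groth.Agent.Lib.Helper12.LTS
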