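import Groth.Agent.Lib.Helper12.LTS4

set_option autoImplicit false
universe u
open CategoryTheory CategoryTheory.Limits

namespace Groth.Agent.Lib.Helper12.LTS

open ModSite Groth.Agent.Lib.Helper42.Flat Groth.Agent.Lib.Helper42.Flat2
  Groth.Agent.Lib.Helper42.TensorColim Groth.Agent.Lib.Helper42.FlatCx
open Groth.Agent.Lib.Helper12 Groth.Agent.Lib.Helper12.KFlat

variable {C : Type u} [SmallCategory C] {J : GrothendieckTopology C} {O : Sheaf J CommRingCat.{u}}

section Terms

variable (P F : CochainComplex (Mod O) ℤ)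

theorem isFlat_T_X (hP : ∀ i, IsFlat (P.X i)) (hF : ∀ i, IsFlat (F.X i)) (k : ℤ) :
    IsFlat ((T P F).X k) := by
  let e : Discrete (ULift.{u} (fib k)) ≌ Discrete (fib k) := Discrete.equivalence Equiv.ulift
  let D : Discrete (ULift.{u} (fib k)) ⥤ Mod O :=
    e.functor ⋙ Discrete.functor (fun i : fib k => ((tensorBi O).obj (P.X i.1.1)).obj (F.X i.1.2))
  let c : Cocone D := (coc P F k).whisker e.functor
  have hc : IsColimit c := (isColimitCoc P F k).whiskerEquivalence e
  have hD : ∀ j, IsFlat (D.obj j) := fun j => isFlat_tensor O _ _ (hP _) (hF _)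
  have h : IsFlat c.pt := isFlat_of_isColimit O D hD c hc
  exact h

theorem isZero_T_X (k : ℤ) (h : ∀ a b : ℤ, a + b = k → IsZero (P.X a) ∨ IsZero (F.X b)) :
    IsZero ((T P F).X k) := by
  rw [IsZero.iff_id_eq_zero]
  apply (isColimitCoc P F k).hom_ext
  rintro ⟨⟨⟨a, b⟩, hab⟩⟩
  have hz : IsZero (((tensorBi O).obj (P.X a)).obj (F.X b)) := by
    rcases h a b hab with h1 | h1
    · exact (Functor.map_isZero (tensorBi O) h1).obj (F.X b)
    · exact Functor.map_isZero ((tensorBi O).obj (P.X a)) h1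
  exact hz.eq_of_src _ _

end Terms

end Groth.Agent.Lib.Helper12.LTS
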