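import Groth.Agent.Lib.Helper12.WKI5

set_option autoImplicit false
universe u
open CategoryTheory CategoryTheory.Limits AlgebraicGeometry Opposite

attribute [local instance] HasDerivedCategory.standard

namespace Groth.Agent.Lib.Helper12.WKI

open Groth.Agent.Lib.Helper12 Groth.Agent.Lib.Helper12.RDerSch

section General

universe w w' v v' u₁ u₂ v'' u''

variable {C₁ : Type u₁} [Category.{v} C₁] [Abelian C₁] [IsGrothendieckAbelian.{v} C₁]
  [HasDerivedCategory.{w} C₁]
  {C₂ : Type u₂} [Category.{v'} C₂] [Abelian C₂] [IsGrothendieckAbelian.{v'} C₂]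
  [HasDerivedCategory.{w'} C₂]
  (E : C₁ ⥤ C₂) [E.Additive]
  (RE : DerivedCategory C₁ ⥤ DerivedCategory C₂)
  (α : E.mapHomotopyCategory (ComplexShape.up ℤ) ⋙ DerivedCategory.Qh ⟶ DerivedCategory.Qh ⋙ RE)
  {H : Type u''} [Category.{v''} H]
  (G : HomotopyCategory C₂ (ComplexShape.up ℤ) ⥤ H)
  (RG : DerivedCategory C₂ ⥤ H) (β : G ⟶ DerivedCategory.Qh ⋙ RG)

noncomputable def compUnitG :
    E.mapHomotopyCategory (ComplexShape.up ℤ) ⋙ G ⟶ DerivedCategory.Qh ⋙ (RE ⋙ RG) :=
  Functor.whiskerLeft (E.mapHomotopyCategory (ComplexShape.up ℤ)) β ≫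
    (Functor.associator _ _ _).inv ≫
    Functor.whiskerRight α RG ≫
    (Functor.associator _ _ _).hom

omit [IsGrothendieckAbelian.{v'} C₂] in
theorem isRightDerivedFunctor_compG
    [RE.IsRightDerivedFunctor α (HomotopyCategory.quasiIso C₁ (ComplexShape.up ℤ))]
    [RG.IsRightDerivedFunctor β (HomotopyCategory.quasiIso C₂ (ComplexShape.up ℤ))]
    (hβ : ∀ (I : CochainComplex C₁ ℤ), I.IsKInjective →
      IsIso (β.app ((HomotopyCategory.quotient C₂ (ComplexShape.up ℤ)).obj
        ((E.mapHomologicalComplex (ComplexShape.up ℤ)).obj I)))) :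
    (RE ⋙ RG).IsRightDerivedFunctor (compUnitG E RE α G RG β)
      (HomotopyCategory.quasiIso C₁ (ComplexShape.up ℤ)) := by
  apply Groth.Agent.Lib.Helper12.RDer.isRightDerivedFunctor_of_isIso
  intro I hI
  have h1 : IsIso (β.app ((E.mapHomotopyCategory (ComplexShape.up ℤ)).obj
      ((HomotopyCategory.quotient C₁ (ComplexShape.up ℤ)).obj I))) := hβ I hI
  have h2 := Groth.Agent.Lib.Helper25.KInjDerived.isIso_unit_homotopyCategory
    (E.mapHomotopyCategory (ComplexShape.up ℤ) ⋙ DerivedCategory.Qh) DerivedCategory.Qh RE α I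
  simp only [compUnitG, NatTrans.comp_app, Functor.whiskerLeft_app, Functor.whiskerRight_app,
    Functor.associator_hom_app, Functor.associator_inv_app]
  infer_instance

end General

variable {X Y : Scheme.{u}} (f : X ⟶ Y)

theorem quasiIso_gamma_map (I : CochainComplex X.Modules ℤ) [I.IsKInjective]
    (J : CochainComplex Y.Modules ℤ) [J.IsKInjective]
    (a : ((Scheme.Modules.pushforward f).mapHomologicalComplex (ComplexShape.up ℤ)).obj I ⟶ J)
    [QuasiIso a] :
    QuasiIso (((DCoh.gammaAb Y).mapHomologicalComplex (ComplexShape.up ℤ)).map a) := by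
  have hC1 : ROrth AKFlatP (CochainComplex.mappingCone a) :=
    rOrth_mappingCone a (rOrth_pushforward f I) (rOrth_of_isKInjective J)
  have hC2 : (CochainComplex.mappingCone a).Acyclic :=
    (KFlat.acyclic_mappingCone_iff a).2 inferInstance
  have hC3 := rOrth_kflat_of_wki_acyclic _ hC1 hC2
  have hC5 := acyclic_gamma _ hC3
  rw [← KFlat.acyclic_mappingCone_iff]
  have e := CochainComplex.mappingCone.mapHomologicalComplexIso a (DCoh.gammaAb Y)
  intro i
  have := hC5 i
  rw [HomologicalComplex.exactAt_iff_isZero_homology] at this ⊢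
  exact this.of_iso ((HomologicalComplex.homologyFunctor _ _ i).mapIso e.symm)

theorem isIso_unit_app_gamma [DCoh.HasRΓ Y] (I : CochainComplex X.Modules ℤ)
    [I.IsKInjective] :
    IsIso (((DCoh.gammaKh Y).totalRightDerivedUnit DerivedCategory.Qh
      (HomotopyCategory.quasiIso Y.Modules (ComplexShape.up ℤ))).app
      ((HomotopyCategory.quotient Y.Modules (ComplexShape.up ℤ)).obj
        (((Scheme.Modules.pushforward f).mapHomologicalComplex (ComplexShape.up ℤ)).obj I))) := by
  obtain ⟨J, a, hJ, ha, -, -⟩ :=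
    Groth.Agent.Lib.Helper13.KInjMain.exists_kInjective_resolution
      (((Scheme.Modules.pushforward f).mapHomologicalComplex (ComplexShape.up ℤ)).obj I)
  refine isIso_unit_app_of_resolution (DCoh.gammaKh Y) (DCoh.RΓ Y) _ _ J a ?_
  have hq := quasiIso_gamma_map f I J a
  change IsIso (DerivedCategory.Qh.map
    (((DCoh.gammaAb Y).mapHomotopyCategory (ComplexShape.up ℤ)).map
      ((HomotopyCategory.quotient Y.Modules (ComplexShape.up ℤ)).map a)))
  rw [Functor.mapHomotopyCategory_map]
  have : IsIso (DerivedCategory.Q.map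
      (((DCoh.gammaAb Y).mapHomologicalComplex (ComplexShape.up ℤ)).map a)) := by
    rw [DerivedCategory.isIso_Q_map_iff_quasiIso]; exact hq
  exact this

noncomputable def pushGammaIso : Scheme.Modules.pushforward f ⋙ DCoh.gammaAb Y ≅ DCoh.gammaAb X :=
  NatIso.ofComponents (fun M => Iso.refl _) (by
    intro M N φ
    simp
    rfl)

noncomputable def gammaKhIso :
    (Scheme.Modules.pushforward f).mapHomotopyCategory (ComplexShape.up ℤ) ⋙ DCoh.gammaKh Y ≅
      DCoh.gammaKh X :=
  (Functor.associator _ _ _).symm ≪≫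
    Functor.isoWhiskerRight
      (Functor.mapHomotopyCategoryCompIso (pushGammaIso f) (ComplexShape.up ℤ)) DerivedCategory.Qh

theorem nonempty_Rpush_RΓ_iso [DCoh.HasRpush f] [DCoh.HasRΓ X] [DCoh.HasRΓ Y] :
    Nonempty (DCoh.Rpush f ⋙ DCoh.RΓ Y ≅ DCoh.RΓ X) := by
  have h := isRightDerivedFunctor_compG (Scheme.Modules.pushforward f) (DCoh.Rpush f)
    ((DCoh.pushKh f).totalRightDerivedUnit DerivedCategory.Qh
      (HomotopyCategory.quasiIso X.Modules (ComplexShape.up ℤ)))
    (DCoh.gammaKh Y) (DCoh.RΓ Y)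
    ((DCoh.gammaKh Y).totalRightDerivedUnit DerivedCategory.Qh
      (HomotopyCategory.quasiIso Y.Modules (ComplexShape.up ℤ)))
    (fun I hI => isIso_unit_app_gamma f I)
  exact ⟨Functor.rightDerivedNatIso (DCoh.Rpush f ⋙ DCoh.RΓ Y) (DCoh.RΓ X)
    (compUnitG (Scheme.Modules.pushforward f) (DCoh.Rpush f)
      ((DCoh.pushKh f).totalRightDerivedUnit DerivedCategory.Qh
        (HomotopyCategory.quasiIso X.Modules (ComplexShape.up ℤ)))
      (DCoh.gammaKh Y) (DCoh.RΓ Y)
      ((DCoh.gammaKh Y).totalRightDerivedUnit DerivedCategory.Qh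
        (HomotopyCategory.quasiIso Y.Modules (ComplexShape.up ℤ))))
    ((DCoh.gammaKh X).totalRightDerivedUnit DerivedCategory.Qh
      (HomotopyCategory.quasiIso X.Modules (ComplexShape.up ℤ)))
    (HomotopyCategory.quasiIso X.Modules (ComplexShape.up ℤ)) (gammaKhIso f)⟩

end Groth.Agent.Lib.Helper12.WKI
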