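import Groth.Agent.Lib.Helper12.MVSch3
import Groth.Agent.Lib.Helper12.WKI6

set_option autoImplicit false
set_option linter.unusedSectionVars false
universe u
open CategoryTheory CategoryTheory.Limits AlgebraicGeometry Pretriangulated

attribute [local instance] HasDerivedCategory.standard

namespace Groth.Agent.Lib.Helper12.MVSch

open Groth.Agent.Lib.Helper12 Groth.Agent.Lib.Helper12.RDerSch
open Groth.Agent.Lib.Helper26.ModMV Groth.Agent.Lib.Helper26.FunctorMV

section General

universe v v' v'' u₁ u₂ u₃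

variable {C : Type u₁} [Category.{v} C] [Abelian C]
variable {D : Type u₂} [Category.{v'} D] [Abelian D]
variable {D' : Type u₃} [Category.{v''} D'] [Abelian D']
variable {G₀ G₁ G₂ G₃ : C ⥤ D} [G₀.Additive] [G₁.Additive] [G₂.Additive] [G₃.Additive]
variable {a₁ : G₀ ⟶ G₁} {a₂ : G₀ ⟶ G₂} {b₁ : G₁ ⟶ G₃} {b₂ : G₂ ⟶ G₃}

theorem mvExact_whiskerRight (h : MVExact a₁ a₂ b₁ b₂) (Φ : D ⥤ D') [Φ.Additive]
    [PreservesFiniteLimits Φ]
    (hepi : ∀ (I : C) [Injective I], Epi (Φ.map (b₁.app I))) :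
    MVExact (Functor.whiskerRight a₁ Φ) (Functor.whiskerRight a₂ Φ)
      (Functor.whiskerRight b₁ Φ) (Functor.whiskerRight b₂ Φ) where
  comm := by
    rw [← Functor.whiskerRight_comp, ← Functor.whiskerRight_comp, h.comm]
  shortExact I hI := by
    have hS := h.shortExact I
    have hmono : Mono (biprod.lift (a₁.app I) (a₂.app I)) := hS.mono_f
    have : PreservesBinaryBiproducts Φ := preservesBinaryBiproducts_of_preservesBiproducts _
    let S := ShortComplex.mk _ _ (lift_desc_zero a₁ a₂ b₁ b₂ h.comm I)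
    have hSΦ : (S.map Φ).ShortExact := by
      have hex : (S.map Φ).Exact := hS.exact.map_of_mono_of_preservesKernel Φ hmono inferInstance
      have hm : Mono (S.map Φ).f := by
        change Mono (Φ.map (biprod.lift (a₁.app I) (a₂.app I)))
        infer_instance
      have he : Epi (S.map Φ).g := by
        change Epi (Φ.map (biprod.desc (b₁.app I) (-(b₂.app I))))
        have h1 : Φ.map (biprod.inl : G₁.obj I ⟶ G₁.obj I ⊞ G₂.obj I) ≫
            Φ.map (biprod.desc (b₁.app I) (-(b₂.app I))) = Φ.map (b₁.app I) := by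
          rw [← Φ.map_comp, biprod.inl_desc]
        have := hepi I
        exact epi_of_epi_fac h1
      exact ShortComplex.ShortExact.mk' hex hm he
    have hcomm : Functor.whiskerRight a₁ Φ ≫ Functor.whiskerRight b₁ Φ =
        Functor.whiskerRight a₂ Φ ≫ Functor.whiskerRight b₂ Φ := by
      rw [← Functor.whiskerRight_comp, ← Functor.whiskerRight_comp, h.comm]
    have e : S.map Φ ≅ ShortComplex.mk _ _
        (lift_desc_zero (Functor.whiskerRight a₁ Φ) (Functor.whiskerRight a₂ Φ)
          (Functor.whiskerRight b₁ Φ) (Functor.whiskerRight b₂ Φ) hcomm I) := by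
      refine ShortComplex.isoMk (Iso.refl _) (Φ.mapBiprod (G₁.obj I) (G₂.obj I)) (Iso.refl _) ?_ ?_
      · change 𝟙 _ ≫ biprod.lift (Φ.map (a₁.app I)) (Φ.map (a₂.app I)) =
          Φ.map (biprod.lift (a₁.app I) (a₂.app I)) ≫ (Φ.mapBiprod (G₁.obj I) (G₂.obj I)).hom
        rw [Category.id_comp, biprod.map_lift_mapBiprod]
      · change (Φ.mapBiprod (G₁.obj I) (G₂.obj I)).hom ≫
            biprod.desc (Φ.map (b₁.app I)) (-(Φ.map (b₂.app I))) =
          Φ.map (biprod.desc (b₁.app I) (-(b₂.app I))) ≫ 𝟙 _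
        rw [Category.comp_id, ← Functor.map_neg, biprod.mapBiprod_hom_desc]
    exact ShortComplex.shortExact_of_iso e hSΦ

end General

variable {X : Scheme.{u}}

instance preservesFiniteLimits_gammaAb : PreservesFiniteLimits (DCoh.gammaAb X) := by
  unfold DCoh.gammaAb
  have h1 : PreservesFiniteLimits
      ((evaluation (TopologicalSpace.Opens ↥X)ᵒᵖ AddCommGrpCat.{u}).obj (Opposite.op ⊤)) :=
    ⟨fun J _ _ => inferInstance⟩
  have h2 : PreservesFiniteLimits (Scheme.Modules.toPresheaf X) :=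
    ⟨fun J _ _ => inferInstance⟩
  exact comp_preservesFiniteLimits _ _

theorem epi_gammaAb_map_ρ (I : X.Modules) (hI : Injective I) {W W' : X.Opens} (h : W' ≤ W) :
    Epi ((DCoh.gammaAb X).map ((ρ h).app I)) := by
  rw [AddCommGrpCat.epi_iff_surjective]
  exact H_surjective I hI h ⊤

theorem mvExactΓ (U V : X.Opens) :
    MVExact (Functor.whiskerRight (ρ (le_sup_left : U ≤ U ⊔ V)) (DCoh.gammaAb X))
      (Functor.whiskerRight (ρ (le_sup_right : V ≤ U ⊔ V)) (DCoh.gammaAb X))
      (Functor.whiskerRight (ρ (inf_le_left : U ⊓ V ≤ U)) (DCoh.gammaAb X))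
      (Functor.whiskerRight (ρ (inf_le_right : U ⊓ V ≤ V)) (DCoh.gammaAb X)) :=
  mvExact_whiskerRight (mvExact U V) (DCoh.gammaAb X)
    (fun I hI => epi_gammaAb_map_ρ I hI _)

end Groth.Agent.Lib.Helper12.MVSch
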