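import Groth.Agent.Lib.Helper12.MVGamma

set_option autoImplicit false
universe u
open CategoryTheory CategoryTheory.Limits AlgebraicGeometry Pretriangulated

attribute [local instance] HasDerivedCategory.standard

namespace Groth.Agent.Lib.Helper12.MVSch

open Groth.Agent.Lib.Helper12 Groth.Agent.Lib.Helper12.RDerSch Groth.Agent.Lib.Helper12.WKI
open Groth.Agent.Lib.Helper26.ModMV Groth.Agent.Lib.Helper26.FunctorMV

variable {X : Scheme.{u}}

noncomputable def gammaKhObjIso (W : Scheme.{u}) (J : CochainComplex W.Modules ℤ) :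
    (DCoh.gammaKh W).obj ((HomotopyCategory.quotient W.Modules (ComplexShape.up ℤ)).obj J) ≅
      DerivedCategory.Q.obj
        (((DCoh.gammaAb W).mapHomologicalComplex (ComplexShape.up ℤ)).obj J) :=
  DerivedCategory.Qh.mapIso
      (((DCoh.gammaAb W).mapHomotopyCategoryFactors (ComplexShape.up ℤ)).app J) ≪≫
    (DerivedCategory.quotientCompQhIso AddCommGrpCat.{u}).app _

noncomputable def RΓQIso (W : Scheme.{u}) [DCoh.HasRΓ W]
    (J : CochainComplex W.Modules ℤ) [J.IsKInjective] :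
    (DCoh.RΓ W).obj (DerivedCategory.Q.obj J) ≅
      DerivedCategory.Q.obj
        (((DCoh.gammaAb W).mapHomologicalComplex (ComplexShape.up ℤ)).obj J) :=
  rightDerivedQIso (DCoh.gammaKh W) (DCoh.RΓ W)
    ((DCoh.gammaKh W).totalRightDerivedUnit DerivedCategory.Qh
      (HomotopyCategory.quasiIso W.Modules (ComplexShape.up ℤ))) J ≪≫ gammaKhObjIso W J

noncomputable def restrictΓIso (W : X.Opens)
    [PreservesFiniteLimits (Scheme.Modules.restrictFunctor W.ι)] [DCoh.HasRΓ (W : Scheme.{u})]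
    (E : DCoh.D X) (I : CochainComplex X.Modules ℤ) (hI : I.IsKInjective)
    (e : E ≅ DerivedCategory.Q.obj I) :
    (DCoh.RΓ (W : Scheme.{u})).obj ((DCoh.restrictD W.ι).obj E) ≅
      DerivedCategory.Q.obj
        (((H W ⋙ DCoh.gammaAb X).mapHomologicalComplex (ComplexShape.up ℤ)).obj I) :=
  haveI := isKInjective_restrict W I hI
  (DCoh.RΓ (W : Scheme.{u})).mapIso ((DCoh.restrictD W.ι).mapIso e ≪≫
    (Scheme.Modules.restrictFunctor W.ι).mapDerivedCategoryFactors.app I) ≪≫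
    RΓQIso (W : Scheme.{u}) _ ≪≫
    QMapIso (Φ := Scheme.Modules.restrictFunctor W.ι ⋙ DCoh.gammaAb (W : Scheme.{u}))
      (Ψ := H W ⋙ DCoh.gammaAb X)
      (Functor.isoWhiskerLeft (Scheme.Modules.restrictFunctor W.ι) (pushGammaIso W.ι).symm ≪≫
        (Functor.associator _ _ _).symm) I

noncomputable def gammaHIso (W : X.Opens) (hW : W = ⊤) :
    DCoh.gammaAb X ≅ H W ⋙ DCoh.gammaAb X :=
  haveI := isIso_unit_of_eq_top W hW
  (Functor.leftUnitor _).symm ≪≫
    Functor.isoWhiskerRight (asIso (Scheme.Modules.restrictAdjunction W.ι).unit)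
      (DCoh.gammaAb X)

theorem exists_mv_triangle_RΓ (U V : X.Opens) (hUV : U ⊔ V = ⊤)
    [DCoh.HasRΓ X] [DCoh.HasRΓ (U : Scheme.{u})] [DCoh.HasRΓ (V : Scheme.{u})]
    [DCoh.HasRΓ ((U ⊓ V : X.Opens) : Scheme.{u})]
    [PreservesFiniteLimits (Scheme.Modules.restrictFunctor U.ι)]
    [PreservesFiniteLimits (Scheme.Modules.restrictFunctor V.ι)]
    [PreservesFiniteLimits (Scheme.Modules.restrictFunctor (U ⊓ V).ι)] (E : DCoh.D X) :
    ∃ (a : (DCoh.RΓ X).obj E ⟶ ((DCoh.RΓ (U : Scheme.{u})).obj ((DCoh.restrictD U.ι).obj E) ⊞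
          (DCoh.RΓ (V : Scheme.{u})).obj ((DCoh.restrictD V.ι).obj E)))
      (b : ((DCoh.RΓ (U : Scheme.{u})).obj ((DCoh.restrictD U.ι).obj E) ⊞
          (DCoh.RΓ (V : Scheme.{u})).obj ((DCoh.restrictD V.ι).obj E)) ⟶
        (DCoh.RΓ ((U ⊓ V : X.Opens) : Scheme.{u})).obj ((DCoh.restrictD (U ⊓ V).ι).obj E))
      (c : (DCoh.RΓ ((U ⊓ V : X.Opens) : Scheme.{u})).obj ((DCoh.restrictD (U ⊓ V).ι).obj E) ⟶
        ((DCoh.RΓ X).obj E)⟦(1 : ℤ)⟧),
      Triangle.mk a b c ∈ distTriang (DerivedCategory AddCommGrpCat.{u}) := by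
  obtain ⟨I, hI, hinj, ⟨e⟩⟩ := exists_extProp_model E
  exact Groth.Agent.Lib.Helper12.MVTri.exists_triangle (mvExactΓ U V) I hinj
    ((DCoh.RΓ X).mapIso e ≪≫ RΓQIso X I ≪≫ QMapIso (gammaHIso (U ⊔ V) hUV) I)
    (restrictΓIso U E I hI e)
    (restrictΓIso V E I hI e)
    (restrictΓIso (U ⊓ V) E I hI e)

end Groth.Agent.Lib.Helper12.MVSch
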