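import Groth.Agent.Lib.Helper12.MVSch

set_option autoImplicit false
universe u
open CategoryTheory CategoryTheory.Limits AlgebraicGeometry Pretriangulated

attribute [local instance] HasDerivedCategory.standard

namespace Groth.Agent.Lib.Helper12.MVSch

open Groth.Agent.Lib.Helper12 Groth.Agent.Lib.Helper12.RDerSch
open Groth.Agent.Lib.Helper26.ModMV Groth.Agent.Lib.Helper26.FunctorMV

variable {X Y : Scheme.{u}}

theorem isIso_unit_of_eq_top (W : X.Opens) (hW : W = ⊤) :
    IsIso (Scheme.Modules.restrictAdjunction W.ι).unit := by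
  have : ∀ M, IsIso ((Scheme.Modules.restrictAdjunction W.ι).unit.app M) := by
    intro M
    rw [Scheme.Modules.Hom.isIso_iff_isIso_app]
    intro T
    exact Groth.Agent.Lib.Helper12.BCOpen.isIso_unit_app_of_le W M T (by rw [hW]; exact le_top)
  exact NatIso.isIso_of_isIso_app _

noncomputable def pushGIso (f : X ⟶ Y) (W : X.Opens) (hW : W = ⊤) :
    Scheme.Modules.pushforward f ≅ G f W :=
  haveI := isIso_unit_of_eq_top W hW
  (Functor.leftUnitor _).symm ≪≫
    Functor.isoWhiskerRight (asIso (Scheme.Modules.restrictAdjunction W.ι).unit)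
      (Scheme.Modules.pushforward f)

theorem exists_mv_triangle (f : X ⟶ Y) (U V : X.Opens) (hUV : U ⊔ V = ⊤)
    (gU : (U : Scheme.{u}) ⟶ Y) (gV : (V : Scheme.{u}) ⟶ Y) (gUV : ((U ⊓ V : X.Opens) : Scheme.{u}) ⟶ Y)
    (iU : Scheme.Modules.pushforward U.ι ⋙ Scheme.Modules.pushforward f ≅
      Scheme.Modules.pushforward gU)
    (iV : Scheme.Modules.pushforward V.ι ⋙ Scheme.Modules.pushforward f ≅
      Scheme.Modules.pushforward gV)
    (iUV : Scheme.Modules.pushforward (U ⊓ V).ι ⋙ Scheme.Modules.pushforward f ≅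
      Scheme.Modules.pushforward gUV)
    [DCoh.HasRpush gU] [DCoh.HasRpush gV] [DCoh.HasRpush gUV]
    [PreservesFiniteLimits (Scheme.Modules.restrictFunctor U.ι)]
    [PreservesFiniteLimits (Scheme.Modules.restrictFunctor V.ι)]
    [PreservesFiniteLimits (Scheme.Modules.restrictFunctor (U ⊓ V).ι)]
    (E : DCoh.D X) (A₀ : DCoh.D Y)
    (h₀ : ∀ (I : CochainComplex X.Modules ℤ), I.IsKInjective → (E ≅ DerivedCategory.Q.obj I) →
      Nonempty (A₀ ≅ DerivedCategory.Q.obj
        (((Scheme.Modules.pushforward f).mapHomologicalComplex (ComplexShape.up ℤ)).obj I))) :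
    ∃ (a : A₀ ⟶ ((DCoh.Rpush gU).obj ((DCoh.restrictD U.ι).obj E) ⊞
          (DCoh.Rpush gV).obj ((DCoh.restrictD V.ι).obj E)))
      (b : ((DCoh.Rpush gU).obj ((DCoh.restrictD U.ι).obj E) ⊞
          (DCoh.Rpush gV).obj ((DCoh.restrictD V.ι).obj E)) ⟶
        (DCoh.Rpush gUV).obj ((DCoh.restrictD (U ⊓ V).ι).obj E))
      (c : (DCoh.Rpush gUV).obj ((DCoh.restrictD (U ⊓ V).ι).obj E) ⟶ A₀⟦(1 : ℤ)⟧),
      Triangle.mk a b c ∈ distTriang (DCoh.D Y) := by
  obtain ⟨I, hI, hinj, ⟨e⟩⟩ := exists_extProp_model E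
  obtain ⟨e₀⟩ := h₀ I hI e
  exact Groth.Agent.Lib.Helper12.MVTri.exists_triangle (mvExactG f U V) I hinj
    (e₀ ≪≫ QMapIso (pushGIso f (U ⊔ V) hUV) I)
    (restrictPushIso f U gU iU E I hI e)
    (restrictPushIso f V gV iV E I hI e)
    (restrictPushIso f (U ⊓ V) gUV iUV E I hI e)

end Groth.Agent.Lib.Helper12.MVSch
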