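import Groth.Agent.Lib.Helper12.MVSch2

set_option autoImplicit false
universe u
open CategoryTheory CategoryTheory.Limits AlgebraicGeometry Pretriangulated

attribute [local instance] HasDerivedCategory.standard

namespace Groth.Agent.Lib.Helper12.MVSch

open Groth.Agent.Lib.Helper12 Groth.Agent.Lib.Helper12.RDerSch

variable {X Y : Scheme.{u}}

theorem exists_mv_triangle_Rpush (f : X ⟶ Y) (U V : X.Opens) (hUV : U ⊔ V = ⊤)
    [DCoh.HasRpush f] [DCoh.HasRpush (U.ι ≫ f)] [DCoh.HasRpush (V.ι ≫ f)]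
    [DCoh.HasRpush ((U ⊓ V).ι ≫ f)]
    [PreservesFiniteLimits (Scheme.Modules.restrictFunctor U.ι)]
    [PreservesFiniteLimits (Scheme.Modules.restrictFunctor V.ι)]
    [PreservesFiniteLimits (Scheme.Modules.restrictFunctor (U ⊓ V).ι)] (E : DCoh.D X) :
    ∃ (a : (DCoh.Rpush f).obj E ⟶ ((DCoh.Rpush (U.ι ≫ f)).obj ((DCoh.restrictD U.ι).obj E) ⊞
          (DCoh.Rpush (V.ι ≫ f)).obj ((DCoh.restrictD V.ι).obj E)))
      (b : ((DCoh.Rpush (U.ι ≫ f)).obj ((DCoh.restrictD U.ι).obj E) ⊞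
          (DCoh.Rpush (V.ι ≫ f)).obj ((DCoh.restrictD V.ι).obj E)) ⟶
        (DCoh.Rpush ((U ⊓ V).ι ≫ f)).obj ((DCoh.restrictD (U ⊓ V).ι).obj E))
      (c : (DCoh.Rpush ((U ⊓ V).ι ≫ f)).obj ((DCoh.restrictD (U ⊓ V).ι).obj E) ⟶
        ((DCoh.Rpush f).obj E)⟦(1 : ℤ)⟧),
      Triangle.mk a b c ∈ distTriang (DCoh.D Y) :=
  exists_mv_triangle f U V hUV (U.ι ≫ f) (V.ι ≫ f) ((U ⊓ V).ι ≫ f)
    (Scheme.Modules.pushforwardComp U.ι f) (Scheme.Modules.pushforwardComp V.ι f)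
    (Scheme.Modules.pushforwardComp (U ⊓ V).ι f) E ((DCoh.Rpush f).obj E)
    (fun I _ e => ⟨(DCoh.Rpush f).mapIso e ≪≫ RpushQIso f I⟩)

theorem exists_mv_triangle_id (U V : X.Opens) (hUV : U ⊔ V = ⊤)
    [DCoh.HasRpush U.ι] [DCoh.HasRpush V.ι] [DCoh.HasRpush (U ⊓ V).ι]
    [PreservesFiniteLimits (Scheme.Modules.restrictFunctor U.ι)]
    [PreservesFiniteLimits (Scheme.Modules.restrictFunctor V.ι)]
    [PreservesFiniteLimits (Scheme.Modules.restrictFunctor (U ⊓ V).ι)] (E : DCoh.D X) :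
    ∃ (a : E ⟶ ((DCoh.Rpush U.ι).obj ((DCoh.restrictD U.ι).obj E) ⊞
          (DCoh.Rpush V.ι).obj ((DCoh.restrictD V.ι).obj E)))
      (b : ((DCoh.Rpush U.ι).obj ((DCoh.restrictD U.ι).obj E) ⊞
          (DCoh.Rpush V.ι).obj ((DCoh.restrictD V.ι).obj E)) ⟶
        (DCoh.Rpush (U ⊓ V).ι).obj ((DCoh.restrictD (U ⊓ V).ι).obj E))
      (c : (DCoh.Rpush (U ⊓ V).ι).obj ((DCoh.restrictD (U ⊓ V).ι).obj E) ⟶ E⟦(1 : ℤ)⟧),
      Triangle.mk a b c ∈ distTriang (DCoh.D X) :=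
  exists_mv_triangle (𝟙 X) U V hUV U.ι V.ι (U ⊓ V).ι
    (Functor.isoWhiskerLeft _ (Scheme.Modules.pushforwardId X) ≪≫ Functor.rightUnitor _)
    (Functor.isoWhiskerLeft _ (Scheme.Modules.pushforwardId X) ≪≫ Functor.rightUnitor _)
    (Functor.isoWhiskerLeft _ (Scheme.Modules.pushforwardId X) ≪≫ Functor.rightUnitor _) E E
    (fun I _ e => ⟨e ≪≫ DerivedCategory.Q.mapIso
      ((Functor.mapHomologicalComplexIdIso X.Modules (ComplexShape.up ℤ)).app I).symm ≪≫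
      QMapIso (Scheme.Modules.pushforwardId X).symm I⟩)

end Groth.Agent.Lib.Helper12.MVSch
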