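import Groth.Agent.Lib.Helper26.SheafHomRestr
import Groth.Agent.Lib.Helper12.LTC3

set_option autoImplicit false
universe u
open CategoryTheory CategoryTheory.Limits AlgebraicGeometry

namespace Groth.Agent.Lib.Helper12.PJ

open Scheme.Modules
open Groth.Agent.Lib.Helper60.TensorRestrict Groth.Agent.Lib.Helper26.ProjFormula
  Groth.Agent.Lib.Helper26.SheafHomRestr

variable {X : Scheme.{u}} (U : X.Opens)

noncomputable def eIso (P : (U : Scheme.{u}).Modules) (F : X.Modules) :
    (CxOX.extZero U.ι).obj (((DCoh.tensorBi (X := (U : Scheme.{u}))).obj P).obj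
        ((restrictFunctor U.ι).obj F)) ≅
      ((DCoh.tensorBi (X := X)).obj ((CxOX.extZero U.ι).obj P)).obj F :=
  (muIso U F).app P

theorem he₁ {P P' : (U : Scheme.{u}).Modules} (f : P ⟶ P') (F : X.Modules) :
    (CxOX.extZero U.ι).map (((DCoh.tensorBi (X := (U : Scheme.{u}))).map f).app
        ((restrictFunctor U.ι).obj F)) ≫ (eIso U P' F).hom =
      (eIso U P F).hom ≫ ((DCoh.tensorBi (X := X)).map ((CxOX.extZero U.ι).map f)).app F :=
  (muIso U F).hom.naturality f

theorem muHom_natural_right (P : (U : Scheme.{u}).Modules) {F F' : X.Modules} (g : F ⟶ F') :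
    (CxOX.extZero U.ι).map ((tL P).map ((restrictFunctor U.ι).map g)) ≫ muHom U F' P =
      muHom U F P ≫ (tL ((CxOX.extZero U.ι).obj P)).map g := by
  have h1 : (tL P).map ((restrictFunctor U.ι).map g) ≫
      (tR (F'.restrict U.ι)).map ((CxOX.extZeroAdj U.ι).unit.app P) =
      (tR (F.restrict U.ι)).map ((CxOX.extZeroAdj U.ι).unit.app P) ≫
        (tL ((restrictFunctor U.ι).obj ((CxOX.extZero U.ι).obj P))).map
          ((restrictFunctor U.ι).map g) :=
    ((ModSite.tensorBi (↑U : Scheme.{u}).sheaf).map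
      ((CxOX.extZeroAdj U.ι).unit.app P)).naturality ((restrictFunctor U.ι).map g)
  have h2 := restrictTensorHom_natural U.ι ((CxOX.extZero U.ι).obj P) g
  have h3 : (CxOX.extZero U.ι).map ((restrictFunctor U.ι).map
        ((tL ((CxOX.extZero U.ι).obj P)).map g)) ≫
      (CxOX.extZeroAdj U.ι).counit.app ((tR F').obj ((CxOX.extZero U.ι).obj P)) =
    (CxOX.extZeroAdj U.ι).counit.app ((tR F).obj ((CxOX.extZero U.ι).obj P)) ≫
      (tL ((CxOX.extZero U.ι).obj P)).map g :=
    (CxOX.extZeroAdj U.ι).counit.naturality ((tL ((CxOX.extZero U.ι).obj P)).map g)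
  have key : ((tL P).map ((restrictFunctor U.ι).map g) ≫
      (tR (F'.restrict U.ι)).map ((CxOX.extZeroAdj U.ι).unit.app P)) ≫
        restrictTensorHom U.ι ((CxOX.extZero U.ι).obj P) F' =
      ((tR (F.restrict U.ι)).map ((CxOX.extZeroAdj U.ι).unit.app P) ≫
        restrictTensorHom U.ι ((CxOX.extZero U.ι).obj P) F) ≫
        (restrictFunctor U.ι).map ((tL ((CxOX.extZero U.ι).obj P)).map g) :=
    (congrArg (fun t => t ≫ restrictTensorHom U.ι ((CxOX.extZero U.ι).obj P) F') h1).trans
      ((Category.assoc _ _ _).trans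
        ((congrArg (fun t => (tR (F.restrict U.ι)).map ((CxOX.extZeroAdj U.ι).unit.app P) ≫ t)
          h2.symm).trans (Category.assoc _ _ _).symm))
  have step1 : (CxOX.extZero U.ι).map ((tL P).map ((restrictFunctor U.ι).map g)) ≫
      (CxOX.extZero U.ι).map ((tR (F'.restrict U.ι)).map ((CxOX.extZeroAdj U.ι).unit.app P) ≫
        restrictTensorHom U.ι ((CxOX.extZero U.ι).obj P) F') =
      (CxOX.extZero U.ι).map ((tR (F.restrict U.ι)).map ((CxOX.extZeroAdj U.ι).unit.app P) ≫
        restrictTensorHom U.ι ((CxOX.extZero U.ι).obj P) F) ≫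
      (CxOX.extZero U.ι).map ((restrictFunctor U.ι).map
        ((tL ((CxOX.extZero U.ι).obj P)).map g)) :=
    ((CxOX.extZero U.ι).map_comp _ _).symm.trans
      ((congrArg (CxOX.extZero U.ι).map ((Category.assoc _ _ _).symm.trans key)).trans
        ((CxOX.extZero U.ι).map_comp _ _))
  unfold muHom
  exact (Category.assoc _ _ _).symm.trans
    ((congrArg (fun t => t ≫ (CxOX.extZeroAdj U.ι).counit.app
      ((tR F').obj ((CxOX.extZero U.ι).obj P))) step1).trans
    ((Category.assoc _ _ _).trans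
    ((congrArg (fun t => (CxOX.extZero U.ι).map
        ((tR (F.restrict U.ι)).map ((CxOX.extZeroAdj U.ι).unit.app P) ≫
        restrictTensorHom U.ι ((CxOX.extZero U.ι).obj P) F) ≫ t) h3).trans
      (Category.assoc _ _ _).symm)))

theorem he₂ (P : (U : Scheme.{u}).Modules) {F F' : X.Modules} (g : F ⟶ F') :
    (CxOX.extZero U.ι).map (((DCoh.tensorBi (X := (U : Scheme.{u}))).obj P).map
        ((restrictFunctor U.ι).map g)) ≫ (eIso U P F').hom =
      (eIso U P F).hom ≫ ((DCoh.tensorBi (X := X)).obj ((CxOX.extZero U.ι).obj P)).map g :=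
  muHom_natural_right U P g

end Groth.Agent.Lib.Helper12.PJ
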