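import Groth.Agent.Lib.Helper42.KFlatRestr

set_option autoImplicit false
open CategoryTheory CategoryTheory.Limits

namespace Groth.Agent.Lib.Helper12.PJ

open Groth.Agent.Lib.Helper12.TotFun Groth.Agent.Lib.Helper42.KFlatRestr

section Abstract

variable {C₁ C₂ C₃ D₁ D₂ D₃ : Type*} [Category C₁] [Category C₂] [Category C₃]
  [Category D₁] [Category D₂] [Category D₃]
  [Preadditive C₁] [Preadditive C₂] [Preadditive C₃] [Preadditive D₁] [Preadditive D₂]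
  [Preadditive D₃]
  {I₁ I₂ J : Type*} {c₁ : ComplexShape I₁} {c₂ : ComplexShape I₂}
  (F : C₁ ⥤ C₂ ⥤ C₃) [F.PreservesZeroMorphisms] [∀ X₁, (F.obj X₁).PreservesZeroMorphisms]
  (F' : D₁ ⥤ D₂ ⥤ D₃) [F'.PreservesZeroMorphisms] [∀ X₁, (F'.obj X₁).PreservesZeroMorphisms]
  (G₁ : C₁ ⥤ D₁) (H₂ : D₂ ⥤ C₂) (G₃ : C₃ ⥤ D₃) [G₁.Additive] [H₂.Additive] [G₃.Additive]
  (e : ∀ (a : C₁) (b : D₂), G₃.obj ((F.obj a).obj (H₂.obj b)) ≅ (F'.obj (G₁.obj a)).obj b)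
  (he₁ : ∀ {a a' : C₁} (f : a ⟶ a') (b : D₂),
    G₃.map ((F.map f).app (H₂.obj b)) ≫ (e a' b).hom = (e a b).hom ≫ (F'.map (G₁.map f)).app b)
  (he₂ : ∀ (a : C₁) {b b' : D₂} (g : b ⟶ b'),
    G₃.map ((F.obj a).map (H₂.map g)) ≫ (e a b').hom = (e a b).hom ≫ (F'.obj (G₁.obj a)).map g)
  (K₁ : HomologicalComplex C₁ c₁) (K₂ : HomologicalComplex D₂ c₂)
  (c : ComplexShape J) [TotalComplexShape c₁ c₂ c] [DecidableEq J]
  [HomologicalComplex.HasMapBifunctor K₁ ((H₂.mapHomologicalComplex c₂).obj K₂) F c]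
  [HomologicalComplex.HasMapBifunctor ((G₁.mapHomologicalComplex c₁).obj K₁) K₂ F' c]
  [(mapBi G₃ (((F.mapBifunctorHomologicalComplex c₁ c₂).obj K₁).obj
    ((H₂.mapHomologicalComplex c₂).obj K₂))).HasTotal c]
  [∀ j, PreservesColimit (Discrete.functor
    ((((F.mapBifunctorHomologicalComplex c₁ c₂).obj K₁).obj
      ((H₂.mapHomologicalComplex c₂).obj K₂)).toGradedObject.mapObjFun
      (ComplexShape.π c₁ c₂ c) j)) G₃]

theorem map_ι_mapBifunctorIso'_hom (i₁ : I₁) (i₂ : I₂) (j : J)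
    (h : ComplexShape.π c₁ c₂ c (i₁, i₂) = j) :
    G₃.map (HomologicalComplex.ιMapBifunctor K₁ ((H₂.mapHomologicalComplex c₂).obj K₂) F c
        i₁ i₂ j h) ≫ (mapBifunctorIso' F F' G₁ H₂ G₃ e he₁ he₂ K₁ K₂ c).hom.f j =
      (e (K₁.X i₁) (K₂.X i₂)).hom ≫
        HomologicalComplex.ιMapBifunctor ((G₁.mapHomologicalComplex c₁).obj K₁) K₂ F' c
          i₁ i₂ j h := by
  unfold mapBifunctorIso'
  have h1 := map_ι_totalIso_hom_f c G₃ (((F.mapBifunctorHomologicalComplex c₁ c₂).obj K₁).obj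
      ((H₂.mapHomologicalComplex c₂).obj K₂)) i₁ i₂ j h
  have h2 := HomologicalComplex₂.ιTotal_map _ _ (biIso' F F' G₁ H₂ G₃ e he₁ he₂ K₁ K₂).hom c i₁ i₂ j h
  exact (Category.assoc _ _ _).symm.trans
    ((congrArg (fun t => t ≫ (HomologicalComplex₂.total.map
      (biIso' F F' G₁ H₂ G₃ e he₁ he₂ K₁ K₂).hom c).f j) h1).trans h2)

end Abstract

end Groth.Agent.Lib.Helper12.PJ
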