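import Groth.Agent.Lib.Helper12.PJ1
import Groth.Agent.Lib.Helper12.PJ2

set_option autoImplicit false
universe u
open CategoryTheory CategoryTheory.Limits AlgebraicGeometry

namespace Groth.Agent.Lib.Helper12.PJ

open Scheme.Modules Groth.Agent.Lib.Helper12.TotFun Groth.Agent.Lib.Helper42.KFlatRestr
open Groth.Agent.Lib.Helper12

variable {X : Scheme.{u}} (U : X.Opens) (K : CochainComplex X.Modules ℤ)

noncomputable abbrev jCx :
    CochainComplex (U : Scheme.{u}).Modules ℤ ⥤ CochainComplex X.Modules ℤ :=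
  (CxOX.extZero U.ι).mapHomologicalComplex (ComplexShape.up ℤ)

instance preservesColimits_extZero : PreservesColimitsOfSize.{u, u} (CxOX.extZero U.ι) :=
  (CxOX.extZeroAdj U.ι).leftAdjoint_preservesColimits

noncomputable def totIso (P : CochainComplex (U : Scheme.{u}).Modules ℤ) :
    (jCx U).obj ((DCoh.tensorCx.obj P).obj ((DCoh.restrictCx U).obj K)) ≅
      (DCoh.tensorCx.obj ((jCx U).obj P)).obj K :=
  mapBifunctorIso' (DCoh.tensorBi (X := (U : Scheme.{u}))) (DCoh.tensorBi (X := X))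
    (CxOX.extZero U.ι) (restrictFunctor U.ι) (CxOX.extZero U.ι) (eIso U) (he₁ U) (he₂ U) P K
    (ComplexShape.up ℤ)

theorem map_ι_totIso_hom (P : CochainComplex (U : Scheme.{u}).Modules ℤ) (p q n : ℤ)
    (h : p + q = n) :
    (CxOX.extZero U.ι).map (HomologicalComplex.ιMapBifunctor P ((DCoh.restrictCx U).obj K)
        (DCoh.tensorBi (X := (U : Scheme.{u}))) (ComplexShape.up ℤ) p q n h) ≫
        (totIso U K P).hom.f n =
      (eIso U (P.X p) (K.X q)).hom ≫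
        HomologicalComplex.ιMapBifunctor ((jCx U).obj P) K (DCoh.tensorBi (X := X))
          (ComplexShape.up ℤ) p q n h :=
  map_ι_mapBifunctorIso'_hom (DCoh.tensorBi (X := (U : Scheme.{u}))) (DCoh.tensorBi (X := X))
    (CxOX.extZero U.ι) (restrictFunctor U.ι) (CxOX.extZero U.ι) (eIso U) (he₁ U) (he₂ U) P K
    (ComplexShape.up ℤ) p q n h

theorem aux_nat {C D : Type*} [Category C] [Category D] (G : C ⥤ D)
    {x y x' y' : C} {z z' w w' : D}
    (ι : x ⟶ y) (a : y ⟶ y') (φ : x ⟶ x') (ι' : x' ⟶ y')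
    (t' : G.obj y' ⟶ z') (e' : G.obj x' ⟶ w') (ι'' : w' ⟶ z')
    (t : G.obj y ⟶ z) (e : G.obj x ⟶ w) (ιX : w ⟶ z) (b : z ⟶ z') (ψ : w ⟶ w')
    (a1 : ι ≫ a = φ ≫ ι') (b2 : G.map ι' ≫ t' = e' ≫ ι'') (b1 : G.map ι ≫ t = e ≫ ιX)
    (a2 : ιX ≫ b = ψ ≫ ι'') (c1 : G.map φ ≫ e' = e ≫ ψ) :
    G.map ι ≫ (G.map a ≫ t') = G.map ι ≫ (t ≫ b) := by
  calc G.map ι ≫ (G.map a ≫ t') = G.map (ι ≫ a) ≫ t' := by
        rw [← Category.assoc, ← G.map_comp]
    _ = G.map (φ ≫ ι') ≫ t' := by rw [a1]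
    _ = G.map φ ≫ (G.map ι' ≫ t') := by rw [G.map_comp, Category.assoc]
    _ = G.map φ ≫ e' ≫ ι'' := by rw [b2]
    _ = e ≫ ψ ≫ ι'' := by rw [← Category.assoc, c1, Category.assoc]
    _ = e ≫ (ιX ≫ b) := by rw [a2]
    _ = (G.map ι ≫ t) ≫ b := by rw [b1, Category.assoc]
    _ = G.map ι ≫ (t ≫ b) := Category.assoc _ _ _

theorem totIso_natural {P P' : CochainComplex (U : Scheme.{u}).Modules ℤ} (f : P ⟶ P') :
    (jCx U).map ((LTC.RTX ((DCoh.restrictCx U).obj K)).map f) ≫ (totIso U K P').hom =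
      (totIso U K P).hom ≫ (LTC.RTX K).map ((jCx U).map f) := by
  apply HomologicalComplex.hom_ext
  intro n
  apply hom_ext_map (ComplexShape.up ℤ) (CxOX.extZero U.ι)
    ((((DCoh.tensorBi (X := (U : Scheme.{u}))).mapBifunctorHomologicalComplex (ComplexShape.up ℤ)
      (ComplexShape.up ℤ)).obj P).obj ((DCoh.restrictCx U).obj K))
  intro p q hpq
  have a1 := HomologicalComplex.ι_mapBifunctorMap f (𝟙 ((DCoh.restrictCx U).obj K))
    (DCoh.tensorBi (X := (U : Scheme.{u}))) (ComplexShape.up ℤ) p q n hpq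
  have a2 := HomologicalComplex.ι_mapBifunctorMap ((jCx U).map f) (𝟙 K)
    (DCoh.tensorBi (X := X)) (ComplexShape.up ℤ) p q n hpq
  have b1 := map_ι_totIso_hom U K P p q n hpq
  have b2 := map_ι_totIso_hom U K P' p q n hpq
  have c1 := he₁ U (f.f p) (K.X q)
  simp only [HomologicalComplex.id_f, CategoryTheory.Functor.map_id, Category.id_comp] at a1 a2
  exact aux_nat (CxOX.extZero U.ι) _ _ _ _ _ _ _ _ _ _ _ _ a1 b2 b1 a2 c1

end Groth.Agent.Lib.Helper12.PJ
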