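import Groth.Agent.Lib.Helper12.PJ3
import Groth.Agent.Lib.Helper12.KFlat14
import Groth.Agent.Lib.Helper26.ExtZeroSch

set_option autoImplicit false
universe u
open CategoryTheory CategoryTheory.Limits AlgebraicGeometry

namespace Groth.Agent.Lib.Helper12.PJ

open Scheme.Modules Groth.Agent.Lib.Helper12

theorem acyclic_map {A B : Type*} [Category A] [Category B] [Abelian A] [Abelian B]
    (G : A ⥤ B) [G.Additive] [PreservesFiniteLimits G] [PreservesFiniteColimits G]
    (M : CochainComplex A ℤ) (hM : ∀ i : ℤ, IsZero (M.homology i)) (i : ℤ) :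
    IsZero (((G.mapHomologicalComplex (ComplexShape.up ℤ)).obj M).homology i) := by
  rw [← HomologicalComplex.exactAt_iff_isZero_homology]
  have h := (HomologicalComplex.exactAt_iff_isZero_homology M i).2 (hM i)
  rw [HomologicalComplex.exactAt_iff] at h ⊢
  exact h.map G

variable {X : Scheme.{u}} (U : X.Opens)

theorem isKFlat_jCx (P : CochainComplex (U : Scheme.{u}).Modules ℤ) (hP : DCoh.IsKFlat P) :
    DCoh.IsKFlat ((jCx U).obj P) := by
  have hez : PreservesFiniteLimits (CxOX.extZero U.ι) :=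
    Groth.Agent.Lib.Helper26.ExtZeroSch.preservesFiniteLimits_extZero U
  intro A hA i
  have hA' : ∀ i, IsZero (((DCoh.restrictCx U).obj A).homology i) :=
    acyclic_map (restrictFunctor U.ι) A hA
  have h1 : ∀ i, IsZero (((DCoh.tensorCx.obj ((DCoh.restrictCx U).obj A)).obj P).homology i) :=
    hP _ hA'
  have h2 := acyclic_map (CxOX.extZero U.ι) _ h1
  let e : (DCoh.tensorCx.obj A).obj ((jCx U).obj P) ≅
      (jCx U).obj ((DCoh.tensorCx.obj ((DCoh.restrictCx U).obj A)).obj P) :=
    KFlat.tensorCxSymmIso (O := X.sheaf) A ((jCx U).obj P) ≪≫ (totIso U A P).symm ≪≫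
      (jCx U).mapIso (KFlat.tensorCxSymmIso (O := (U : Scheme.{u}).sheaf) P
        ((DCoh.restrictCx U).obj A))
  exact (h2 i).of_iso ((HomologicalComplex.homologyFunctor _ _ i).mapIso e)

end Groth.Agent.Lib.Helper12.PJ
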