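import Groth.Agent.Lib.Helper12.PJ4
import Groth.Agent.Lib.Helper39.DerAdj

set_option autoImplicit false
universe u
open CategoryTheory CategoryTheory.Limits AlgebraicGeometry

attribute [local instance] HasDerivedCategory.standard

namespace Groth.Agent.Lib.Helper12.PJ

open Scheme.Modules Groth.Agent.Lib.Helper12

variable {X : Scheme.{u}} (U : X.Opens)

instance preservesFiniteLimits_extZero' : PreservesFiniteLimits (CxOX.extZero U.ι) :=
  Groth.Agent.Lib.Helper26.ExtZeroSch.preservesFiniteLimits_extZero U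

variable (K : CochainComplex X.Modules ℤ)

noncomputable abbrev jD : DCoh.D (U : Scheme.{u}) ⥤ DCoh.D X := CxOX.extZeroD U.ι

noncomputable abbrev jFac : DerivedCategory.Q ⋙ jD U ≅ jCx U ⋙ DerivedCategory.Q :=
  (CxOX.extZero U.ι).mapDerivedCategoryFactors

noncomputable abbrev G₁ : CochainComplex (U : Scheme.{u}).Modules ℤ ⥤ DCoh.D X :=
  LTC.RTX ((DCoh.restrictCx U).obj K) ⋙ jCx U ⋙ DerivedCategory.Q

noncomputable abbrev G₂ : CochainComplex (U : Scheme.{u}).Modules ℤ ⥤ DCoh.D X :=
  jCx U ⋙ LTC.RTX K ⋙ DerivedCategory.Q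

noncomputable def isoG : G₁ U K ≅ G₂ U K :=
  NatIso.ofComponents (fun P => DerivedCategory.Q.mapIso (totIso U K P)) (fun {P P'} f =>
    (DerivedCategory.Q.map_comp _ _).symm.trans
      ((congrArg DerivedCategory.Q.map (totIso_natural U K f)).trans
        (DerivedCategory.Q.map_comp _ _)))

section Derived

variable [DCoh.HasLTensorCx K] [DCoh.HasLTensorCx ((DCoh.restrictCx U).obj K)]

noncomputable def α₁ :
    DerivedCategory.Q ⋙ (DCoh.LTensorCx ((DCoh.restrictCx U).obj K) ⋙ jD U) ⟶ G₁ U K where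
  app P := (jD U).map ((LTC.couCx ((DCoh.restrictCx U).obj K)).app P) ≫
    (jFac U).hom.app ((LTC.RTX ((DCoh.restrictCx U).obj K)).obj P)
  naturality P P' f := by
    have n1 := (LTC.couCx ((DCoh.restrictCx U).obj K)).naturality f
    have n2 := (jFac U).hom.naturality ((LTC.RTX ((DCoh.restrictCx U).obj K)).map f)
    have n1' : (jD U).map ((DCoh.LTensorCx ((DCoh.restrictCx U).obj K)).map
          (DerivedCategory.Q.map f)) ≫
        (jD U).map ((LTC.couCx ((DCoh.restrictCx U).obj K)).app P') =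
        (jD U).map ((LTC.couCx ((DCoh.restrictCx U).obj K)).app P) ≫
          (jD U).map (DerivedCategory.Q.map ((LTC.RTX ((DCoh.restrictCx U).obj K)).map f)) :=
      ((jD U).map_comp _ _).symm.trans ((congrArg (jD U).map n1).trans ((jD U).map_comp _ _))
    exact (Category.assoc _ _ _).symm.trans
      ((congrArg (fun t => t ≫ (jFac U).hom.app
        ((LTC.RTX ((DCoh.restrictCx U).obj K)).obj P')) n1').trans
      ((Category.assoc _ _ _).trans
      ((congrArg (fun t => (jD U).map ((LTC.couCx ((DCoh.restrictCx U).obj K)).app P) ≫ t)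
        n2).trans (Category.assoc _ _ _).symm)))

noncomputable def α₂ : DerivedCategory.Q ⋙ (jD U ⋙ DCoh.LTensorCx K) ⟶ G₂ U K where
  app P := (DCoh.LTensorCx K).map ((jFac U).hom.app P) ≫ (LTC.couCx K).app ((jCx U).obj P)
  naturality P P' f := by
    have n1 := (jFac U).hom.naturality f
    have n2 := (LTC.couCx K).naturality ((jCx U).map f)
    have n1' : (DCoh.LTensorCx K).map ((jD U).map (DerivedCategory.Q.map f)) ≫
        (DCoh.LTensorCx K).map ((jFac U).hom.app P') =
        (DCoh.LTensorCx K).map ((jFac U).hom.app P) ≫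
          (DCoh.LTensorCx K).map (DerivedCategory.Q.map ((jCx U).map f)) :=
      ((DCoh.LTensorCx K).map_comp _ _).symm.trans
        ((congrArg (DCoh.LTensorCx K).map n1).trans ((DCoh.LTensorCx K).map_comp _ _))
    exact (Category.assoc _ _ _).symm.trans
      ((congrArg (fun t => t ≫ (LTC.couCx K).app ((jCx U).obj P')) n1').trans
      ((Category.assoc _ _ _).trans
      ((congrArg (fun t => (DCoh.LTensorCx K).map ((jFac U).hom.app P) ≫ t) n2).trans
        (Category.assoc _ _ _).symm)))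

theorem quasiIso_jCx_map {P P' : CochainComplex (U : Scheme.{u}).Modules ℤ} (f : P ⟶ P')
    (hf : QuasiIso f) : QuasiIso ((jCx U).map f) :=
  inferInstance

theorem isLeftDerived₁ :
    (DCoh.LTensorCx ((DCoh.restrictCx U).obj K) ⋙ jD U).IsLeftDerivedFunctor (α₁ U K)
      (LTC.qisC (X := (U : Scheme.{u}))) := by
  have h0 : (DerivedCategory.Q (C := (U : Scheme.{u}).Modules)).IsLocalization
      (KFlat.qisCx (U : Scheme.{u}).sheaf) :=
    inferInstanceAs ((DerivedCategory.Q (C := (U : Scheme.{u}).Modules)).IsLocalization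
      (LTC.qisC (X := (U : Scheme.{u}))))
  have h : (KFlat.kflatΦ (U : Scheme.{u}).sheaf).Derives (G₁ U K) := by
    intro P P' f hf
    have h1 : QuasiIso ((LTC.RTX ((DCoh.restrictCx U).obj K)).map f.hom) :=
      LTC.quasiIso_RTX_map _ f.hom hf P.property P'.property
    have h2 : QuasiIso ((jCx U).map ((LTC.RTX ((DCoh.restrictCx U).obj K)).map f.hom)) :=
      quasiIso_jCx_map U _ h1
    exact (DerivedCategory.isIso_Q_map_iff_quasiIso X.Modules _).mpr h2
  refine @LDer.isLeftDerivedFunctor_of_isIso _ _ _ _ _ _ _ _ _ _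
    (KFlat.kflatΦ (U : Scheme.{u}).sheaf)
    (KFlat.isLeftDerivabilityStructure_kflatΦ (U : Scheme.{u}).sheaf) _ h
    DerivedCategory.Q h0 _ (α₁ U K) ?_
  intro P
  have i1 : IsIso ((LTC.couCx ((DCoh.restrictCx U).obj K)).app P.obj) :=
    LTC.isIso_couCx_app_of_isKFlat _ P.obj P.property
  change IsIso ((jD U).map ((LTC.couCx ((DCoh.restrictCx U).obj K)).app P.obj) ≫
    (jFac U).hom.app ((LTC.RTX ((DCoh.restrictCx U).obj K)).obj P.obj))
  infer_instance

theorem isLeftDerived₂ :
    (jD U ⋙ DCoh.LTensorCx K).IsLeftDerivedFunctor (α₂ U K)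
      (LTC.qisC (X := (U : Scheme.{u}))) := by
  have h0 : (DerivedCategory.Q (C := (U : Scheme.{u}).Modules)).IsLocalization
      (KFlat.qisCx (U : Scheme.{u}).sheaf) :=
    inferInstanceAs ((DerivedCategory.Q (C := (U : Scheme.{u}).Modules)).IsLocalization
      (LTC.qisC (X := (U : Scheme.{u}))))
  have h : (KFlat.kflatΦ (U : Scheme.{u}).sheaf).Derives (G₂ U K) := by
    intro P P' f hf
    have h1 : QuasiIso ((jCx U).map f.hom) := quasiIso_jCx_map U _ hf
    have h2 : QuasiIso ((LTC.RTX K).map ((jCx U).map f.hom)) :=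
      LTC.quasiIso_RTX_map K _ h1 (isKFlat_jCx U _ P.property) (isKFlat_jCx U _ P'.property)
    exact (DerivedCategory.isIso_Q_map_iff_quasiIso X.Modules _).mpr h2
  refine @LDer.isLeftDerivedFunctor_of_isIso _ _ _ _ _ _ _ _ _ _
    (KFlat.kflatΦ (U : Scheme.{u}).sheaf)
    (KFlat.isLeftDerivabilityStructure_kflatΦ (U : Scheme.{u}).sheaf) _ h
    DerivedCategory.Q h0 _ (α₂ U K) ?_
  intro P
  have i2 : IsIso ((LTC.couCx K).app ((jCx U).obj P.obj)) :=
    LTC.isIso_couCx_app_of_isKFlat K _ (isKFlat_jCx U _ P.property)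
  change IsIso ((DCoh.LTensorCx K).map ((jFac U).hom.app P.obj) ≫
    (LTC.couCx K).app ((jCx U).obj P.obj))
  infer_instance

noncomputable def projIso :
    DCoh.LTensorCx ((DCoh.restrictCx U).obj K) ⋙ jD U ≅ jD U ⋙ DCoh.LTensorCx K := by
  have := isLeftDerived₁ U K
  have := isLeftDerived₂ U K
  exact Functor.leftDerivedNatIso _ _ (α₁ U K) (α₂ U K) (LTC.qisC (X := (U : Scheme.{u})))
    (isoG U K)

theorem restrictD_RSheafHom_iso [DCoh.HasRSheafHom K]
    [DCoh.HasRSheafHom ((DCoh.restrictCx U).obj K)] (M : DCoh.D X) :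
    Nonempty ((DCoh.restrictD U.ι).obj ((DCoh.RSheafHom K).obj M) ≅
      (DCoh.RSheafHom ((DCoh.restrictCx U).obj K)).obj ((DCoh.restrictD U.ι).obj M)) := by
  let adjD : jD U ⊣ DCoh.restrictD U.ι :=
    Groth.Agent.Lib.Helper39.DerAdj.derAdj (CxOX.extZeroAdj U.ι)
  let adj1 := (DCoh.RSheafHomAdj ((DCoh.restrictCx U).obj K)).comp adjD
  let adj2 := adjD.comp (DCoh.RSheafHomAdj K)
  let e := Adjunction.rightAdjointUniq (adj1.ofNatIsoLeft (projIso U K)) adj2
  exact ⟨(e.app M).symm⟩

end Derived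

end Groth.Agent.Lib.Helper12.PJ
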