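import Groth.Agent.Lib.Helper12.RGZ5
import Groth.Prelude.Def_FlatMod2

set_option autoImplicit false
universe u
open CategoryTheory CategoryTheory.Limits AlgebraicGeometry Pretriangulated Opposite

attribute [local instance] HasDerivedCategory.standard

namespace Groth.Agent.Lib.Helper12.PerfRj

open Groth.Agent.Lib.Helper12

noncomputable def restrictCompIso' {W' W Z : Scheme.{u}} (k : W' ⟶ W) (j : W ⟶ Z) (l : W' ⟶ Z)
    [IsOpenImmersion k] [IsOpenImmersion j] [IsOpenImmersion l] (h : k ≫ j = l) :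
    Scheme.Modules.restrictFunctor j ⋙ Scheme.Modules.restrictFunctor k ≅
      Scheme.Modules.restrictFunctor l :=
  (Scheme.Modules.restrictFunctorComp k j).symm ≪≫ Scheme.Modules.restrictFunctorCongr h

noncomputable def restrictFreeModIso {W Z : Scheme.{u}} (g : W ⟶ Z) [IsOpenImmersion g] (n : ℕ) :
    (Scheme.Modules.restrictFunctor g).obj (FlatMod.freeMod Z n) ≅ FlatMod.freeMod W n :=
  PreservesCoproduct.iso (Scheme.Modules.restrictFunctor g) _ ≪≫
    Sigma.mapIso (fun _ => Scheme.Modules.restrictUnitIso g)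

theorem isFinLocFree_restrict {W Z : Scheme.{u}} (g : W ⟶ Z) [IsOpenImmersion g] (M : Z.Modules)
    (hM : FlatMod.IsFinLocFree M) :
    FlatMod.IsFinLocFree ((Scheme.Modules.restrictFunctor g).obj M) := by
  intro y
  obtain ⟨O, n, hyO, ⟨e⟩⟩ := hM (g y)
  refine ⟨g ⁻¹ᵁ O, n, hyO, ⟨?_⟩⟩
  exact (restrictCompIso' (g ⁻¹ᵁ O).ι g ((g ⁻¹ᵁ O).ι ≫ g) rfl).app M ≪≫
    ((restrictCompIso' (g ∣_ O) O.ι ((g ⁻¹ᵁ O).ι ≫ g) (morphismRestrict_ι g O)).app M).symm ≪≫
    (Scheme.Modules.restrictFunctor (g ∣_ O)).mapIso e ≪≫ restrictFreeModIso (g ∣_ O) n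

theorem isStrictlyPerfect_restrict {W Z : Scheme.{u}} (g : W ⟶ Z) [IsOpenImmersion g]
    (E : CochainComplex Z.Modules ℤ) (hE : DCoh.IsStrictlyPerfect E) :
    DCoh.IsStrictlyPerfect
      (((Scheme.Modules.restrictFunctor g).mapHomologicalComplex (ComplexShape.up ℤ)).obj E) := by
  obtain ⟨⟨a, b, hab⟩, hflf⟩ := hE
  refine ⟨⟨a, b, fun i hi => ?_⟩, fun i => isFinLocFree_restrict g _ (hflf i)⟩
  exact Functor.map_isZero (Scheme.Modules.restrictFunctor g) (hab i hi)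

theorem isFinLocFree_of_isZero {Z : Scheme.{u}} (M : Z.Modules) (hM : IsZero M) :
    FlatMod.IsFinLocFree M := by
  intro y
  refine ⟨⊤, 0, trivial, ⟨?_⟩⟩
  refine IsZero.iso (Functor.map_isZero _ hM) ?_
  rw [IsZero.iff_id_eq_zero]
  apply Sigma.hom_ext
  intro b
  exact b.elim0

end Groth.Agent.Lib.Helper12.PerfRj
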