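import Groth.Agent.Lib.Helper12.PerfRj1

set_option autoImplicit false
universe u
open CategoryTheory CategoryTheory.Limits AlgebraicGeometry Pretriangulated Opposite

attribute [local instance] HasDerivedCategory.standard

namespace Groth.Agent.Lib.Helper12.PerfRj

open Groth.Agent.Lib.Helper12 ZeroObject

variable {X : Scheme.{u}}

theorem isStrictlyPerfect_zero {Z : Scheme.{u}} :
    DCoh.IsStrictlyPerfect (0 : CochainComplex Z.Modules ℤ) := by
  have hz : ∀ i : ℤ, IsZero ((0 : CochainComplex Z.Modules ℤ).X i) := fun i =>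
    Functor.map_isZero (HomologicalComplex.eval _ _ i) (isZero_zero _)
  exact ⟨⟨0, 0, fun i _ => hz i⟩, fun i => isFinLocFree_of_isZero _ (hz i)⟩

theorem exists_of_isZero_restrictD (K : DCoh.D X) (V : X.Opens)
    (hz : IsZero ((DCoh.restrictD V.ι).obj K))
    (F : CochainComplex X.Modules ℤ) (e : DCoh.toD X F ≅ K) :
    ∃ E : CochainComplex (V : Scheme.{u}).Modules ℤ, DCoh.IsStrictlyPerfect E ∧
      Nonempty (DerivedCategory.Q.obj ((DCoh.restrictCx V).obj F) ≅ DerivedCategory.Q.obj E) := by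
  refine ⟨0, isStrictlyPerfect_zero, ⟨?_⟩⟩
  have h1 : IsZero (DerivedCategory.Q.obj ((DCoh.restrictCx V).obj F)) :=
    hz.of_iso (((Scheme.Modules.restrictFunctor V.ι).mapDerivedCategoryFactors.app F).symm ≪≫
      (DCoh.restrictD V.ι).mapIso e)
  exact h1.iso (Functor.map_isZero _ (isZero_zero _))

theorem exists_of_image {U : X.Opens} (V' : (U : Scheme.{u}).Opens)
    (F : CochainComplex X.Modules ℤ)
    (E' : CochainComplex (V' : Scheme.{u}).Modules ℤ) (hE' : DCoh.IsStrictlyPerfect E')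
    (e' : DerivedCategory.Q.obj ((DCoh.restrictCx V').obj ((DCoh.restrictCx U).obj F)) ≅
      DerivedCategory.Q.obj E') :
    ∃ E : CochainComplex ((U.ι ''ᵁ V' : X.Opens) : Scheme.{u}).Modules ℤ,
      DCoh.IsStrictlyPerfect E ∧
      Nonempty (DerivedCategory.Q.obj ((DCoh.restrictCx (U.ι ''ᵁ V')).obj F) ≅
        DerivedCategory.Q.obj E) := by
  let ψ : ((U.ι ''ᵁ V' : X.Opens) : Scheme.{u}) ⟶ (V' : Scheme.{u}) := (U.ι.isoImage V').inv
  have hψ : ψ ≫ V'.ι ≫ U.ι = (U.ι ''ᵁ V').ι := U.ι.isoImage_inv_ι V'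
  refine ⟨((Scheme.Modules.restrictFunctor ψ).mapHomologicalComplex (ComplexShape.up ℤ)).obj E',
    isStrictlyPerfect_restrict ψ E' hE', ⟨?_⟩⟩
  let κ : Scheme.Modules.restrictFunctor (U.ι ''ᵁ V').ι ≅
      Scheme.Modules.restrictFunctor U.ι ⋙ Scheme.Modules.restrictFunctor V'.ι ⋙
        Scheme.Modules.restrictFunctor ψ :=
    (restrictCompIso' (ψ ≫ V'.ι) U.ι (U.ι ''ᵁ V').ι (by rw [Category.assoc]; exact hψ)).symm ≪≫
      Functor.isoWhiskerLeft _ (restrictCompIso' ψ V'.ι (ψ ≫ V'.ι) rfl).symm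
  let c₁ : (DCoh.restrictCx (U.ι ''ᵁ V')).obj F ≅
      ((Scheme.Modules.restrictFunctor ψ).mapHomologicalComplex (ComplexShape.up ℤ)).obj
        ((DCoh.restrictCx V').obj ((DCoh.restrictCx U).obj F)) :=
    (NatIso.mapHomologicalComplex κ (ComplexShape.up ℤ)).app F ≪≫
      HomologicalComplex.Hom.isoOfComponents (fun _ => Iso.refl _)
        (fun _ _ _ => (Category.id_comp _).trans (Category.comp_id _).symm)
  exact DerivedCategory.Q.mapIso c₁ ≪≫
    ((Scheme.Modules.restrictFunctor ψ).mapDerivedCategoryFactors.app _).symm ≪≫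
    (DCoh.restrictD ψ).mapIso e' ≪≫
    (Scheme.Modules.restrictFunctor ψ).mapDerivedCategoryFactors.app E'

theorem isPerfect_Rpush (U : X.Opens) [DCoh.HasRpush U.ι] (E : DCoh.D (U : Scheme.{u}))
    (hE : DCoh.IsPerfect E) (T : Set (U : Scheme.{u}))
    (hjT : IsClosed ((fun x : (U : Scheme.{u}) => U.ι.base x) '' T))
    (hsupp : ∀ i : ℤ, CohB1.support (DCoh.HD E i) ⊆ T) :
    DCoh.IsPerfect ((DCoh.Rpush U.ι).obj E) := by
  intro x
  by_cases hx : x ∈ (fun x : (U : Scheme.{u}) => U.ι.base x) '' T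
  · obtain ⟨x', -, rfl⟩ := hx
    obtain ⟨V', hxV', hV'⟩ := hE x'
    refine ⟨U.ι ''ᵁ V', ⟨x', hxV', rfl⟩, fun F he => ?_⟩
    obtain ⟨e⟩ := he
    obtain ⟨adj, hadj⟩ := GlueD.exists_adjD U.ι
    have eF' : DCoh.toD (U : Scheme.{u}) ((DCoh.restrictCx U).obj F) ≅ E :=
      ((Scheme.Modules.restrictFunctor U.ι).mapDerivedCategoryFactors.app F).symm ≪≫
        (DCoh.restrictD U.ι).mapIso e ≪≫ asIso (adj.counit.app E)
    obtain ⟨E', hE', ⟨e'⟩⟩ := hV' _ ⟨eF'⟩
    exact exists_of_image V' F E' hE' e'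
  · let V : X.Opens := ⟨((fun x : (U : Scheme.{u}) => U.ι.base x) '' T)ᶜ, hjT.isOpen_compl⟩
    refine ⟨V, hx, fun F he => ?_⟩
    obtain ⟨e⟩ := he
    refine exists_of_isZero_restrictD _ V ?_ F e
    apply RGZ.isZero_restrictD_Rpush U.ι V E
    apply SuppZ.isZero_restrictD_of_support
    intro i y hy hy'
    exact hy ⟨y, hsupp i hy', rfl⟩

end Groth.Agent.Lib.Helper12.PerfRj
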