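import Groth.Agent.Lib.Helper12.TotFun2
import Groth.Agent.Lib.Helper12.LTC3
import Groth.Agent.Lib.Helper26.SheafHomRestr
import Groth.Agent.Lib.Helper26.ProjFormula2
import Groth.Agent.Lib.Helper2.DCohPerf

set_option autoImplicit false
universe u
open CategoryTheory CategoryTheory.Limits AlgebraicGeometry

attribute [local instance] HasDerivedCategory.standard

namespace Groth.Agent.Lib.Helper12.PerfT

open Scheme.Modules Groth.Agent.Lib.Helper2.DCohBase
open Groth.Agent.Lib.Helper60.TensorRestrict Groth.Agent.Lib.Helper26.ProjFormula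
  Groth.Agent.Lib.Helper26.SheafHomRestr

variable {X U : Scheme.{u}} (j : U ⟶ X) [IsOpenImmersion j]


noncomputable def eIso (A B : X.Modules) :
    (restrictFunctor j).obj (((DCoh.tensorBi (X := X)).obj A).obj B) ≅
      ((DCoh.tensorBi (X := U)).obj ((restrictFunctor j).obj A)).obj ((restrictFunctor j).obj B) :=
  restrictTensorIso j A B

theorem he₁ {A A' : X.Modules} (f : A ⟶ A') (B : X.Modules) :
    (restrictFunctor j).map (((DCoh.tensorBi (X := X)).map f).app B) ≫ (eIso j A' B).hom =
      (eIso j A B).hom ≫ ((DCoh.tensorBi (X := U)).map ((restrictFunctor j).map f)).app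
        ((restrictFunctor j).obj B) := by
  have h := restrictTensorHom_natural_left j B f
  rw [← Iso.eq_comp_inv, Category.assoc, ← Iso.inv_comp_eq]
  exact h

theorem he₂ (A : X.Modules) {B B' : X.Modules} (g : B ⟶ B') :
    (restrictFunctor j).map (((DCoh.tensorBi (X := X)).obj A).map g) ≫ (eIso j A B').hom =
      (eIso j A B).hom ≫ ((DCoh.tensorBi (X := U)).obj ((restrictFunctor j).obj A)).map
        ((restrictFunctor j).map g) := by
  have h := restrictTensorHom_natural j A g
  rw [← Iso.eq_comp_inv, Category.assoc, ← Iso.inv_comp_eq]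
  exact h

instance preservesColimits_restrictFunctor :
    PreservesColimitsOfSize.{u, u} (restrictFunctor j) :=
  (restrictAdjunction j).leftAdjoint_preservesColimits

noncomputable def resTensIso (M L : CochainComplex X.Modules ℤ) :
    (resCx j).obj ((DCoh.tensorCx.obj M).obj L) ≅
      (DCoh.tensorCx.obj ((resCx j).obj M)).obj ((resCx j).obj L) :=
  TotFun.mapBifunctorIso (DCoh.tensorBi (X := X)) (DCoh.tensorBi (X := U)) (restrictFunctor j)
    (restrictFunctor j) (restrictFunctor j) (eIso j) (he₁ j) (he₂ j) M L (ComplexShape.up ℤ)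

end Groth.Agent.Lib.Helper12.PerfT
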