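import Groth.Agent.Lib.Helper35.FinLocFreeSum
import Groth.Agent.Lib.Helper2.DCohBase

set_option autoImplicit false
universe u
open CategoryTheory CategoryTheory.Limits AlgebraicGeometry

namespace Groth.Agent.Lib.Helper12.PerfT

section Abstract

variable {C : Type*} [Category C] [Preadditive C] [HasFiniteBiproducts C]
  {ι : Type} (N : ι → C) (S : Finset ι)

open Classical in
noncomputable def finι (i : ι) : N i ⟶ ⨁ (fun s : S => N s.1) :=
  if h : i ∈ S then biproduct.ι (fun s : S => N s.1) ⟨i, h⟩ else 0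

theorem finι_pos (i : ι) (h : i ∈ S) :
    finι N S i = biproduct.ι (fun s : S => N s.1) ⟨i, h⟩ := by
  unfold finι
  rw [dif_pos h]

noncomputable def finCocone : Cocone (Discrete.functor N) where
  pt := ⨁ (fun s : S => N s.1)
  ι := Discrete.natTrans (fun i => finι N S i.as)

noncomputable def isColimitFinCocone (hS : ∀ i, i ∉ S → IsZero (N i)) :
    IsColimit (finCocone N S) where
  desc s := biproduct.desc (fun t : S => s.ι.app ⟨t.1⟩)
  fac s := by
    rintro ⟨i⟩
    by_cases h : i ∈ S
    · change finι N S i ≫ _ = _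
      rw [finι_pos N S i h, biproduct.ι_desc]
    · exact (hS i h).eq_of_src _ _
  uniq s m hm := by
    apply biproduct.hom_ext'
    intro t
    rw [biproduct.ι_desc]
    have h := hm ⟨t.1⟩
    change finι N S t.1 ≫ m = _ at h
    rw [finι_pos N S t.1 t.2] at h
    exact h

end Abstract

section Sch

variable {X : Scheme.{u}}

theorem isFinLocFree_of_isColimit {ι : Type} (N : ι → X.Modules) (S : Finset ι)
    (hS : ∀ i, i ∉ S → IsZero (N i)) (hN : ∀ i, FlatMod.IsFinLocFree (N i))
    (c : Cocone (Discrete.functor N)) (hc : IsColimit c) : FlatMod.IsFinLocFree c.pt := by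
  have e1 : c.pt ≅ ⨁ (fun s : S => N s.1) :=
    hc.coconePointUniqueUpToIso (isColimitFinCocone N S hS)
  let ε : Fin S.card ≃ S := S.equivFin.symm
  have e2 : ⨁ ((fun s : S => N s.1) ∘ ε) ≅ ⨁ (fun s : S => N s.1) :=
    biproduct.reindex ε (fun s : S => N s.1)
  have h3 : FlatMod.IsFinLocFree (⨁ ((fun s : S => N s.1) ∘ ε)) :=
    Groth.Agent.Lib.Helper35.FinLocFreeSum.isFinLocFree_biproduct _ (fun j => hN _)
  exact Groth.Agent.Lib.Helper7.FinLocFree.isFinLocFree_of_iso (e2 ≪≫ e1.symm) h3

end Sch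

end Groth.Agent.Lib.Helper12.PerfT
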