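import Groth.Agent.Lib.Helper12.PerfT2
import Groth.Agent.Lib.Helper12.LTS6
import Groth.Agent.Lib.Helper12.LTC
import Groth.Agent.Lib.Helper45.ResPropTensor

set_option autoImplicit false
universe u
open CategoryTheory CategoryTheory.Limits AlgebraicGeometry

namespace Groth.Agent.Lib.Helper12.PerfT

open Groth.Agent.Lib.Helper12

variable {X : Scheme.{u}}

theorem isStrictlyPerfect_tensor (E₁ E₂ : CochainComplex X.Modules ℤ)
    (h₁ : DCoh.IsStrictlyPerfect E₁) (h₂ : DCoh.IsStrictlyPerfect E₂) :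
    DCoh.IsStrictlyPerfect ((DCoh.tensorCx.obj E₁).obj E₂) := by
  obtain ⟨⟨a₁, b₁, v₁⟩, f₁⟩ := h₁
  obtain ⟨⟨a₂, b₂, v₂⟩, f₂⟩ := h₂
  refine ⟨⟨a₁ + a₂, b₁ + b₂, ?_⟩, ?_⟩
  · intro k hk
    refine LTS.isZero_T_X (O := X.sheaf) E₁ E₂ k ?_
    intro a b hab
    by_cases ha : a < a₁ ∨ b₁ < a
    · exact Or.inl (v₁ a ha)
    · right
      apply v₂
      omega
  · intro k
    classical
    let g : ℤ → KFlat.fib k := fun a => ⟨(a, k - a), by
      change a + (k - a) = k
      omega⟩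
    let S : Finset (KFlat.fib k) := (Finset.Icc a₁ b₁).image g
    refine isFinLocFree_of_isColimit
      (fun i : KFlat.fib k => ((DCoh.tensorBi (X := X)).obj (E₁.X i.1.1)).obj (E₂.X i.1.2)) S ?_ ?_
      (KFlat.coc (O := X.sheaf) E₁ E₂ k) (KFlat.isColimitCoc (O := X.sheaf) E₁ E₂ k)
    · rintro ⟨⟨a, b⟩, hab⟩ hS
      have hab' : a + b = k := hab
      have hlt : a < a₁ ∨ b₁ < a := by
        by_contra hcon
        push Not at hcon
        apply hS
        rw [Finset.mem_image]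
        refine ⟨a, Finset.mem_Icc.2 hcon, ?_⟩
        apply Subtype.ext
        change (a, k - a) = (a, b)
        rw [Prod.mk.injEq]
        exact ⟨rfl, by omega⟩
      exact (Functor.map_isZero (DCoh.tensorBi (X := X)) (v₁ a hlt)).obj _
    · intro i
      exact Groth.Agent.Lib.Helper45.ResPropTensor.isFinLocFree_tensorMod' (f₁ _) (f₂ _)

end Groth.Agent.Lib.Helper12.PerfT
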