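import Groth.Agent.Lib.Helper12.Sky6
import Mathlib.RingTheory.Flat.FaithfullyFlat.Algebra
import Mathlib.AlgebraicGeometry.Morphisms.Flat

set_option autoImplicit false
universe u
open CategoryTheory CategoryTheory.Limits AlgebraicGeometry TopologicalSpace Opposite

namespace Groth.Agent.Lib.Helper12.Sky

theorem extendScalars_map_eq_zero {R S : Type u} [CommRing R] [CommRing S] (φ : R →+* S)
    (hφ : letI := φ.toAlgebra; Module.FaithfullyFlat R S) {M N : ModuleCat.{u} R} (g : M ⟶ N)
    (h : (ModuleCat.extendScalars φ).map g = 0) : g = 0 := by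
  let _ := φ.toAlgebra
  have h1 : LinearMap.baseChange S g.hom = 0 := congrArg ModuleCat.Hom.hom h
  have h2 : LinearMap.lTensor S g.hom = 0 := by
    apply LinearMap.ext
    intro t
    have := congrFun (LinearMap.baseChange_eq_ltensor (A := S) g.hom) t
    rw [← this, h1]
    rfl
  have h3 : g.hom = 0 := (Module.FaithfullyFlat.zero_iff_lTensor_zero R S g.hom).mpr h2
  exact ModuleCat.hom_ext h3

variable {X Y : Scheme.{u}}

theorem hom_eq_zero_of_stalk {M N : Y.Modules} (χ : M ⟶ N)
    (h : ∀ y, (DerSch.stalkFunctor Y y).map χ = 0) : χ = 0 := by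
  apply hom_ext_sec
  intro U s
  refine TopCat.Presheaf.section_ext ⟨N.presheaf, N.isSheaf⟩ U _ _ fun y hy => ?_
  have := DerSch.stalkFunctor_map_germ y χ U hy s
  rw [h y] at this
  change N.presheaf.germ U y hy (χ.app U s) = N.presheaf.germ U y hy 0
  rw [← this, map_zero]
  rfl

theorem faithfullyFlat_stalkMap (f : X ⟶ Y) [Flat f] (x : X) :
    letI := (f.stalkMap x).hom.toAlgebra
    Module.FaithfullyFlat (Y.presheaf.stalk (f.base x)) (X.presheaf.stalk x) := by
  let _ := (f.stalkMap x).hom.toAlgebra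
  have : Module.Flat (Y.presheaf.stalk (f.base x)) (X.presheaf.stalk x) :=
    AlgebraicGeometry.Flat.stalkMap f x
  have : IsLocalHom (algebraMap (Y.presheaf.stalk (f.base x)) (X.presheaf.stalk x)) :=
    inferInstanceAs (IsLocalHom (f.stalkMap x).hom)
  exact Module.FaithfullyFlat.of_flat_of_isLocalHom

theorem stalk_map_eq_zero_of_pullback_map_eq_zero (f : X ⟶ Y) [Flat f] (x : X)
    {M N : Y.Modules} (χ : M ⟶ N) (h : (Scheme.Modules.pullback f).map χ = 0) :
    (DerSch.stalkFunctor Y (f.base x)).map χ = 0 := by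
  apply extendScalars_map_eq_zero (f.stalkMap x).hom (faithfullyFlat_stalkMap f x)
  have nat := (stalkPullbackIso f x).hom.naturality χ
  simp only [Functor.comp_map, h, Functor.map_zero, zero_comp] at nat
  have h2 := congrArg (fun t => (stalkPullbackIso f x).inv.app M ≫ t) nat
  simp only [comp_zero, Iso.inv_hom_id_app_assoc] at h2
  exact h2.symm

theorem faithful_pullback (f : X ⟶ Y) [Flat f] [Surjective f] :
    (Scheme.Modules.pullback f).Faithful := by
  refine ⟨fun {M N} a b hab => ?_⟩
  have key : ∀ χ : M ⟶ N, (Scheme.Modules.pullback f).map χ = 0 → χ = 0 := by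
    intro χ hχ
    apply hom_eq_zero_of_stalk
    intro y
    obtain ⟨x, rfl⟩ := f.surjective y
    exact stalk_map_eq_zero_of_pullback_map_eq_zero f x χ hχ
  have := key (a - b) (by rw [Functor.map_sub, hab, sub_self])
  exact sub_eq_zero.mp this

end Groth.Agent.Lib.Helper12.Sky
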