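import Groth.Agent.Lib.Helper12.StalkExact
import Groth.Agent.Lib.Helper84.FlatAmp
import Groth.Prelude.Def_DTor2
import Groth.Agent.Lib.Helper12.FreeRes7
import Groth.Agent.Lib.Helper12.FlatBridge2
import Groth.Agent.Lib.Helper43.TorAmpDescent
import Mathlib.Algebra.Homology.DerivedCategory.ExactFunctor

set_option autoImplicit false
universe u
open CategoryTheory CategoryTheory.Limits AlgebraicGeometry
attribute [local instance] HasDerivedCategory.standard

namespace Groth.Agent.Lib.Helper12.StalkExact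

variable {X : Scheme.{u}}

theorem stalkMap_id_hom (x : X) :
    ((𝟙 X : X ⟶ X).stalkMap x).hom = RingHom.id (X.presheaf.stalk x) := by
  rw [Scheme.Hom.stalkMap_id]
  rfl

noncomputable def stalkOverIdIso (x : X) :
    DerSch.stalkOver (𝟙 X) x ≅ DerSch.stalkFunctor X x :=
  Functor.isoWhiskerLeft (DerSch.stalkFunctor X x)
    (ModuleCat.restrictScalarsId' ((𝟙 X : X ⟶ X).stalkMap x).hom (stalkMap_id_hom x)) ≪≫
    Functor.rightUnitor _

noncomputable def stalkCxOverIdIso (x : X) (F : CochainComplex X.Modules ℤ) :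
    (DerSch.stalkCxOver (𝟙 X) x).obj F ≅ (stalkCx X x).obj F :=
  (@NatIso.mapHomologicalComplex _ _ _ _ _ _ _ _ _
    (inferInstance : (DerSch.stalkOver (𝟙 X) x).PreservesZeroMorphisms)
    (inferInstance : (DerSch.stalkFunctor X x).PreservesZeroMorphisms)
    (stalkOverIdIso x) (ComplexShape.up ℤ)).app F

theorem hasTorAmplitudeAt_id_iff (a b : ℤ) (F : CochainComplex X.Modules ℤ) (x : X) :
    DerSch.HasTorAmplitudeAt (𝟙 X) a b F x ↔
      DRing.HasTorAmplitudeIn (X.presheaf.stalk x) a b (DRing.toD ((stalkCx X x).obj F)) := by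
  constructor
  · intro h
    exact Groth.Agent.Lib.Helper84.FlatAmp.torAmp_of_iso h
      (DerivedCategory.Q.mapIso (stalkCxOverIdIso x F))
  · intro h
    exact Groth.Agent.Lib.Helper84.FlatAmp.torAmp_of_iso h
      (DerivedCategory.Q.mapIso (stalkCxOverIdIso x F)).symm

end Groth.Agent.Lib.Helper12.StalkExact

namespace Groth.Agent.Lib.Helper12.StalkExact

variable {X : Scheme.{u}}

noncomputable def stalkCxDIso {E F : CochainComplex X.Modules ℤ}
    (e : DCoh.toD X E ≅ DCoh.toD X F) (x : X) :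
    DRing.toD ((stalkCx X x).obj E) ≅ DRing.toD ((stalkCx X x).obj F) :=
  ((DerSch.stalkFunctor X x).mapDerivedCategoryFactors.app E).symm ≪≫
    (DerSch.stalkFunctor X x).mapDerivedCategory.mapIso e ≪≫
    (DerSch.stalkFunctor X x).mapDerivedCategoryFactors.app F

theorem hasTorAmplitude_id_of_hasFlatAmplitudeIn (F : CochainComplex X.Modules ℤ) (a b : ℤ)
    (h : DCoh.HasFlatAmplitudeIn a b (DCoh.toD X F)) : DerSch.HasTorAmplitude (𝟙 X) a b F := by
  obtain ⟨E, hE, hflat, ⟨e⟩⟩ := h
  intro x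
  rw [hasTorAmplitudeAt_id_iff]
  refine ⟨(stalkCx X x).obj E, ?_, ?_, ⟨stalkCxDIso e x⟩⟩
  · intro i hi
    exact Functor.map_isZero (DerSch.stalkFunctor X x) (hE i hi)
  · intro i
    exact hflat i x

end Groth.Agent.Lib.Helper12.StalkExact

namespace Groth.Agent.Lib.Helper12.StalkExact

variable {X : Scheme.{u}}

noncomputable def qIso {K L : CochainComplex X.Modules ℤ} (f : K ⟶ L) (hf : QuasiIso f) :
    DCoh.toD X K ≅ DCoh.toD X L :=
  @asIso _ _ _ _ (DerivedCategory.Q.map f)
    ((DerivedCategory.isIso_Q_map_iff_quasiIso X.Modules f).mpr hf)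

theorem exists_flat_resolution (G : CochainComplex X.Modules ℤ) (b : ℤ)
    (hG : ∀ i : ℤ, b < i → IsZero (G.X i)) :
    ∃ (R : CochainComplex X.Modules ℤ) (q : R ⟶ G), QuasiIso q ∧
      (∀ i : ℤ, b < i → IsZero (R.X i)) ∧ (∀ i : ℤ, FlatMod.IsFlat (R.X i)) := by
  obtain ⟨R, q, hq, hRb, hRfl, _⟩ :=
    Groth.Agent.Lib.Helper12.FreeRes.exists_bddLE_flat_resolution (O := X.sheaf) G b hG
  exact ⟨R, q, hq, hRb,
    fun i => (Groth.Agent.Lib.Helper12.FlatBridge.isFlat_iff_flatMod _).mp (hRfl i)⟩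

theorem hasFlatAmplitudeIn_of_hasTorAmplitude_id (F : CochainComplex X.Modules ℤ) (a b : ℤ)
    (h : DerSch.HasTorAmplitude (𝟙 X) a b F) : DCoh.HasFlatAmplitudeIn a b (DCoh.toD X F) := by
  have hx : ∀ x : X, DRing.HasTorAmplitudeIn (X.presheaf.stalk x) a b
      (DRing.toD ((stalkCx X x).obj F)) :=
    fun x => (hasTorAmplitudeAt_id_iff a b F x).1 (h x)
  have hFle : F.IsLE b := by
    rw [CochainComplex.isLE_iff]
    intro i hi
    rw [exactAt_iff_stalk]
    intro x
    have : (DRing.toD ((stalkCx X x).obj F)).IsLE b :=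
      Groth.Agent.Lib.Helper84.FlatAmp.torAmp_isLE (hx x)
    have h1 : ((stalkCx X x).obj F).IsLE b := (DerivedCategory.isLE_Q_obj_iff _ b).mp inferInstance
    exact (CochainComplex.isLE_iff _ b).1 h1 i hi
  have hι : QuasiIso (F.ιTruncLE b) := (CochainComplex.quasiIso_ιTruncLE_iff F b).mpr hFle
  obtain ⟨R, q, hq, hRb, hRflX⟩ := exists_flat_resolution (F.truncLE b) b
      (fun i hi => CochainComplex.isZero_of_isStrictlyLE (F.truncLE b) b i hi)
  let eR : DCoh.toD X R ≅ DCoh.toD X F := qIso q hq ≪≫ qIso (F.ιTruncLE b) hι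
  have key : ∀ x : X, Module.Flat (X.presheaf.stalk x) (((stalkCx X x).obj R).opcycles a) ∧
      ∀ i : ℤ, i < a → ((stalkCx X x).obj R).ExactAt i := by
    intro x
    apply Groth.Agent.Lib.Helper43.TorAmpDescent.flat_opcycles_of_hasTorAmplitudeIn
      ((stalkCx X x).obj R) b
    · intro i hi
      exact Functor.map_isZero (DerSch.stalkFunctor X x) (hRb i hi)
    · intro i
      exact hRflX i x
    · exact Groth.Agent.Lib.Helper84.FlatAmp.torAmp_of_iso (hx x) (stalkCxDIso eR x).symm
  have hRge : R.IsGE a := by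
    rw [CochainComplex.isGE_iff]
    intro i hi
    rw [exactAt_iff_stalk]
    intro x
    exact (key x).2 i hi
  have hπ : QuasiIso (R.πTruncGE a) := (CochainComplex.quasiIso_πTruncGE_iff R a).mpr hRge
  have hop : FlatMod.IsFlat (R.opcycles a) := by
    intro x
    have := (key x).1
    exact Module.Flat.of_linearEquiv (stalkOpcyclesIso R x a).toLinearEquiv.symm
  refine ⟨R.truncGE a, ?_, ?_, ⟨(qIso (R.πTruncGE a) hπ).symm ≪≫ eR⟩⟩
  · intro i hi
    rcases lt_trichotomy i a with hlt | rfl | hgt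
    · exact CochainComplex.isZero_of_isStrictlyGE _ a i hlt
    · have hi' : b < i := by
        rcases hi with hi | hi
        · exact absurd hi (lt_irrefl _)
        · exact hi
      exact IsZero.of_iso (IsZero.of_epi (R.pOpcycles i) (hRb i hi')) (R.truncGEXIsoOpcycles i)
    · have hi' : b < i := by
        rcases hi with hi | hi
        · lia
        · exact hi
      exact IsZero.of_iso (hRb i hi') (R.truncGEXIso a i hgt)
  · intro i
    rcases lt_trichotomy i a with hlt | rfl | hgt
    · exact flatMod_of_isZero (CochainComplex.isZero_of_isStrictlyGE _ a i hlt)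
    · exact flatMod_of_iso (R.truncGEXIsoOpcycles i).symm hop
    · exact flatMod_of_iso (R.truncGEXIso a i hgt).symm (hRflX i)

end Groth.Agent.Lib.Helper12.StalkExact
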