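import Groth.Agent.Lib.Helper12.PerfT1
import Groth.Agent.Lib.Helper12.PerfT3
import Groth.Agent.Lib.Helper12.KFlat26
import Groth.Agent.Lib.Helper2.DCohFlat
import Groth.Agent.Lib.Helper2.LpullStalk
import Groth.Agent.Lib.Helper12.LTK3

set_option autoImplicit false
universe u
open CategoryTheory CategoryTheory.Limits AlgebraicGeometry

attribute [local instance] HasDerivedCategory.standard

namespace Groth.Agent.Lib.Helper12.PerfT

open Scheme.Modules Groth.Agent.Lib.Helper2.DCohBase Groth.Agent.Lib.Helper2.DCohPerf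
open Groth.Agent.Lib.Helper12

theorem nonempty_iso_of_inverts {C : Type*} [Category C] [Abelian C] [HasDerivedCategory C]
    {D : Type*} [Category D] (F : CochainComplex C ℤ ⥤ D)
    (hF : (HomologicalComplex.quasiIso C (ComplexShape.up ℤ)).IsInvertedBy F)
    {A B : CochainComplex C ℤ} (e : DerivedCategory.Q.obj A ≅ DerivedCategory.Q.obj B) :
    Nonempty (F.obj A ≅ F.obj B) := by
  let F' := Localization.lift F hF DerivedCategory.Q
  let φ : DerivedCategory.Q ⋙ F' ≅ F := Localization.fac F hF DerivedCategory.Q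
  exact ⟨(φ.app A).symm ≪≫ F'.mapIso e ≪≫ φ.app B⟩

variable {X : Scheme.{u}}

theorem isKFlat_of_iso {E E' : CochainComplex X.Modules ℤ} (e : E ≅ E') (h : DCoh.IsKFlat E) :
    DCoh.IsKFlat E' := by
  intro L hL i
  exact (h L hL i).of_iso ((HomologicalComplex.homologyFunctor _ _ i).mapIso
    ((DCoh.tensorCx.obj L).mapIso e.symm))

theorem isKFlat_resCx {U : Scheme.{u}} (j : U ⟶ X) [IsOpenImmersion j]
    (L : CochainComplex X.Modules ℤ) (hL : DCoh.IsKFlat L) : DCoh.IsKFlat ((resCx j).obj L) := by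
  have h := Groth.Agent.Lib.Helper2.Lpull.isKFlat_pbCx j L hL
  exact isKFlat_of_iso ((NatIso.mapHomologicalComplex (restrictFunctorIsoPullback j)
    (ComplexShape.up ℤ)).app L).symm h

theorem isKFlat_of_isStrictlyPerfect (E : CochainComplex X.Modules ℤ)
    (hE : DCoh.IsStrictlyPerfect E) : DCoh.IsKFlat E := by
  obtain ⟨⟨a, b, v⟩, f⟩ := hE
  exact LTK.isKFlat_of_vanishesOutside E a b v
    (fun i => Groth.Agent.Lib.Helper2.DCohFlat.isFlat_of_isFinLocFree _ (f i))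

theorem isPerfect_LTensorCx (L : CochainComplex X.Modules ℤ) (hL : DCoh.IsKFlat L)
    (hLp : DCoh.IsPerfect (DerivedCategory.Q.obj L)) [DCoh.HasLTensorCx L] (K : DCoh.D X)
    (hK : DCoh.IsPerfect K) : DCoh.IsPerfect ((DCoh.LTensorCx L).obj K) := by
  rw [isPerfect_iff]
  intro x
  obtain ⟨U, j, hj, hx, E₁, E₂, hE₁, hE₂, ⟨e₁⟩, ⟨e₂⟩⟩ :=
    perfAt_common ((isPerfect_iff K).1 hK x) ((isPerfect_iff _).1 hLp x)
  have := hj
  obtain ⟨M, ⟨eM⟩⟩ := exists_rep K
  have hiso : IsIso ((LTC.couCx L).app M) := LTC.isIso_couCx_app_of_isKFlat' L hL M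
  let iso0 : (DCoh.LTensorCx L).obj K ≅
      DerivedCategory.Q.obj ((DCoh.tensorCx.obj M).obj L) :=
    (DCoh.LTensorCx L).mapIso eM.symm ≪≫ asIso ((LTC.couCx L).app M)
  refine perfAt_of_iso iso0.symm ?_
  have hL' : DCoh.IsKFlat ((resCx j).obj L) := isKFlat_resCx j L hL
  have hE₁' : DCoh.IsKFlat E₁ := isKFlat_of_isStrictlyPerfect E₁ hE₁
  have eM' : DerivedCategory.Q.obj ((resCx j).obj M) ≅ DerivedCategory.Q.obj E₁ :=
    (resDQ j M).symm ≪≫ (resD j).mapIso eM ≪≫ e₁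
  have eL' : DerivedCategory.Q.obj ((resCx j).obj L) ≅ DerivedCategory.Q.obj E₂ :=
    (resDQ j L).symm ≪≫ e₂
  have inv1 : (HomologicalComplex.quasiIso U.Modules (ComplexShape.up ℤ)).IsInvertedBy
      (DCoh.tensorCxQ ((resCx j).obj L)) := by
    intro P P' f hf
    exact LTC.isIso_tensorCxQ_map' _ hL' f hf
  have inv2 : (HomologicalComplex.quasiIso U.Modules (ComplexShape.up ℤ)).IsInvertedBy
      (DCoh.tensorCx.obj E₁ ⋙ DerivedCategory.Q) := by
    intro P P' f hf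
    have hq : QuasiIso f := (HomologicalComplex.mem_quasiIso_iff f).1 hf
    have h1 : QuasiIso ((DCoh.tensorCx.obj E₁).map f) :=
      @KFlat.quasiIso_tensor_left_of_isKFlat _ _ _ U.sheaf E₁ hE₁' P P' f hq
    exact (DerivedCategory.isIso_Q_map_iff_quasiIso U.Modules _).mpr h1
  obtain ⟨i1⟩ := nonempty_iso_of_inverts _ inv1 eM'
  obtain ⟨i2⟩ := nonempty_iso_of_inverts _ inv2 eL'
  refine ⟨U, j, hj, hx, (DCoh.tensorCx.obj E₁).obj E₂, isStrictlyPerfect_tensor E₁ E₂ hE₁ hE₂, ⟨?_⟩⟩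
  exact resDQ j _ ≪≫ DerivedCategory.Q.mapIso (resTensIso j M L) ≪≫ i1 ≪≫ i2

end Groth.Agent.Lib.Helper12.PerfT
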