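import Groth.Agent.Lib.Lead.QCohLocal

set_option autoImplicit false
universe u
open CategoryTheory CategoryTheory.Limits AlgebraicGeometry

namespace Groth.Agent.Lib.Helper12.QCohSigma

open Scheme.Modules

theorem isQuasicoherent_of_iso {X : Scheme.{u}} {M N : X.Modules} (e : M ≅ N)
    (hM : M.IsQuasicoherent) : N.IsQuasicoherent :=
  (SheafOfModules.isQuasicoherent X.ringCatSheaf).prop_of_iso e hM

theorem isQuasicoherent_tilde {R : CommRingCat.{u}} (N : ModuleCat.{u} R) :
    ((tilde.functor R).obj N).IsQuasicoherent := inferInstance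

theorem isQuasicoherent_sigma_spec {R : CommRingCat.{u}} {ι : Type u} (M : ι → (Spec R).Modules)
    (hM : ∀ i, (M i).IsQuasicoherent) : (∐ M).IsQuasicoherent := by
  have h1 : ∀ i, ∃ N : ModuleCat.{u} R, Nonempty ((tilde.functor R).obj N ≅ M i) := fun i => by
    have h2 : (tilde.functor R).essImage (M i) := by
      rw [essImage_tilde]
      exact hM i
    exact h2
  choose N e1 using h1
  have : PreservesColimitsOfSize.{u, u} (tilde.functor R) :=
    (tilde.adjunction (R := R)).leftAdjoint_preservesColimits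
  let e2 : (tilde.functor R).obj (∐ N) ≅ ∐ fun i => (tilde.functor R).obj (N i) :=
    PreservesCoproduct.iso (tilde.functor R) N
  let e3 : (∐ fun i => (tilde.functor R).obj (N i)) ≅ ∐ M := Sigma.mapIso fun i => (e1 i).some
  exact isQuasicoherent_of_iso (e2 ≪≫ e3) (isQuasicoherent_tilde _)

theorem isQuasicoherent_sigma {X : Scheme.{u}} {ι : Type u} (M : ι → X.Modules)
    (hM : ∀ i, (M i).IsQuasicoherent) : (∐ M).IsQuasicoherent := by
  apply Groth.Agent.Lib.Lead.QCohLocal.isQuasicoherent_of_forall_affine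
  intro x
  obtain ⟨_, ⟨U, hU : IsAffineOpen U, rfl⟩, hxU, -⟩ :=
    (X.isBasis_affineOpens).exists_subset_of_mem_open (Set.mem_univ x) isOpen_univ
  refine ⟨U, hU, hxU, ?_⟩
  have : PreservesColimitsOfSize.{u, u} (restrictFunctor hU.fromSpec) :=
    (restrictAdjunction hU.fromSpec).leftAdjoint_preservesColimits
  let e : (restrictFunctor hU.fromSpec).obj (∐ M) ≅
      ∐ fun i => (restrictFunctor hU.fromSpec).obj (M i) :=
    PreservesCoproduct.iso (restrictFunctor hU.fromSpec) M
  refine isQuasicoherent_of_iso e.symm (isQuasicoherent_sigma_spec _ fun i => ?_)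
  have := hM i
  exact isQuasicoherent_restrictFunctor hU.fromSpec (M i)

end Groth.Agent.Lib.Helper12.QCohSigma
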