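import Groth.Agent.Lib.Helper12.SuppRj3
import Groth.Agent.Lib.Helper26.ModMV
import Mathlib.Algebra.Homology.DerivedCategory.ShortExact

set_option autoImplicit false
universe u
open CategoryTheory CategoryTheory.Limits AlgebraicGeometry Pretriangulated Opposite

attribute [local instance] HasDerivedCategory.standard

namespace Groth.Agent.Lib.Helper12.RGZ

open Groth.Agent.Lib.Helper12 Groth.Agent.Lib.Helper26.ModMV

variable {U X : Scheme.{u}} (j : U ⟶ X) [IsOpenImmersion j]

theorem epi_of_sections_surjective {M N : X.Modules} (g : M ⟶ N)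
    (h3 : ∀ T : X.Opens, Function.Surjective (g.app T)) : Epi g := by
  have hpl : PreservesFiniteLimits (toAbF X) := preservesFiniteLimits_toAbF X
  have hpc : PreservesFiniteColimits (toAbF X) := preservesFiniteColimits_toAbF X
  have hadd : (toAbF X).Additive := additive_toAbF X
  have hfaith : (toAbF X).Faithful := faithful_toAbF X
  apply (toAbF X).epi_of_epi_map
  rw [← CategoryTheory.Sheaf.isLocallySurjective_iff_epi']
  change TopCat.Presheaf.IsLocallySurjective ((toAbF X).map g).hom
  rw [TopCat.Presheaf.isLocallySurjective_iff]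
  intro V k x hx
  obtain ⟨s, hs⟩ := h3 V k
  refine ⟨V, le_rfl, ⟨s, ?_⟩, hx⟩
  refine Eq.trans ?_ (Eq.trans hs ?_)
  · rfl
  · simp

theorem epi_unit_of_injective (M : X.Modules) [Injective M] :
    Epi ((Scheme.Modules.restrictAdjunction j).unit.app M) := by
  apply epi_of_sections_surjective
  intro T
  rw [Scheme.Modules.restrictAdjunction_unit_app_app]
  exact res_surjective_of_injective M inferInstance _

noncomputable def ιCx (J : CochainComplex X.Modules ℤ) :
    ((DCoh.gammaZ j).mapHomologicalComplex (ComplexShape.up ℤ)).obj J ⟶ J :=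
  (NatTrans.mapHomologicalComplex (CxOX.gammaZι j) (ComplexShape.up ℤ)).app J ≫
    (Functor.mapHomologicalComplexIdIso X.Modules (ComplexShape.up ℤ)).hom.app J

noncomputable def ηCx (J : CochainComplex X.Modules ℤ) :
    J ⟶ ((Scheme.Modules.restrictFunctor j ⋙ Scheme.Modules.pushforward j).mapHomologicalComplex
      (ComplexShape.up ℤ)).obj J :=
  (Functor.mapHomologicalComplexIdIso X.Modules (ComplexShape.up ℤ)).inv.app J ≫
    (NatTrans.mapHomologicalComplex (Scheme.Modules.restrictAdjunction j).unit
      (ComplexShape.up ℤ)).app J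

theorem ιCx_f (J : CochainComplex X.Modules ℤ) (i : ℤ) :
    (ιCx j J).f i = kernel.ι ((Scheme.Modules.restrictAdjunction j).unit.app (J.X i)) := by
  simp only [ιCx, CxOX.gammaZι, HomologicalComplex.comp_f, NatTrans.mapHomologicalComplex_app_f,
    Functor.mapHomologicalComplexIdIso_hom_app_f]
  exact Category.comp_id _

theorem ηCx_f (J : CochainComplex X.Modules ℤ) (i : ℤ) :
    (ηCx j J).f i = (Scheme.Modules.restrictAdjunction j).unit.app (J.X i) := by
  simp only [ηCx, HomologicalComplex.comp_f, NatTrans.mapHomologicalComplex_app_f,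
    Functor.mapHomologicalComplexIdIso_inv_app_f]
  exact Category.id_comp _

theorem ι_η (J : CochainComplex X.Modules ℤ) : ιCx j J ≫ ηCx j J = 0 := by
  ext i : 1
  rw [HomologicalComplex.comp_f, ιCx_f, ηCx_f]
  exact kernel.condition _

noncomputable def sc (J : CochainComplex X.Modules ℤ) : ShortComplex (CochainComplex X.Modules ℤ) :=
  ShortComplex.mk (ιCx j J) (ηCx j J) (ι_η j J)

theorem sc_shortExact (J : CochainComplex X.Modules ℤ) (hJ : ∀ i, Injective (J.X i)) :
    (sc j J).ShortExact := by
  apply HomologicalComplex.shortExact_of_degreewise_shortExact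
  intro i
  have hm : Mono ((sc j J).map (HomologicalComplex.eval _ _ i)).f := by
    change Mono ((ιCx j J).f i)
    rw [ιCx_f]
    exact equalizer.ι_mono
  have he : Epi ((sc j J).map (HomologicalComplex.eval _ _ i)).g := by
    change Epi ((ηCx j J).f i)
    rw [ηCx_f]
    have := hJ i
    exact epi_unit_of_injective j (J.X i)
  refine ⟨?_⟩
  let S' : ShortComplex X.Modules :=
    ShortComplex.mk (kernel.ι ((Scheme.Modules.restrictAdjunction j).unit.app (J.X i)))
      ((Scheme.Modules.restrictAdjunction j).unit.app (J.X i)) (kernel.condition _)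
  have hS' : S'.Exact := ShortComplex.exact_of_f_is_kernel _ (kernelIsKernel _)
  refine (ShortComplex.exact_iff_of_iso (ShortComplex.isoMk (Iso.refl _) (Iso.refl _) (Iso.refl _)
    ?_ ?_)).2 hS'
  · change 𝟙 _ ≫ kernel.ι _ = (ιCx j J).f i ≫ 𝟙 _
    rw [ιCx_f]
    exact (Category.id_comp _).trans (Category.comp_id _).symm
  · change 𝟙 _ ≫ (Scheme.Modules.restrictAdjunction j).unit.app (J.X i) = (ηCx j J).f i ≫ 𝟙 _
    rw [ηCx_f]
    exact (Category.id_comp _).trans (Category.comp_id _).symm

end Groth.Agent.Lib.Helper12.RGZ
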