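import Groth.Agent.Lib.Helper12.RGZ1

set_option autoImplicit false
universe u
open CategoryTheory CategoryTheory.Limits AlgebraicGeometry Pretriangulated Opposite

attribute [local instance] HasDerivedCategory.standard

namespace Groth.Agent.Lib.Helper12.RGZ

open Groth.Agent.Lib.Helper12

variable {U X : Scheme.{u}} (j : U ⟶ X) [IsOpenImmersion j]

theorem gammaZKhι_app (J : CochainComplex X.Modules ℤ) :
    (CxOX.gammaZKhι j).app ((HomotopyCategory.quotient X.Modules (ComplexShape.up ℤ)).obj J) =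
      DerivedCategory.Qh.map
        (((DCoh.gammaZ j).mapHomotopyCategoryFactors (ComplexShape.up ℤ)).hom.app J) ≫
      DerivedCategory.Qh.map ((HomotopyCategory.quotient X.Modules (ComplexShape.up ℤ)).map
        (ιCx j J)) := by
  unfold CxOX.gammaZKhι
  erw [Quotient.natTransLift_app]
  simp only [NatTrans.comp_app, ιCx, Functor.map_comp]
  erw [Category.id_comp, Category.id_comp, Category.comp_id]

theorem RgammaZToId_app_Q [CxOX.HasRgammaZ j] (J : CochainComplex X.Modules ℤ) [J.IsKInjective] :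
    (CxOX.RgammaZToId j).app (DerivedCategory.Q.obj J) =
      (SuppRj.RgammaZQIso j J).hom ≫ DerivedCategory.Q.map (ιCx j J) := by
  have hfac := Functor.rightDerived_fac_app (CxOX.RgammaZ j)
    ((CxOX.gammaZKh j).totalRightDerivedUnit DerivedCategory.Qh
      (HomotopyCategory.quasiIso X.Modules (ComplexShape.up ℤ)))
    (HomotopyCategory.quasiIso X.Modules (ComplexShape.up ℤ)) (𝟭 (DCoh.D X))
    (CxOX.gammaZKhι j ≫ (Functor.rightUnitor _).inv)
    ((HomotopyCategory.quotient X.Modules (ComplexShape.up ℤ)).obj J)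
  have hnat := (CxOX.RgammaZToId j).naturality
    ((DerivedCategory.quotientCompQhIso X.Modules).inv.app J)
  have hα := Groth.Agent.Lib.Helper25.KInjDerived.isIso_unit_homotopyCategory (CxOX.gammaZKh j)
    DerivedCategory.Qh (CxOX.RgammaZ j)
    ((CxOX.gammaZKh j).totalRightDerivedUnit DerivedCategory.Qh
      (HomotopyCategory.quasiIso X.Modules (ComplexShape.up ℤ))) J
  have h1 : (CxOX.RgammaZToId j).app (DerivedCategory.Qh.obj
      ((HomotopyCategory.quotient X.Modules (ComplexShape.up ℤ)).obj J)) =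
      inv (((CxOX.gammaZKh j).totalRightDerivedUnit DerivedCategory.Qh
        (HomotopyCategory.quasiIso X.Modules (ComplexShape.up ℤ))).app
          ((HomotopyCategory.quotient X.Modules (ComplexShape.up ℤ)).obj J)) ≫
      (CxOX.gammaZKhι j).app ((HomotopyCategory.quotient X.Modules (ComplexShape.up ℤ)).obj J) := by
    rw [IsIso.eq_inv_comp]
    refine hfac.trans ?_
    rw [NatTrans.comp_app]
    exact Category.comp_id _
  have h2 : (CxOX.RgammaZToId j).app (DerivedCategory.Q.obj J) =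
      (CxOX.RgammaZ j).map ((DerivedCategory.quotientCompQhIso X.Modules).inv.app J) ≫
        (CxOX.RgammaZToId j).app (DerivedCategory.Qh.obj
          ((HomotopyCategory.quotient X.Modules (ComplexShape.up ℤ)).obj J)) ≫
        (DerivedCategory.quotientCompQhIso X.Modules).hom.app J := by
    have h3 : (CxOX.RgammaZ j).map ((DerivedCategory.quotientCompQhIso X.Modules).inv.app J) ≫
        (CxOX.RgammaZToId j).app (DerivedCategory.Qh.obj
          ((HomotopyCategory.quotient X.Modules (ComplexShape.up ℤ)).obj J)) =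
        (CxOX.RgammaZToId j).app (DerivedCategory.Q.obj J) ≫
          (DerivedCategory.quotientCompQhIso X.Modules).inv.app J := hnat
    rw [← Category.assoc, h3, Category.assoc, Iso.inv_hom_id_app]
    exact (Category.comp_id _).symm
  rw [h2, h1, gammaZKhι_app]
  simp only [SuppRj.RgammaZQIso, MVSch.rightDerivedQIso, SuppRj.gammaZKhObjIso, Iso.trans_hom,
    Functor.mapIso_hom, Iso.symm_hom, asIso_inv, Iso.app_hom, Iso.app_inv, Category.assoc]
  rw [DerivedCategory.quotientCompQhIso_hom_naturality (ιCx j J)]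

noncomputable def RpushRestrictQIso (W : X.Opens) [DCoh.HasRpush W.ι] (G : DCoh.D X)
    (I : CochainComplex X.Modules ℤ) (hI : I.IsKInjective) (e : G ≅ DerivedCategory.Q.obj I) :
    (DCoh.Rpush W.ι).obj ((DCoh.restrictD W.ι).obj G) ≅
      DerivedCategory.Q.obj (((Scheme.Modules.restrictFunctor W.ι ⋙
        Scheme.Modules.pushforward W.ι).mapHomologicalComplex (ComplexShape.up ℤ)).obj I) :=
  haveI := RDerSch.isKInjective_restrict W I hI
  (DCoh.Rpush W.ι).mapIso ((DCoh.restrictD W.ι).mapIso e ≪≫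
    (Scheme.Modules.restrictFunctor W.ι).mapDerivedCategoryFactors.app I) ≪≫
    MVSch.RpushQIso W.ι _ ≪≫
    DerivedCategory.Q.mapIso (HomologicalComplex.Hom.isoOfComponents (fun _ => Iso.refl _)
      (fun _ _ _ => (Category.id_comp _).trans (Category.comp_id _).symm))

theorem exists_triangle_of_iso_fst {T : Type*} [Category T] [HasZeroObject T] [HasShift T ℤ]
    [Preadditive T] [∀ (n : ℤ), (shiftFunctor T n).Additive] [Pretriangulated T]
    {X₁ X₂ X₃ A₁ A₂ A₃ : T} (f₁ : X₁ ⟶ X₂) (f₂ : X₂ ⟶ X₃) (f₃ : X₃ ⟶ X₁⟦(1 : ℤ)⟧)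
    (h : Triangle.mk f₁ f₂ f₃ ∈ distTriang T) (e₁ : A₁ ≅ X₁) (e₂ : A₂ ≅ X₂) (e₃ : A₃ ≅ X₃)
    (a : A₁ ⟶ A₂) (ha : a ≫ e₂.hom = e₁.hom ≫ f₁) :
    ∃ (b : A₂ ⟶ A₃) (c : A₃ ⟶ A₁⟦(1 : ℤ)⟧), Triangle.mk a b c ∈ distTriang T := by
  refine ⟨e₂.hom ≫ f₂ ≫ e₃.inv, e₃.hom ≫ f₃ ≫ e₁.inv⟦(1 : ℤ)⟧', ?_⟩
  refine isomorphic_distinguished _ h _ (Triangle.isoMk _ _ e₁ e₂ e₃ ?_ ?_ ?_)
  · exact ha
  · change (e₂.hom ≫ f₂ ≫ e₃.inv) ≫ e₃.hom = e₂.hom ≫ f₂
    rw [Category.assoc, Category.assoc, Iso.inv_hom_id, Category.comp_id]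
  · change (e₃.hom ≫ f₃ ≫ e₁.inv⟦(1 : ℤ)⟧') ≫ e₁.hom⟦(1 : ℤ)⟧' = e₃.hom ≫ f₃
    rw [Category.assoc, Category.assoc, ← Functor.map_comp, Iso.inv_hom_id,
      CategoryTheory.Functor.map_id, Category.comp_id]

theorem exists_triangle (W : X.Opens) [CxOX.HasRgammaZ W.ι] [DCoh.HasRpush W.ι] (G : DCoh.D X) :
    ∃ (β : G ⟶ (DCoh.Rpush W.ι).obj ((DCoh.restrictD W.ι).obj G))
      (δ : (DCoh.Rpush W.ι).obj ((DCoh.restrictD W.ι).obj G) ⟶
        ((CxOX.RgammaZ W.ι).obj G)⟦(1 : ℤ)⟧),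
      Triangle.mk ((CxOX.RgammaZToId W.ι).app G) β δ ∈ distTriang (DCoh.D X) := by
  obtain ⟨I, hI, hinj, ⟨e⟩⟩ := MVSch.exists_extProp_model G
  have hS := sc_shortExact W.ι I hinj
  have hT := DerivedCategory.triangleOfSES_distinguished hS
  refine exists_triangle_of_iso_fst _ _ _ hT
    ((CxOX.RgammaZ W.ι).mapIso e ≪≫ SuppRj.RgammaZQIso W.ι I) e
    (RpushRestrictQIso W G I hI e) _ ?_
  change (CxOX.RgammaZToId W.ι).app G ≫ e.hom =
    ((CxOX.RgammaZ W.ι).map e.hom ≫ (SuppRj.RgammaZQIso W.ι I).hom) ≫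
      DerivedCategory.Q.map (ιCx W.ι I)
  rw [Category.assoc, ← RgammaZToId_app_Q]
  exact ((CxOX.RgammaZToId W.ι).naturality e.hom).symm

end Groth.Agent.Lib.Helper12.RGZ
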