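import Groth.Agent.Lib.Helper12.RGZ2
import Groth.Agent.Lib.Helper12.TriDer

set_option autoImplicit false
universe u
open CategoryTheory CategoryTheory.Limits AlgebraicGeometry Pretriangulated Opposite

attribute [local instance] HasDerivedCategory.standard

namespace Groth.Agent.Lib.Helper12.RGZ

open Groth.Agent.Lib.Helper12

section General

variable {U X : Scheme.{u}} (j : U ⟶ X) [IsOpenImmersion j] [DCoh.HasRpush j]

theorem hom_Rpush_eq_zero (A' : DCoh.D X) (hA' : IsZero ((DCoh.restrictD j).obj A'))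
    (B : DCoh.D U) (f : A' ⟶ (DCoh.Rpush j).obj B) : f = 0 := by
  obtain ⟨adj, -⟩ := GlueD.exists_adjD j
  apply (adj.homEquiv A' B).symm.injective
  exact hA'.eq_of_src _ _

omit [DCoh.HasRpush j] in
theorem isZero_restrictD_shift (A' : DCoh.D X) (hA' : IsZero ((DCoh.restrictD j).obj A'))
    (n : ℤ) : IsZero ((DCoh.restrictD j).obj (A'⟦n⟧)) :=
  (Functor.map_isZero (shiftFunctor (DCoh.D U) n) hA').of_iso
    (((DCoh.restrictD j).commShiftIso n).app A')

theorem hom_shift_eq_zero (A' : DCoh.D X) (hA' : IsZero ((DCoh.restrictD j).obj A'))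
    (B : DCoh.D U) (Y : DCoh.D X) (e : Y ≅ (DCoh.Rpush j).obj B) (n : ℤ) (g : A' ⟶ Y⟦n⟧) :
    g = 0 := by
  have h1 := isZero_restrictD_shift j A' hA' (-n)
  have h2 := hom_Rpush_eq_zero j _ h1 B
    (g⟦-n⟧' ≫ (shiftFunctorCompIsoId (DCoh.D X) n (-n) (add_neg_cancel n)).hom.app Y ≫ e.hom)
  have h3 : g⟦-n⟧' = 0 := by
    rw [← cancel_mono ((shiftFunctorCompIsoId (DCoh.D X) n (-n) (add_neg_cancel n)).hom.app Y ≫
      e.hom), h2, zero_comp]
  exact (shiftFunctor (DCoh.D X) (-n)).map_injective (h3.trans (Functor.map_zero _ _ _).symm)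

theorem bijective_comp_mor₁ (T : Triangle (DCoh.D X)) (hT : T ∈ distTriang (DCoh.D X))
    (B : DCoh.D U) (e : T.obj₃ ≅ (DCoh.Rpush j).obj B) (A' : DCoh.D X)
    (hA' : IsZero ((DCoh.restrictD j).obj A')) :
    Function.Bijective (fun φ : A' ⟶ T.obj₁ => φ ≫ T.mor₁) := by
  constructor
  · intro φ₁ φ₂ h
    have h0 : (φ₁ - φ₂) ≫ T.mor₁ = 0 := by
      rw [Preadditive.sub_comp]
      exact sub_eq_zero.2 h
    obtain ⟨g, hg⟩ := Triangle.coyoneda_exact₂ _ (inv_rot_of_distTriang _ hT) (φ₁ - φ₂) h0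
    have hg0 : g = 0 := hom_shift_eq_zero j A' hA' B T.obj₃ e (-1) g
    rw [hg0, zero_comp] at hg
    exact sub_eq_zero.1 hg
  · intro ψ
    have h0 : ψ ≫ T.mor₂ = 0 := by
      have := hom_shift_eq_zero j A' hA' B T.obj₃ e 0
        (ψ ≫ T.mor₂ ≫ (shiftFunctorZero (DCoh.D X) ℤ).inv.app T.obj₃)
      rw [← Category.assoc] at this
      have h1 := congrArg (fun t => t ≫ (shiftFunctorZero (DCoh.D X) ℤ).hom.app T.obj₃) this
      simpa using h1
    obtain ⟨φ, hφ⟩ := Triangle.coyoneda_exact₂ _ hT ψ h0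
    exact ⟨φ, hφ.symm⟩

end General

theorem isIso_of_bijective_comp {C : Type*} [Category C] {A B : C} (α : A ⟶ B) (P : C → Prop)
    (hA : P A) (hB : P B)
    (h : ∀ A', P A' → Function.Bijective (fun φ : A' ⟶ A => φ ≫ α)) : IsIso α := by
  obtain ⟨s, hs⟩ := (h B hB).2 (𝟙 B)
  have hs' : s ≫ α = 𝟙 B := hs
  refine ⟨⟨s, ?_, hs'⟩⟩
  apply (h A hA).1
  change (α ≫ s) ≫ α = 𝟙 A ≫ α
  rw [Category.assoc, hs', Category.comp_id, Category.id_comp]

theorem bijective_comp_RgammaZToId {X : Scheme.{u}} (W : X.Opens) [CxOX.HasRgammaZ W.ι]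
    [DCoh.HasRpush W.ι] (G A' : DCoh.D X) (hA' : IsZero ((DCoh.restrictD W.ι).obj A')) :
    Function.Bijective (fun φ : A' ⟶ (CxOX.RgammaZ W.ι).obj G =>
      φ ≫ (CxOX.RgammaZToId W.ι).app G) := by
  obtain ⟨β, δ, hT⟩ := exists_triangle W G
  exact bijective_comp_mor₁ W.ι _ hT _ (Iso.refl _) A' hA'

end Groth.Agent.Lib.Helper12.RGZ
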