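import Groth.Agent.Lib.Helper12.RGZ3

set_option autoImplicit false
universe u
open CategoryTheory CategoryTheory.Limits AlgebraicGeometry Pretriangulated Opposite

attribute [local instance] HasDerivedCategory.standard

namespace Groth.Agent.Lib.Helper12.RGZ

open Groth.Agent.Lib.Helper12

variable {X Y : Scheme.{u}} (f : X ⟶ Y) (U : Y.Opens)

theorem isZero_restrictD_Rpush [DCoh.HasRpush f] (E : DCoh.D X)
    (hE : IsZero ((DCoh.restrictD (f ⁻¹ᵁ U).ι).obj E)) :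
    IsZero ((DCoh.restrictD U.ι).obj ((DCoh.Rpush f).obj E)) := by
  have hRp : DCoh.HasRpush (f ∣_ U) := WKI.hasRpush _
  have hLp : DCoh.HasLpull (f ∣_ U) := Groth.Agent.Lib.Helper2.Lpull.hasLpull _
  obtain ⟨e⟩ := RDerSch.nonempty_Rpush_restrictD_iso f U
  have hra : (DCoh.Rpush (f ∣_ U)).IsRightAdjoint := (AdjLR.adjLR (f ∣_ U)).isRightAdjoint
  exact (Functor.map_isZero (DCoh.Rpush (f ∣_ U)) hE).of_iso (e.app _)

theorem bijective_comp_Rpush_RgammaZToId [DCoh.HasRpush f] [CxOX.HasRgammaZ (f ⁻¹ᵁ U).ι]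
    (K : DCoh.D X) (A' : DCoh.D Y) (hA' : IsZero ((DCoh.restrictD U.ι).obj A')) :
    Function.Bijective (fun φ : A' ⟶ (DCoh.Rpush f).obj ((CxOX.RgammaZ (f ⁻¹ᵁ U).ι).obj K) =>
      φ ≫ (DCoh.Rpush f).map ((CxOX.RgammaZToId (f ⁻¹ᵁ U).ι).app K)) := by
  have h1 : DCoh.HasRpush (f ⁻¹ᵁ U).ι := WKI.hasRpush _
  have h2 : DCoh.HasRpush (f ∣_ U) := WKI.hasRpush _
  have h3 : DCoh.HasRpush U.ι := WKI.hasRpush _
  have h4 : DCoh.HasRpush ((f ⁻¹ᵁ U).ι ≫ f) := WKI.hasRpush _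
  obtain ⟨β, δ, hT⟩ := exists_triangle (f ⁻¹ᵁ U) K
  obtain ⟨c, hc⟩ := TriDer.exists_distinguished_map (DCoh.pushKh f)
    (DCoh.Rpush f) ((DCoh.pushKh f).totalRightDerivedUnit DerivedCategory.Qh
      (HomotopyCategory.quasiIso X.Modules (ComplexShape.up ℤ))) _ hT
  obtain ⟨Θ⟩ := WKI.nonempty_Rpush_comp_iso (f ⁻¹ᵁ U).ι f
  obtain ⟨N', ⟨e'⟩⟩ := GlueD.rpush_factor ((f ⁻¹ᵁ U).ι ≫ f) (f ∣_ U) U.ι
    (morphismRestrict_ι f U) ((DCoh.restrictD (f ⁻¹ᵁ U).ι).obj K)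
  exact bijective_comp_mor₁ U.ι _ hc N' (Θ.app _ ≪≫ e') A' hA'

theorem exists_and_isIso [DCoh.HasRpush f] [CxOX.HasRgammaZ U.ι] [CxOX.HasRgammaZ (f ⁻¹ᵁ U).ι]
    (K : DCoh.D X) :
    (∃ α : (DCoh.Rpush f).obj ((CxOX.RgammaZ (f ⁻¹ᵁ U).ι).obj K) ⟶
        (CxOX.RgammaZ U.ι).obj ((DCoh.Rpush f).obj K),
        α ≫ (CxOX.RgammaZToId U.ι).app ((DCoh.Rpush f).obj K) =
          (DCoh.Rpush f).map ((CxOX.RgammaZToId (f ⁻¹ᵁ U).ι).app K)) ∧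
    ∀ α : (DCoh.Rpush f).obj ((CxOX.RgammaZ (f ⁻¹ᵁ U).ι).obj K) ⟶
        (CxOX.RgammaZ U.ι).obj ((DCoh.Rpush f).obj K),
        α ≫ (CxOX.RgammaZToId U.ι).app ((DCoh.Rpush f).obj K) =
          (DCoh.Rpush f).map ((CxOX.RgammaZToId (f ⁻¹ᵁ U).ι).app K) → IsIso α := by
  have h3 : DCoh.HasRpush U.ι := WKI.hasRpush _
  have hA : IsZero ((DCoh.restrictD U.ι).obj
      ((DCoh.Rpush f).obj ((CxOX.RgammaZ (f ⁻¹ᵁ U).ι).obj K))) :=
    isZero_restrictD_Rpush f U _ (SuppRj.isZero_restrictD_RgammaZ (f ⁻¹ᵁ U).ι K)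
  have hB : IsZero ((DCoh.restrictD U.ι).obj
      ((CxOX.RgammaZ U.ι).obj ((DCoh.Rpush f).obj K))) :=
    SuppRj.isZero_restrictD_RgammaZ U.ι _
  constructor
  · exact (bijective_comp_RgammaZToId U ((DCoh.Rpush f).obj K) _ hA).2 _
  · intro α hα
    refine isIso_of_bijective_comp α (fun A' => IsZero ((DCoh.restrictD U.ι).obj A')) hA hB ?_
    intro A' hA'
    have hb1 := bijective_comp_RgammaZToId U ((DCoh.Rpush f).obj K) A' hA'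
    have hb2 := bijective_comp_Rpush_RgammaZToId f U K A' hA'
    have heq : (fun φ : A' ⟶ (DCoh.Rpush f).obj ((CxOX.RgammaZ (f ⁻¹ᵁ U).ι).obj K) =>
        φ ≫ (DCoh.Rpush f).map ((CxOX.RgammaZToId (f ⁻¹ᵁ U).ι).app K)) =
        (fun ψ : A' ⟶ (CxOX.RgammaZ U.ι).obj ((DCoh.Rpush f).obj K) =>
          ψ ≫ (CxOX.RgammaZToId U.ι).app ((DCoh.Rpush f).obj K)) ∘ (fun φ => φ ≫ α) := by
      funext φ
      simp only [Function.comp_apply, Category.assoc, hα]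
    rw [heq] at hb2
    exact (Function.Bijective.of_comp_iff' hb1 _).1 hb2

end Groth.Agent.Lib.Helper12.RGZ
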