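import Groth.Agent.Lib.Helper12.RGZ4
import Groth.Agent.Lib.Helper12.QCohSigma

set_option autoImplicit false
universe u
open CategoryTheory CategoryTheory.Limits AlgebraicGeometry Pretriangulated Opposite

attribute [local instance] HasDerivedCategory.standard

namespace Groth.Agent.Lib.Helper12.RGZ

open Groth.Agent.Lib.Helper12

variable {U X : Scheme.{u}} (j : U ⟶ X) [IsOpenImmersion j]

theorem isZero_restrictD_of_support' (E : DCoh.D X)
    (h : ∀ (i : ℤ) (x : U), j x ∉ CohB1.support (DCoh.HD E i)) :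
    IsZero ((DCoh.restrictD j).obj E) := by
  apply Groth.Agent.Lib.Helper62.SerreLoc.isZero_of_homology
  intro i
  refine IsZero.of_iso ?_ (Groth.Agent.Lib.Helper62.SerreLoc.mapDerivedCategoryHomologyIso
    (Scheme.Modules.restrictFunctor j) E i)
  apply SuppZ.isZero_of_stalks
  intro x
  rw [SuppZ.subsingleton_stalk_restrict]
  have := h i x
  simpa [CohB1.support] using this

theorem isZero_RgammaZ_Rpush [DCoh.HasRpush j] (T : X.Opens)
    (hT : Set.range j.base ⊆ (T : Set X)) [CxOX.HasRgammaZ T.ι] (B : DCoh.D U) :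
    IsZero ((CxOX.RgammaZ T.ι).obj ((DCoh.Rpush j).obj B)) := by
  have hRp : DCoh.HasRpush T.ι := WKI.hasRpush _
  have hA'T : IsZero ((DCoh.restrictD T.ι).obj
      ((CxOX.RgammaZ T.ι).obj ((DCoh.Rpush j).obj B))) := SuppRj.isZero_restrictD_RgammaZ T.ι _
  have hA'j : IsZero ((DCoh.restrictD j).obj
      ((CxOX.RgammaZ T.ι).obj ((DCoh.Rpush j).obj B))) :=
    isZero_restrictD_of_support' j _ (fun i x =>
      SuppRj.not_mem_support_of_isZero_restrictD _ T hA'T i (j x) (hT ⟨x, rfl⟩))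
  have hb := bijective_comp_RgammaZToId T ((DCoh.Rpush j).obj B) _ hA'T
  rw [IsZero.iff_id_eq_zero]
  apply hb.1
  change 𝟙 _ ≫ _ = 0 ≫ _
  rw [zero_comp]
  exact hom_Rpush_eq_zero j _ hA'j B _

theorem isQCohD_restrictD (G : DCoh.D X) (hG : DCoh.IsQCohD G) :
    DCoh.IsQCohD ((DCoh.restrictD j).obj G) := by
  intro i
  have h1 : (DCoh.HD G i).IsQuasicoherent := hG i
  exact QCohSigma.isQuasicoherent_of_iso
    (Groth.Agent.Lib.Helper62.SerreLoc.mapDerivedCategoryHomologyIso
      (Scheme.Modules.restrictFunctor j) G i).symm inferInstance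

theorem isIso_unit_of_isZero_RgammaZ [DCoh.HasRpush j] (adj : DCoh.restrictD j ⊣ DCoh.Rpush j)
    (U' T : X.Opens) (hT : ∀ x : X, x ∈ T → x ∈ U' ∨ x ∈ Set.range j.base)
    (hT' : Set.range j.base ⊆ (T : Set X))
    [CxOX.HasRgammaZ T.ι] (G : DCoh.D X)
    (hG : ∀ (i : ℤ), ∀ x ∈ U', x ∉ CohB1.support (DCoh.HD G i))
    (hR : IsZero ((CxOX.RgammaZ T.ι).obj G)) : IsIso (adj.unit.app G) := by
  have hRpT : DCoh.HasRpush T.ι := WKI.hasRpush _
  have hadj := SuppRj.isIso_counit_of_adj j adj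
  obtain ⟨K, g, h, hTri⟩ := distinguished_cocone_triangle (adj.unit.app G)
  have hKU : IsZero ((DCoh.restrictD j).obj K) := by
    have hT' := (DCoh.restrictD j).map_distinguished _ hTri
    have hiso : IsIso ((DCoh.restrictD j).map (adj.unit.app G)) := GlueD.isIso_map_unit adj G
    exact (Triangle.isZero₃_iff_isIso₁ _ hT').2 hiso
  have hGU' : IsZero ((DCoh.restrictD U'.ι).obj G) := SuppZ.isZero_restrictD_of_support G U' hG
  have hRU' : IsZero ((DCoh.restrictD U'.ι).obj
      ((DCoh.Rpush j).obj ((DCoh.restrictD j).obj G))) := by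
    apply isZero_restrictD_Rpush j U'
    apply SuppZ.isZero_restrictD_of_support
    intro i x hx hx'
    rw [SuppRj.mem_support_HD_restrictD] at hx'
    exact hG i _ hx hx'
  have hKU' : IsZero ((DCoh.restrictD U'.ι).obj K) :=
    SuppRj.isZero_of_dist_of_isZero₁₂ _ ((DCoh.restrictD U'.ι).map_distinguished _ hTri) hGU' hRU'
  have hKT : IsZero ((DCoh.restrictD T.ι).obj K) := by
    apply SuppZ.isZero_restrictD_of_support
    intro i x hx
    rcases hT x hx with h1 | ⟨y, rfl⟩
    · exact SuppRj.not_mem_support_of_isZero_restrictD K U' hKU' i x h1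
    · exact SuppRj.not_mem_support_of_isZero_restrictD' j K hKU i y
  obtain ⟨c, hc⟩ := TriDer.exists_distinguished_map (CxOX.gammaZKh T.ι)
    (CxOX.RgammaZ T.ι) ((CxOX.gammaZKh T.ι).totalRightDerivedUnit DerivedCategory.Qh
      (HomotopyCategory.quasiIso X.Modules (ComplexShape.up ℤ))) _ hTri
  have hRK : IsZero ((CxOX.RgammaZ T.ι).obj K) :=
    SuppRj.isZero_of_dist_of_isZero₁₂ _ hc hR (isZero_RgammaZ_Rpush j T hT' _)
  have hiso : IsIso ((CxOX.RgammaZToId T.ι).app K) :=
    isIso_of_bijective_comp _ (fun A' => IsZero ((DCoh.restrictD T.ι).obj A'))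
      (SuppRj.isZero_restrictD_RgammaZ T.ι K) hKT
      (fun A' hA' => bijective_comp_RgammaZToId T K A' hA')
  have hK : IsZero K := hRK.of_iso (asIso ((CxOX.RgammaZToId T.ι).app K)).symm
  exact (Triangle.isZero₃_iff_isIso₁ _ hTri).1 hK

end Groth.Agent.Lib.Helper12.RGZ
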