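import Groth.Prelude.Def_DerSch

set_option autoImplicit false
universe u
open CategoryTheory CategoryTheory.Limits AlgebraicGeometry TopologicalSpace Opposite

namespace Groth.Agent.Lib.Helper12.Sky

variable {X : Scheme.{u}} (x : X) (P : ModuleCat.{u} (X.presheaf.stalk x))

def secs (U : X.Opens) : Type u := PLift (x ∈ U) → P

instance (U : X.Opens) : AddCommGroup (secs x P U) :=
  inferInstanceAs (AddCommGroup (PLift (x ∈ U) → P))

variable {x P}

def ev {U : X.Opens} (g : secs x P U) (hx : x ∈ U) : P := g ⟨hx⟩

def mk {U : X.Opens} (g : x ∈ U → P) : secs x P U := fun h => g h.down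

@[simp] lemma ev_mk {U : X.Opens} (g : x ∈ U → P) (hx : x ∈ U) : ev (mk g) hx = g hx := rfl

@[ext]
lemma secs_ext {U : X.Opens} {g g' : secs x P U} (h : ∀ hx : x ∈ U, ev g hx = ev g' hx) :
    g = g' :=
  funext fun hx => h hx.down

lemma add_apply {U : X.Opens} (g g' : secs x P U) (hx : x ∈ U) :
    ev (g + g') hx = ev g hx + ev g' hx := rfl

lemma zero_apply {U : X.Opens} (hx : x ∈ U) : ev (0 : secs x P U) hx = 0 := rfl

noncomputable instance instSMul (U : X.Opens) : SMul Γ(X, U) (secs x P U) where
  smul r g := mk fun hx => (X.presheaf.germ U x hx r : X.presheaf.stalk x) • ev g hx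

lemma smul_apply {U : X.Opens} (r : Γ(X, U)) (g : secs x P U) (hx : x ∈ U) :
    ev (r • g) hx = (X.presheaf.germ U x hx r : X.presheaf.stalk x) • ev g hx := rfl

noncomputable instance instModule (U : X.Opens) : Module Γ(X, U) (secs x P U) where
  one_smul g := by
    ext hx
    rw [smul_apply, map_one, one_smul]
  mul_smul r s g := by
    ext hx
    rw [smul_apply, smul_apply, smul_apply, map_mul, mul_smul]
  smul_zero r := by
    ext hx
    rw [smul_apply, zero_apply, smul_zero]
  smul_add r g g' := by
    ext hx
    rw [smul_apply, add_apply, add_apply, smul_apply, smul_apply, smul_add]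
  add_smul r s g := by
    ext hx
    rw [smul_apply, add_apply, smul_apply, smul_apply, map_add, add_smul]
  zero_smul g := by
    ext hx
    rw [smul_apply, zero_apply, map_zero, zero_smul]

def resHom {U U' : X.Opens} (h : U' ≤ U) : secs x P U →+ secs x P U' where
  toFun g := mk fun hx => ev g (h hx)
  map_zero' := rfl
  map_add' _ _ := rfl

lemma resHom_apply {U U' : X.Opens} (h : U' ≤ U) (g : secs x P U) (hx : x ∈ U') :
    ev (resHom h g) hx = ev g (h hx) := rfl

variable (x P)

noncomputable def skyAb : (Opens X)ᵒᵖ ⥤ Ab.{u} where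
  obj U := AddCommGrpCat.of (secs x P U.unop)
  map f := AddCommGrpCat.ofHom (resHom f.unop.le)
  map_id U := by
    refine AddCommGrpCat.hom_ext (AddMonoidHom.ext fun g => ?_)
    rfl
  map_comp f g := by
    refine AddCommGrpCat.hom_ext (AddMonoidHom.ext fun φ => ?_)
    rfl

noncomputable instance (U : (Opens X)ᵒᵖ) :
    Module (X.ringCatSheaf.obj.obj U) ((skyAb x P).obj U) :=
  inferInstanceAs (Module Γ(X, U.unop) (secs x P U.unop))

noncomputable def skyPre : PresheafOfModules X.ringCatSheaf.obj :=
  PresheafOfModules.ofPresheaf (skyAb x P) (by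
    intro U U' f r g
    refine secs_ext fun hx => ?_
    change (X.presheaf.germ U.unop x (f.unop.le hx) r : X.presheaf.stalk x) • ev g (f.unop.le hx) =
      (X.presheaf.germ U'.unop x hx (X.presheaf.map f r) : X.presheaf.stalk x) •
        ev g (f.unop.le hx)
    congr 1
    exact (TopCat.Presheaf.germ_res_apply X.presheaf f.unop x hx r).symm)

theorem isSheaf_skyAb : TopCat.Presheaf.IsSheaf (skyAb x P) := by
  rw [TopCat.Presheaf.isSheaf_iff_isSheafUniqueGluing]
  intro ι U sf hsf
  have hc : ∀ (i j : ι) (hi : x ∈ U i) (hj : x ∈ U j),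
      ev (sf i : secs x P (U i)) hi = ev (sf j : secs x P (U j)) hj := by
    intro i j hi hj
    have h := hsf i j
    have := congrArg (fun g : secs x P (U i ⊓ U j) => ev g ⟨hi, hj⟩) h
    exact this
  classical
  let s : secs x P (iSup U) := mk fun hx =>
    ev (sf (Opens.mem_iSup.mp hx).choose : secs x P _) (Opens.mem_iSup.mp hx).choose_spec
  refine ⟨s, fun i => ?_, ?_⟩
  · refine secs_ext fun hx => ?_
    exact hc _ _ _ _
  · intro s' hs'
    refine secs_ext fun hx => ?_
    have h := hs' (Opens.mem_iSup.mp hx).choose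
    have := congrArg (fun g : secs x P _ => ev g (Opens.mem_iSup.mp hx).choose_spec) h
    exact this

noncomputable def sky : X.Modules where
  val := skyPre x P
  isSheaf := isSheaf_skyAb x P

end Groth.Agent.Lib.Helper12.Sky
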