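import Groth.Agent.Lib.Helper12.Sky

set_option autoImplicit false
universe u
open CategoryTheory CategoryTheory.Limits AlgebraicGeometry TopologicalSpace Opposite

namespace Groth.Agent.Lib.Helper12.Sky

variable {X : Scheme.{u}}

noncomputable def homOfSections (T F : X.Modules) (f : ∀ W : X.Opens, Γ(T, W) →+ Γ(F, W))
    (hnat : ∀ {W W' : X.Opens} (h : W' ≤ W) (t : Γ(T, W)),
      f W' (T.presheaf.map (homOfLE h).op t) = F.presheaf.map (homOfLE h).op (f W t))
    (hsmul : ∀ (W : X.Opens) (r : Γ(X, W)) (t : Γ(T, W)), f W (r • t) = r • f W t) : T ⟶ F :=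
  ⟨PresheafOfModules.homMk
    { app := fun W => AddCommGrpCat.ofHom (f W.unop)
      naturality := fun W W' i => by
        ext t
        exact hnat i.unop.le t }
    fun W r t => hsmul W.unop r t⟩

theorem homOfSections_app (T F : X.Modules) (f : ∀ W : X.Opens, Γ(T, W) →+ Γ(F, W))
    (hnat : ∀ {W W' : X.Opens} (h : W' ≤ W) (t : Γ(T, W)),
      f W' (T.presheaf.map (homOfLE h).op t) = F.presheaf.map (homOfLE h).op (f W t))
    (hsmul : ∀ (W : X.Opens) (r : Γ(X, W)) (t : Γ(T, W)), f W (r • t) = r • f W t)
    (W : X.Opens) (t : Γ(T, W)) : (homOfSections T F f hnat hsmul).app W t = f W t := rfl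

theorem hom_ext_sec {F G : X.Modules} (f g : F ⟶ G)
    (H : ∀ (U : X.Opens) (s : Γ(F, U)), f.app U s = g.app U s) : f = g := by
  apply Scheme.Modules.hom_ext
  intro U
  ext s
  exact H U s

theorem germ_smul' (M : X.Modules) (x : X) (U : X.Opens) (hx : x ∈ U) (a : Γ(X, U))
    (b : Γ(M, U)) :
    M.presheaf.germ U x hx (a • b) = X.presheaf.germ U x hx a • M.presheaf.germ U x hx b :=
  PresheafOfModules.germ_smul (R := X.presheaf)
    (show PresheafOfModules (X.presheaf ⋙ forget₂ CommRingCat RingCat) from M.val) x U hx a b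

variable (x : X)

example (P : ModuleCat.{u} (X.presheaf.stalk x)) (U : X.Opens) : Γ(sky x P, U) = secs x P U := rfl

noncomputable def toSecs {P : ModuleCat.{u} (X.presheaf.stalk x)} {U : X.Opens} (g : Γ(sky x P, U)) :
    secs x P U := g

noncomputable def ofSecs {P : ModuleCat.{u} (X.presheaf.stalk x)} {U : X.Opens} (g : secs x P U) :
    Γ(sky x P, U) := g

noncomputable def mapSecs {P Q : ModuleCat.{u} (X.presheaf.stalk x)} (φ : P ⟶ Q) (U : X.Opens) :
    secs x P U →+ secs x Q U where
  toFun g := mk fun hx => φ.hom (ev g hx)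
  map_zero' := by
    ext hx
    exact map_zero φ.hom
  map_add' g g' := by
    ext hx
    exact map_add φ.hom _ _

noncomputable def skyMap {P Q : ModuleCat.{u} (X.presheaf.stalk x)} (φ : P ⟶ Q) :
    sky x P ⟶ sky x Q :=
  homOfSections (sky x P) (sky x Q) (fun U => mapSecs x φ U)
    (fun h t => rfl)
    (fun W r t => by
      refine secs_ext fun hx => ?_
      exact map_smul φ.hom _ _)

noncomputable def skyFunctor : ModuleCat.{u} (X.presheaf.stalk x) ⥤ X.Modules where
  obj P := sky x P
  map φ := skyMap x φ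
  map_id P := by
    apply hom_ext_sec
    intro U s
    rfl
  map_comp φ ψ := by
    apply hom_ext_sec
    intro U s
    rfl


noncomputable def unitSecs (M : X.Modules) (U : X.Opens) :
    Γ(M, U) →+ secs x ((DerSch.stalkFunctor X x).obj M) U where
  toFun m := mk fun hx => (M.presheaf.germ U x hx m : M.presheaf.stalk x)
  map_zero' := by
    ext hx
    exact map_zero (M.presheaf.germ U x hx).hom
  map_add' m m' := by
    ext hx
    exact map_add (M.presheaf.germ U x hx).hom _ _

noncomputable def unit (M : X.Modules) : M ⟶ sky x ((DerSch.stalkFunctor X x).obj M) :=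
  homOfSections M (sky x ((DerSch.stalkFunctor X x).obj M)) (fun U => unitSecs x M U)
    (fun {W W'} h t => by
      refine secs_ext fun hx => ?_
      exact TopCat.Presheaf.germ_res_apply M.presheaf (homOfLE h) x hx t)
    (fun W r t => by
      refine secs_ext fun hx => ?_
      exact germ_smul' M x W hx r t)

theorem unit_app_ev (M : X.Modules) (U : X.Opens) (m : Γ(M, U)) (hx : x ∈ U) :
    ev (toSecs x ((unit x M).app U m)) hx = M.presheaf.germ U x hx m := rfl

end Groth.Agent.Lib.Helper12.Sky
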