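import Groth.Agent.Lib.Helper12.Sky2

set_option autoImplicit false
universe u
open CategoryTheory CategoryTheory.Limits AlgebraicGeometry TopologicalSpace Opposite

namespace Groth.Agent.Lib.Helper12.Sky

variable {X : Scheme.{u}} (x : X)

noncomputable def evHom (P : ModuleCat.{u} (X.presheaf.stalk x)) (U : X.Opens) (hx : x ∈ U) :
    (sky x P).presheaf.obj (op U) ⟶ AddCommGrpCat.of P :=
  AddCommGrpCat.ofHom
    { toFun := fun g => ev (toSecs x g) hx
      map_zero' := rfl
      map_add' := fun _ _ => rfl }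

noncomputable def counitCocone (P : ModuleCat.{u} (X.presheaf.stalk x)) :
    Cocone ((OpenNhds.inclusion x).op ⋙ (sky x P).presheaf) where
  pt := AddCommGrpCat.of P
  ι :=
    { app := fun U => evHom x P U.unop.1 U.unop.2
      naturality := fun U V f => by
        ext g
        rfl }

noncomputable def counitAb (P : ModuleCat.{u} (X.presheaf.stalk x)) :
    (sky x P).presheaf.stalk x ⟶ AddCommGrpCat.of P :=
  colimit.desc _ (counitCocone x P)

theorem germ_counitAb (P : ModuleCat.{u} (X.presheaf.stalk x)) (U : X.Opens) (hx : x ∈ U) :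
    (sky x P).presheaf.germ U x hx ≫ counitAb x P = evHom x P U hx :=
  colimit.ι_desc (counitCocone x P) (op ⟨U, hx⟩)

theorem counitAb_germ (P : ModuleCat.{u} (X.presheaf.stalk x)) (U : X.Opens) (hx : x ∈ U)
    (g : Γ(sky x P, U)) :
    counitAb x P ((sky x P).presheaf.germ U x hx g) = ev (toSecs x g) hx :=
  congrArg (fun φ => φ.hom g) (germ_counitAb x P U hx)

theorem counitAb_smul (P : ModuleCat.{u} (X.presheaf.stalk x)) (r : X.presheaf.stalk x)
    (m : (sky x P).presheaf.stalk x) : counitAb x P (r • m) = r • counitAb x P m := by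
  obtain ⟨U, hyU, s, rfl⟩ := X.presheaf.exists_germ_eq (x := x) r
  obtain ⟨V, hyV, t, rfl⟩ := (sky x P).presheaf.exists_germ_eq (x := x) m
  have hyW : x ∈ U ⊓ V := ⟨hyU, hyV⟩
  have hs := X.presheaf.germ_res_apply (homOfLE inf_le_left : U ⊓ V ⟶ U) x hyW s
  have ht := (sky x P).presheaf.germ_res_apply (homOfLE inf_le_right : U ⊓ V ⟶ V) x hyW t
  rw [← hs, ← ht]
  generalize X.presheaf.map (homOfLE inf_le_left : U ⊓ V ⟶ U).op s = s'
  generalize (sky x P).presheaf.map (homOfLE inf_le_right : U ⊓ V ⟶ V).op t = t'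
  rw [← germ_smul', counitAb_germ, counitAb_germ]
  rfl

noncomputable def counit (P : ModuleCat.{u} (X.presheaf.stalk x)) :
    (DerSch.stalkFunctor X x).obj (sky x P) ⟶ P :=
  ModuleCat.ofHom
    { toFun := fun m => counitAb x P m
      map_add' := fun a b => map_add (counitAb x P).hom a b
      map_smul' := fun r m => counitAb_smul x P r m }

theorem counit_germ (P : ModuleCat.{u} (X.presheaf.stalk x)) (U : X.Opens) (hx : x ∈ U)
    (g : Γ(sky x P, U)) :
    (counit x P).hom ((sky x P).presheaf.germ U x hx g) = ev (toSecs x g) hx :=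
  counitAb_germ x P U hx g

end Groth.Agent.Lib.Helper12.Sky
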