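import Groth.Agent.Lib.Helper12.Sky3

set_option autoImplicit false
universe u
open CategoryTheory CategoryTheory.Limits AlgebraicGeometry TopologicalSpace Opposite

namespace Groth.Agent.Lib.Helper12.Sky

variable {X : Scheme.{u}} (x : X)

theorem stalk_hom_ext_mod {M : X.Modules} {P : ModuleCat.{u} (X.presheaf.stalk x)}
    (a b : (DerSch.stalkFunctor X x).obj M ⟶ P)
    (h : ∀ (U : X.Opens) (hx : x ∈ U) (m : Γ(M, U)),
      a.hom (M.presheaf.germ U x hx m) = b.hom (M.presheaf.germ U x hx m)) : a = b := by
  ext m
  obtain ⟨U, hxU, s, rfl⟩ := M.presheaf.exists_germ_eq (x := x) m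
  exact h U hxU s

noncomputable def unitNat : 𝟭 X.Modules ⟶ DerSch.stalkFunctor X x ⋙ skyFunctor x where
  app M := unit x M
  naturality M N φ := by
    apply hom_ext_sec
    intro U m
    refine secs_ext fun hx => ?_
    exact (DerSch.stalkFunctor_map_germ x φ U hx m).symm

theorem counit_naturality_apply {P Q : ModuleCat.{u} (X.presheaf.stalk x)} (φ : P ⟶ Q)
    (U : X.Opens) (hx : x ∈ U) (g : Γ(sky x P, U)) :
    (counit x Q).hom ((DerSch.stalkFunctor X x).map (skyMap x φ)
      ((sky x P).presheaf.germ U x hx g)) =
    φ.hom ((counit x P).hom ((sky x P).presheaf.germ U x hx g)) := by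
  rw [DerSch.stalkFunctor_map_germ, counit_germ, counit_germ]
  rfl

noncomputable def counitNat :
    skyFunctor x ⋙ DerSch.stalkFunctor X x ⟶ 𝟭 (ModuleCat.{u} (X.presheaf.stalk x)) where
  app P := counit x P
  naturality P Q φ := by
    apply stalk_hom_ext_mod
    intro U hx g
    exact counit_naturality_apply x φ U hx g

theorem left_triangle_apply (M : X.Modules) (U : X.Opens) (hx : x ∈ U) (m : Γ(M, U)) :
    (counit x ((DerSch.stalkFunctor X x).obj M)).hom ((DerSch.stalkFunctor X x).map (unit x M)
      (M.presheaf.germ U x hx m)) = M.presheaf.germ U x hx m := by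
  rw [DerSch.stalkFunctor_map_germ, counit_germ]
  rfl

theorem right_triangle_apply (P : ModuleCat.{u} (X.presheaf.stalk x)) (U : X.Opens) (hx : x ∈ U)
    (g : Γ(sky x P, U)) :
    (counit x P).hom ((sky x P).presheaf.germ U x hx g) = ev (toSecs x g) hx :=
  counit_germ x P U hx g

noncomputable def adj : DerSch.stalkFunctor X x ⊣ skyFunctor x where
  unit := unitNat x
  counit := counitNat x
  left_triangle_components M := by
    apply stalk_hom_ext_mod
    intro U hx m
    exact left_triangle_apply x M U hx m
  right_triangle_components P := by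
    apply hom_ext_sec
    intro U g
    refine secs_ext fun hx => ?_
    exact right_triangle_apply x P U hx g

end Groth.Agent.Lib.Helper12.Sky
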