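import Groth.Agent.Lib.Helper12.Sky4

set_option autoImplicit false
universe u
open CategoryTheory CategoryTheory.Limits AlgebraicGeometry TopologicalSpace Opposite

namespace Groth.Agent.Lib.Helper12.Sky

variable {X Y : Scheme.{u}} (f : X ⟶ Y) (x : X)

noncomputable abbrev res : ModuleCat.{u} (X.presheaf.stalk x) ⥤
    ModuleCat.{u} (Y.presheaf.stalk (f.base x)) :=
  ModuleCat.restrictScalars (f.stalkMap x).hom

noncomputable def up (P : ModuleCat.{u} (X.presheaf.stalk x)) (p : P) : (res f x).obj P := p

noncomputable def down (P : ModuleCat.{u} (X.presheaf.stalk x)) (p : (res f x).obj P) : P := p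

noncomputable def pushSkySecs (P : ModuleCat.{u} (X.presheaf.stalk x)) (V : Y.Opens) :
    Γ((Scheme.Modules.pushforward f).obj (sky x P), V) →+
      Γ(sky (f.base x) ((res f x).obj P), V) where
  toFun g := ofSecs (f.base x) (mk fun hy => up f x P (ev (toSecs x (U := f ⁻¹ᵁ V) g) hy))
  map_zero' := rfl
  map_add' _ _ := rfl

noncomputable def pushSkySecsInv (P : ModuleCat.{u} (X.presheaf.stalk x)) (V : Y.Opens) :
    Γ(sky (f.base x) ((res f x).obj P), V) →+
      Γ((Scheme.Modules.pushforward f).obj (sky x P), V) where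
  toFun g := ofSecs x (U := f ⁻¹ᵁ V) (mk fun hy => down f x P (ev (toSecs (f.base x) g) hy))
  map_zero' := rfl
  map_add' _ _ := rfl

theorem push_smul (P : ModuleCat.{u} (X.presheaf.stalk x)) (V : Y.Opens) (r : Γ(Y, V))
    (g : Γ((Scheme.Modules.pushforward f).obj (sky x P), V)) (hy : f.base x ∈ V) :
    ev (toSecs x (U := f ⁻¹ᵁ V) (r • g)) hy =
      (X.presheaf.germ (f ⁻¹ᵁ V) x hy (f.app V r) : X.presheaf.stalk x) •
        ev (toSecs x (U := f ⁻¹ᵁ V) g) hy := rfl

theorem res_smul (P : ModuleCat.{u} (X.presheaf.stalk x)) (V : Y.Opens) (r : Γ(Y, V))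
    (g : Γ(sky (f.base x) ((res f x).obj P), V)) (hy : f.base x ∈ V) :
    down f x P (ev (toSecs (f.base x) (r • g)) hy) =
      (X.presheaf.germ (f ⁻¹ᵁ V) x hy (f.app V r) : X.presheaf.stalk x) •
        down f x P (ev (toSecs (f.base x) g) hy) := by
  change (f.stalkMap x).hom (Y.presheaf.germ V (f.base x) hy r) •
    down f x P (ev (toSecs (f.base x) g) hy) = _
  congr 1
  exact Scheme.Hom.germ_stalkMap_apply f V x hy r

noncomputable def pushSkyHom (P : ModuleCat.{u} (X.presheaf.stalk x)) :
    (Scheme.Modules.pushforward f).obj (sky x P) ⟶ sky (f.base x) ((res f x).obj P) :=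
  homOfSections _ _ (fun V => pushSkySecs f x P V)
    (fun h t => rfl)
    (fun V r g => by
      refine secs_ext fun hy => ?_
      exact (push_smul f x P V r g hy).trans (res_smul f x P V r (pushSkySecs f x P V g) hy).symm)

noncomputable def pushSkyInv (P : ModuleCat.{u} (X.presheaf.stalk x)) :
    sky (f.base x) ((res f x).obj P) ⟶ (Scheme.Modules.pushforward f).obj (sky x P) :=
  homOfSections _ _ (fun V => pushSkySecsInv f x P V)
    (fun h t => rfl)
    (fun V r g => by
      refine secs_ext (U := f ⁻¹ᵁ V) fun hy => ?_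
      exact (res_smul f x P V r g hy).trans (push_smul f x P V r (pushSkySecsInv f x P V g) hy).symm)

noncomputable def pushSkyIso (P : ModuleCat.{u} (X.presheaf.stalk x)) :
    (Scheme.Modules.pushforward f).obj (sky x P) ≅ sky (f.base x) ((res f x).obj P) where
  hom := pushSkyHom f x P
  inv := pushSkyInv f x P
  hom_inv_id := by
    apply hom_ext_sec
    intro U s
    rfl
  inv_hom_id := by
    apply hom_ext_sec
    intro U s
    rfl

noncomputable def pushSkyNatIso :
    skyFunctor x ⋙ Scheme.Modules.pushforward f ≅ res f x ⋙ skyFunctor (f.base x) :=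
  NatIso.ofComponents (fun P => pushSkyIso f x P) (by
    intro P Q φ
    apply hom_ext_sec
    intro U s
    rfl)

end Groth.Agent.Lib.Helper12.Sky
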