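import Groth.Agent.Lib.Helper12.Sky5

set_option autoImplicit false
universe u
open CategoryTheory CategoryTheory.Limits AlgebraicGeometry TopologicalSpace Opposite

namespace Groth.Agent.Lib.Helper12.Sky

variable {X Y : Scheme.{u}} (f : X ⟶ Y) (x : X)

noncomputable abbrev ext : ModuleCat.{u} (Y.presheaf.stalk (f.base x)) ⥤
    ModuleCat.{u} (X.presheaf.stalk x) :=
  ModuleCat.extendScalars (f.stalkMap x).hom

noncomputable def adjLeft :
    Scheme.Modules.pullback f ⋙ DerSch.stalkFunctor X x ⊣
      skyFunctor x ⋙ Scheme.Modules.pushforward f :=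
  (Scheme.Modules.pullbackPushforwardAdjunction f).comp (adj x)

noncomputable def adjRight :
    DerSch.stalkFunctor Y (f.base x) ⋙ ext f x ⊣ res f x ⋙ skyFunctor (f.base x) :=
  (adj (f.base x)).comp (ModuleCat.extendRestrictScalarsAdj (f.stalkMap x).hom)

noncomputable def stalkPullbackIso :
    Scheme.Modules.pullback f ⋙ DerSch.stalkFunctor X x ≅
      DerSch.stalkFunctor Y (f.base x) ⋙ ext f x :=
  ((conjugateIsoEquiv (adjRight f x) (adjLeft f x)).symm (pushSkyNatIso f x).symm)

end Groth.Agent.Lib.Helper12.Sky
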