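import Groth.Agent.Lib.Helper12.Sky7
import Groth.Agent.Lib.Helper12.StalkExact
import Mathlib.Algebra.Category.ModuleCat.ChangeOfRingsExact

set_option autoImplicit false
universe u
open CategoryTheory CategoryTheory.Limits AlgebraicGeometry TopologicalSpace Opposite

namespace Groth.Agent.Lib.Helper12.Sky

open Groth.Agent.Lib.Helper12.StalkExact

section Ring

variable {R S : Type u} [CommRing R] [CommRing S] (φ : R →+* S)

theorem mono_extendScalars_map (hφ : φ.Flat) {M N : ModuleCat.{u} R} (g : M ⟶ N) [Mono g] :
    Mono ((ModuleCat.extendScalars φ).map g) := by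
  let _ := φ.toAlgebra
  have hflat : Module.Flat R S := hφ
  have hinj : Function.Injective g.hom := (ModuleCat.mono_iff_injective g).1 inferInstance
  rw [ModuleCat.mono_iff_injective]
  have h1 : Function.Injective (LinearMap.lTensor S g.hom) :=
    Module.Flat.lTensor_preserves_injective_linearMap g.hom hinj
  have h2 := LinearMap.baseChange_eq_ltensor (A := S) g.hom
  intro a b hab
  apply h1
  rw [← h2]
  exact hab

instance isLeftAdjoint_extendScalars : (ModuleCat.extendScalars.{u, u, u} φ).IsLeftAdjoint :=
  (ModuleCat.extendRestrictScalarsAdj φ).isLeftAdjoint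

theorem shortExact_map_extendScalars (hφ : φ.Flat) (T : ShortComplex (ModuleCat.{u} R))
    (hT : T.ShortExact) : (T.map (ModuleCat.extendScalars φ)).ShortExact := by
  have hcolim : PreservesFiniteColimits (ModuleCat.extendScalars.{u, u, u} φ) := inferInstance
  have h1 := (Functor.preservesFiniteColimits_iff_forall_exact_map_and_epi
    (ModuleCat.extendScalars.{u, u, u} φ)).1 hcolim T hT
  have : Mono T.f := hT.mono_f
  have : Mono (T.map (ModuleCat.extendScalars φ)).f := mono_extendScalars_map φ hφ T.f
  have : Epi (T.map (ModuleCat.extendScalars φ)).g := h1.2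
  exact ⟨h1.1⟩

theorem exact_map_extendScalars (hφ : φ.Flat) (T : ShortComplex (ModuleCat.{u} R))
    (hT : T.Exact) : (T.map (ModuleCat.extendScalars φ)).Exact := by
  have h := ((Functor.exact_tfae (ModuleCat.extendScalars.{u, u, u} φ)).out 0 1).1
    (shortExact_map_extendScalars φ hφ)
  exact h T hT

end Ring

variable {X Y : Scheme.{u}} (f : X ⟶ Y) [Flat f]

theorem exact_map_pullback (T : ShortComplex Y.Modules) (hT : T.Exact) :
    (T.map (Scheme.Modules.pullback f)).Exact := by
  rw [exact_iff_stalk]
  intro x
  have e : (T.map (Scheme.Modules.pullback f)).map (DerSch.stalkFunctor X x) ≅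
      (T.map (DerSch.stalkFunctor Y (f.base x))).map (ext f x) :=
    (T.mapNatIso (stalkPullbackIso f x) : T.map (Scheme.Modules.pullback f ⋙ _) ≅ _)
  refine (ShortComplex.exact_iff_of_iso e).2 ?_
  exact exact_map_extendScalars _ (AlgebraicGeometry.Flat.stalkMap f x) _
    (hT.map (DerSch.stalkFunctor Y (f.base x)))

theorem exact_props_pullback :
    PreservesFiniteLimits (Scheme.Modules.pullback f) ∧
      PreservesFiniteColimits (Scheme.Modules.pullback f) :=
  ((Functor.exact_tfae (Scheme.Modules.pullback f)).out 1 3).1 (exact_map_pullback f)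

instance preservesFiniteLimits_pullback_of_flat :
    PreservesFiniteLimits (Scheme.Modules.pullback f) :=
  (exact_props_pullback f).1

end Groth.Agent.Lib.Helper12.Sky
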