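import Groth.Agent.Lib.Helper12.SkyFlat
import Groth.Agent.Lib.Helper45.KInjAdj

set_option autoImplicit false
universe u
open CategoryTheory CategoryTheory.Limits AlgebraicGeometry TopologicalSpace Opposite

namespace Groth.Agent.Lib.Helper12.Sky

variable {X Y : Scheme.{u}} (f : X ⟶ Y) [Flat f]

instance preservesHomology_pullback_of_flat :
    (Scheme.Modules.pullback f).PreservesHomology :=
  Functor.preservesHomologyOfExact _

theorem acyclic_pullback (A : CochainComplex Y.Modules ℤ) (hA : A.Acyclic) :
    (((Scheme.Modules.pullback f).mapHomologicalComplex (ComplexShape.up ℤ)).obj A).Acyclic :=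
  Groth.Agent.Lib.Helper45.KInjAdj.acyclic_map hA

theorem isKInjective_pushforward (I : CochainComplex X.Modules ℤ) [I.IsKInjective] :
    CochainComplex.IsKInjective
      (((Scheme.Modules.pushforward f).mapHomologicalComplex (ComplexShape.up ℤ)).obj I) :=
  Groth.Agent.Lib.Helper45.KInjAdj.isKInjective_map
    (Scheme.Modules.pullbackPushforwardAdjunction f) I

end Groth.Agent.Lib.Helper12.Sky
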