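import Mathlib

set_option autoImplicit false
universe u

namespace Groth.Agent.Lib.Helper12.SkyHom

open IsLocalRing

theorem subsingleton_of_forall_hom_eq_zero {A : Type u} [CommRing A] [IsLocalRing A]
    {P : Type u} [AddCommGroup P] [Module A P] (e : P) (he : e ≠ 0)
    (hm : ∀ a ∈ maximalIdeal A, a • e = 0)
    (H : Type u) [AddCommGroup H] [Module A H] [Module.Finite A H]
    (hH : ∀ g : H →ₗ[A] P, g = 0) : Subsingleton H := by
  by_contra hns
  rw [not_subsingleton_iff_nontrivial] at hns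
  have hbt : (⊥ : Submodule A H) ≠ ⊤ := bot_ne_top
  obtain ⟨H', hH', -⟩ := (eq_top_or_exists_le_coatom (⊥ : Submodule A H)).resolve_left hbt
  have hs : IsSimpleModule A (H ⧸ H') := isSimpleModule_iff_isCoatom.mpr hH'
  obtain ⟨I, hI, ⟨eq⟩⟩ := isSimpleModule_iff_quot_maximal.mp hs
  have hIm : I = maximalIdeal A := IsLocalRing.eq_maximalIdeal hI
  let ε : (A ⧸ I) →ₗ[A] P := Submodule.liftQ I (LinearMap.toSpanSingleton A P e) (by
    intro a ha
    rw [LinearMap.mem_ker, LinearMap.toSpanSingleton_apply]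
    exact hm a (hIm ▸ ha))
  let g : H →ₗ[A] P := ε ∘ₗ eq.toLinearMap ∘ₗ H'.mkQ
  have hg := hH g
  obtain ⟨q, hq⟩ := eq.surjective (Submodule.Quotient.mk (1 : A))
  obtain ⟨h, rfl⟩ := H'.mkQ_surjective q
  have h1 : g h = e := by
    change ε (eq (H'.mkQ h)) = e
    rw [hq]
    change (LinearMap.toSpanSingleton A P e) 1 = e
    simp
  rw [hg] at h1
  exact he h1.symm

end Groth.Agent.Lib.Helper12.SkyHom
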