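import Mathlib

set_option autoImplicit false
universe w v u

open CategoryTheory CategoryTheory.Limits Category

namespace Groth.Agent.Lib.Helper12.SkyHom

variable {C : Type u} [Category.{v} C] [Abelian C] [HasDerivedCategory.{w} C]

open DerivedCategory HomologicalComplex in
theorem hom_homology_eq_zero (M : DerivedCategory C) (n : ℤ) [M.IsLE n] (P : C)
    (h : ∀ φ : M ⟶ (DerivedCategory.singleFunctor C n).obj P, φ = 0)
    (g : (DerivedCategory.homologyFunctor C n).obj M ⟶ P) : g = 0 := by
  obtain ⟨L, hL, ⟨e⟩⟩ := M.exists_iso_Q_obj_of_isLE n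
  let eH : (DerivedCategory.homologyFunctor C n).obj M ≅ L.homology n :=
    (DerivedCategory.homologyFunctor C n).mapIso e ≪≫ (homologyFunctorFactors C n).app L
  let g' : L.homology n ⟶ P := eH.inv ≫ g
  have hd : L.d n (n + 1) = 0 := (L.isZero_of_isStrictlyLE n (n + 1) (by omega)).eq_of_tgt _ _
  let z : L.X n ⟶ L.cycles n := L.liftCycles (𝟙 _) (n + 1) (by simp) (by simp [hd])
  have hz : z ≫ L.iCycles n = 𝟙 _ := by simp [z]
  let φ0 : L.X n ⟶ P := z ≫ L.homologyπ n ≫ g'
  have hφ0 : ∀ i, (ComplexShape.up ℤ).Rel i n → L.d i n ≫ φ0 = 0 := by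
    intro i hi
    have h1 : L.d i n ≫ z = L.toCycles i n := by
      rw [← cancel_mono (L.iCycles n), assoc, hz, comp_id, toCycles_i]
    rw [← assoc, h1, toCycles_comp_homologyπ_assoc, zero_comp]
  let Φ : L ⟶ (HomologicalComplex.single C (ComplexShape.up ℤ) n).obj P :=
    HomologicalComplex.mkHomToSingle φ0 hφ0
  have hΦ : DerivedCategory.Q.map Φ = 0 := by
    have h2 := h (e.hom ≫ DerivedCategory.Q.map Φ ≫ ((singleFunctorIsoCompQ C n).app P).inv)
    have h5 : DerivedCategory.Q.map Φ ≫ ((singleFunctorIsoCompQ C n).app P).inv = 0 := by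
      have h6 := congrArg (fun f => e.inv ≫ f) h2
      simpa using h6
    exact ((Iso.comp_inv_eq ((singleFunctorIsoCompQ C n).app P)).1 h5).trans zero_comp
  have hH : HomologicalComplex.homologyMap Φ n = 0 := by
    have h3 := (homologyFunctorFactors C n).hom.naturality Φ
    rw [Functor.comp_map, hΦ, Functor.map_zero, zero_comp] at h3
    have h4 : (homologyFunctorFactors C n).hom.app L ≫ HomologicalComplex.homologyMap Φ n = 0 :=
      h3.symm
    exact (cancel_epi ((homologyFunctorFactors C n).hom.app L)).1 (h4.trans comp_zero.symm)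
  have key : z ≫ L.homologyπ n ≫ HomologicalComplex.homologyMap Φ n ≫
      (HomologicalComplex.singleObjHomologySelfIso (ComplexShape.up ℤ) n P).hom = φ0 := by
    rw [homologyπ_naturality_assoc, homologyπ_singleObjHomologySelfIso_hom,
      singleObjCyclesSelfIso_hom, cyclesMap_i_assoc, reassoc_of% hz]
    simp [Φ]
  have hφ00 : φ0 = 0 := by rw [← key, hH]; simp
  have hz_iso : IsIso z := ⟨L.iCycles n, hz, by rw [← cancel_mono (L.iCycles n), assoc, hz]; simp⟩
  have hg' : g' = 0 := by
    rw [← cancel_epi (L.homologyπ n), ← cancel_epi z, comp_zero, comp_zero]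
    exact hφ00
  have : g = eH.hom ≫ g' := by simp [g']
  rw [this, hg', comp_zero]

end Groth.Agent.Lib.Helper12.SkyHom
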