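import Mathlib
import Groth.Agent.Lib.Helper39.DerAdj

set_option autoImplicit false
universe w₁ w₂ v₁ v₂ u₁ u₂

open CategoryTheory CategoryTheory.Limits Category

namespace Groth.Agent.Lib.Helper12.SkyHom

variable {C₁ : Type u₁} [Category.{v₁} C₁] [Abelian C₁] [HasDerivedCategory.{w₁} C₁]
  {C₂ : Type u₂} [Category.{v₂} C₂] [Abelian C₂] [HasDerivedCategory.{w₂} C₂]

section

variable (G : C₁ ⥤ C₂) [G.Additive] [PreservesFiniteLimits G] [PreservesFiniteColimits G]

theorem nonempty_homologyMapDerivedIso (K : DerivedCategory C₁) (j : ℤ) :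
    Nonempty ((DerivedCategory.homologyFunctor C₂ j).obj (G.mapDerivedCategory.obj K) ≅
      G.obj ((DerivedCategory.homologyFunctor C₁ j).obj K)) := by
  let L := DerivedCategory.Q.objPreimage K
  let e : DerivedCategory.Q.obj L ≅ K := DerivedCategory.Q.objObjPreimageIso K
  let e1 : (DerivedCategory.homologyFunctor C₂ j).obj (G.mapDerivedCategory.obj K) ≅
      (DerivedCategory.homologyFunctor C₂ j).obj (G.mapDerivedCategory.obj (DerivedCategory.Q.obj L)) :=
    (DerivedCategory.homologyFunctor C₂ j).mapIso (G.mapDerivedCategory.mapIso e.symm)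
  let e2 : (DerivedCategory.homologyFunctor C₂ j).obj (G.mapDerivedCategory.obj (DerivedCategory.Q.obj L)) ≅
      (DerivedCategory.homologyFunctor C₂ j).obj
        (DerivedCategory.Q.obj ((G.mapHomologicalComplex (ComplexShape.up ℤ)).obj L)) :=
    (DerivedCategory.homologyFunctor C₂ j).mapIso (G.mapDerivedCategoryFactors.app L)
  let e3 : (DerivedCategory.homologyFunctor C₂ j).obj
        (DerivedCategory.Q.obj ((G.mapHomologicalComplex (ComplexShape.up ℤ)).obj L)) ≅
      ((G.mapHomologicalComplex (ComplexShape.up ℤ)).obj L).homology j :=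
    (DerivedCategory.homologyFunctorFactors C₂ j).app _
  let e4 : ((G.mapHomologicalComplex (ComplexShape.up ℤ)).obj L).homology j ≅ G.obj (L.homology j) :=
    (L.sc j).mapHomologyIso G
  let e5 : G.obj (L.homology j) ≅ G.obj ((DerivedCategory.homologyFunctor C₁ j).obj K) :=
    G.mapIso (((DerivedCategory.homologyFunctorFactors C₁ j).app L).symm ≪≫
      (DerivedCategory.homologyFunctor C₁ j).mapIso e)
  exact ⟨e1 ≪≫ e2 ≪≫ e3 ≪≫ e4 ≪≫ e5⟩

end

section

variable {G : C₁ ⥤ C₂} {F : C₂ ⥤ C₁} [G.Additive] [F.Additive]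
  [PreservesFiniteLimits G] [PreservesFiniteColimits G]
  [PreservesFiniteLimits F] [PreservesFiniteColimits F]

theorem forall_hom_eq_zero_iff (adj : G ⊣ F) (K : DerivedCategory C₁) (T : DerivedCategory C₂)
    (Y : DerivedCategory C₁) (e : Y ≅ F.mapDerivedCategory.obj T) :
    (∀ φ : K ⟶ Y, φ = 0) ↔ (∀ ψ : G.mapDerivedCategory.obj K ⟶ T, ψ = 0) := by
  let adjD := Groth.Agent.Lib.Helper39.DerAdj.derAdj adj
  constructor
  · intro h ψ
    have h1 := h (adjD.homEquiv K T ψ ≫ e.inv)
    have h2 : adjD.homEquiv K T ψ = 0 := by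
      have h3 := congrArg (fun f => f ≫ e.hom) h1
      simpa using h3
    have h4 : ψ = (adjD.homEquiv K T).symm 0 := by
      rw [← h2, Equiv.symm_apply_apply]
    rw [h4, Adjunction.homEquiv_symm_apply, Functor.map_zero, zero_comp]
  · intro h φ
    have h1 := h ((adjD.homEquiv K T).symm (φ ≫ e.hom))
    have h2 : φ ≫ e.hom = adjD.homEquiv K T 0 := by
      rw [← h1, Equiv.apply_symm_apply]
    rw [Adjunction.homEquiv_apply, Functor.map_zero, comp_zero] at h2
    have h3 := congrArg (fun f => f ≫ e.inv) h2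
    simpa using h3

end

noncomputable def shiftSingleIso (P : C₁) (i : ℤ) :
    (shiftFunctor (DerivedCategory C₁) (-i)).obj ((DerivedCategory.singleFunctor C₁ 0).obj P) ≅
      (DerivedCategory.singleFunctor C₁ i).obj P :=
  ((DerivedCategory.singleFunctors C₁).shiftIso (-i) i 0 (by omega)).app P

end Groth.Agent.Lib.Helper12.SkyHom
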