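import Groth.Agent.Lib.Helper12.SkyK2

set_option autoImplicit false
universe u
open CategoryTheory CategoryTheory.Limits AlgebraicGeometry TopologicalSpace Opposite

namespace Groth.Agent.Lib.Helper12.SkyHom

open Groth.Agent.Lib.Helper12.Sky

theorem isIso_of_app_bijective {X : Scheme.{u}} {M N : X.Modules} (φ : M ⟶ N)
    (h : ∀ U : X.Opens, Function.Bijective (φ.app U)) : IsIso φ := by
  have h1 : IsIso ((Scheme.Modules.toPresheaf X).map φ) := by
    refine @NatIso.isIso_of_isIso_app _ _ _ _ _ _ _ (fun U => ?_)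
    exact (ConcreteCategory.isIso_iff_bijective _).mpr (h U.unop)
  exact isIso_of_reflects_iso _ (Scheme.Modules.toPresheaf X)

theorem subsingleton_sections_of_eq_bot {S : Scheme.{u}} (M : S.Modules) {U : S.Opens}
    (hU : U = ⊥) : Subsingleton (M.presheaf.obj (op U)) := by
  have h1 : IsTerminal (M.presheaf.obj (op U)) :=
    TopCat.Sheaf.isTerminalOfEqEmpty ⟨M.presheaf, M.isSheaf⟩ hU
  have h2 : IsZero (M.presheaf.obj (op U)) :=
    (isZero_zero _).of_iso (h1.uniqueUpToIso (isZero_zero AddCommGrpCat.{u}).isTerminal)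
  exact AddCommGrpCat.subsingleton_of_isZero h2

variable {S X : Scheme.{u}} (g : S ⟶ X) (x : X) (hS : ∀ s : S, g.base s = x) (M : S.Modules)

include hS

theorem preimage_eq_bot {U : X.Opens} (hx : x ∉ U) : g ⁻¹ᵁ U = ⊥ := by
  ext s
  simp [hS s, hx]

theorem preimage_eq_of_mem {U W : X.Opens} (hU : x ∈ U) (hW : x ∈ W) : g ⁻¹ᵁ W = g ⁻¹ᵁ U := by
  ext s
  simp [hS s, hU, hW]

theorem res_bijective {U W : X.Opens} (h : W ≤ U) (hW : x ∈ W) :
    Function.Bijective (((Scheme.Modules.pushforward g).obj M).presheaf.map (homOfLE h).op) := by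
  have hUW : g ⁻¹ᵁ U ≤ g ⁻¹ᵁ W := le_of_eq (preimage_eq_of_mem g x hS (h hW) hW).symm
  have hi : IsIso ((Opens.map g.base).map (homOfLE h)) :=
    ⟨⟨homOfLE hUW, Subsingleton.elim _ _, Subsingleton.elim _ _⟩⟩
  have h2 : IsIso (M.presheaf.map ((Opens.map g.base).map (homOfLE h)).op) := inferInstance
  exact (ConcreteCategory.isIso_iff_bijective _).mp h2


theorem unit_app_bijective (U : X.Opens) :
    Function.Bijective ((Sky.unit x ((Scheme.Modules.pushforward g).obj M)).app U) := by
  set N := (Scheme.Modules.pushforward g).obj M with hN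
  by_cases hx : x ∈ U
  · constructor
    · intro m m' hmm
      have h1 : N.presheaf.germ U x hx m = N.presheaf.germ U x hx m' := by
        have h2 := congrArg (fun t => ev (toSecs x t) hx) hmm
        exact h2
      obtain ⟨W, hxW, iU, iV, h3⟩ := TopCat.Presheaf.germ_eq N.presheaf x hx hx m m' h1
      have h4 : iV = iU := Subsingleton.elim _ _
      rw [h4] at h3
      have h5 : iU = homOfLE iU.le := Subsingleton.elim _ _
      rw [h5] at h3
      exact (res_bijective g x hS M iU.le hxW).1 h3
    · intro t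
      obtain ⟨V, hxV, s, hs⟩ := N.presheaf.exists_germ_eq (x := x) (ev (toSecs x t) hx)
      have hWU : U ⊓ V ≤ U := inf_le_left
      have hWV : U ⊓ V ≤ V := inf_le_right
      obtain ⟨m, hm⟩ := (res_bijective g x hS M hWU ⟨hx, hxV⟩).2
        (N.presheaf.map (homOfLE hWV).op s)
      refine ⟨m, ?_⟩
      refine secs_ext (x := x) fun hx' => ?_
      change N.presheaf.germ U x hx' m = ev (toSecs x t) hx'
      rw [← hs]
      have e1 := TopCat.Presheaf.germ_res_apply N.presheaf (homOfLE hWU) x ⟨hx, hxV⟩ m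
      have e2 := TopCat.Presheaf.germ_res_apply N.presheaf (homOfLE hWV) x ⟨hx, hxV⟩ s
      rw [← e1, ← e2, hm]
  · have hb := preimage_eq_bot g x hS hx
    have hsub : Subsingleton (M.presheaf.obj (op (g ⁻¹ᵁ U))) :=
      subsingleton_sections_of_eq_bot M hb
    constructor
    · intro m m' _
      exact hsub.elim m m'
    · intro t
      refine ⟨0, ?_⟩
      refine secs_ext (x := x) fun hx' => ?_
      exact absurd hx' hx

theorem isIso_unit : IsIso (Sky.unit x ((Scheme.Modules.pushforward g).obj M)) :=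
  isIso_of_app_bijective _ (unit_app_bijective g x hS M)

end Groth.Agent.Lib.Helper12.SkyHom
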