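import Groth.Agent.Lib.Helper12.SkyK2

set_option autoImplicit false
universe u
open CategoryTheory CategoryTheory.Limits AlgebraicGeometry TopologicalSpace Opposite

namespace Groth.Agent.Lib.Helper12.SkyHom

open Groth.Agent.Lib.Helper12.Sky

variable {S X : Scheme.{u}} (g : S ⟶ X)

noncomputable abbrev NN : X.Modules := (Scheme.Modules.pushforward g).obj (SheafOfModules.unit S.ringCatSheaf)

noncomputable def one (U : X.Opens) : Γ(NN g, U) := (1 : Γ(S, g ⁻¹ᵁ U))

theorem smul_one' (U : X.Opens) (r : Γ(X, U)) : r • one g U = (show Γ(NN g, U) from (g.app U r : Γ(S, g ⁻¹ᵁ U))) := by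
  change (g.app U r : Γ(S, g ⁻¹ᵁ U)) * (1 : Γ(S, g ⁻¹ᵁ U)) = _
  rw [mul_one]

theorem res_one {U W : X.Opens} (i : W ⟶ U) : (NN g).presheaf.map i.op (one g U) = one g W := by
  change (S.presheaf.map ((Opens.map g.base).map i).op).hom (1 : Γ(S, g ⁻¹ᵁ U)) = (1 : Γ(S, g ⁻¹ᵁ W))
  rw [map_one]


variable (x : X) (hS : ∀ s : S, g.base s = x)

noncomputable def ee : (DerSch.stalkFunctor X x).obj (NN g) :=
  (NN g).presheaf.germ ⊤ x (Opens.mem_top x) (one g ⊤)

include hS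

theorem ee_ne_zero [Nonempty S] : ee g x ≠ 0 := by
  intro h0
  have h1 : (NN g).presheaf.germ ⊤ x (Opens.mem_top x) (one g ⊤) =
      (NN g).presheaf.germ ⊤ x (Opens.mem_top x) 0 := by
    rw [map_zero]
    exact h0
  obtain ⟨W, hxW, iU, iV, h3⟩ := TopCat.Presheaf.germ_eq (NN g).presheaf x _ _ _ _ h1
  rw [res_one, map_zero] at h3
  obtain ⟨s⟩ := ‹Nonempty S›
  have hne : Nonempty (g ⁻¹ᵁ W) := ⟨⟨s, by
    change g.base s ∈ W
    rw [hS s]
    exact hxW⟩⟩
  have hnt : Nontrivial Γ(S, g ⁻¹ᵁ W) := Scheme.component_nontrivial S (g ⁻¹ᵁ W)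
  exact one_ne_zero (α := Γ(S, g ⁻¹ᵁ W)) h3

theorem smul_ee [IsReduced S] (a : X.presheaf.stalk x)
    (ha : a ∈ IsLocalRing.maximalIdeal (X.presheaf.stalk x)) : a • ee g x = 0 := by
  obtain ⟨U, hxU, r, rfl⟩ := X.presheaf.exists_germ_eq (x := x) a
  have hnu : ¬ IsUnit (X.presheaf.germ U x hxU r) := ha
  have hxb : x ∉ X.basicOpen r := fun hmem => hnu ((Scheme.mem_basicOpen X r x hxU).1 hmem)
  have hbot : S.basicOpen (g.app U r) = ⊥ := by
    rw [← Scheme.preimage_basicOpen, eq_bot_iff]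
    intro s hs
    have hs' : g.base s ∈ X.basicOpen r := hs
    rw [hS s] at hs'
    exact absurd hs' hxb
  have hr0 : g.app U r = 0 := (basicOpen_eq_bot_iff _).1 hbot
  have h1 : ee g x = (NN g).presheaf.germ U x hxU (one g U) := by
    have e1 := TopCat.Presheaf.germ_res_apply (NN g).presheaf (homOfLE (le_top : U ≤ ⊤)) x hxU (one g ⊤)
    rw [res_one] at e1
    exact e1.symm
  have h2 : (show Γ(NN g, U) from (g.app U r : Γ(S, g ⁻¹ᵁ U))) = 0 := by
    rw [hr0]
    rfl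
  have h3 : X.presheaf.germ U x hxU r • (NN g).presheaf.germ U x hxU (one g U) =
      (NN g).presheaf.germ U x hxU (r • one g U) := (germ_smul' (NN g) x U hxU r (one g U)).symm
  rw [smul_one', h2, map_zero] at h3
  rw [h1]
  exact h3

end Groth.Agent.Lib.Helper12.SkyHom
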