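import Groth.Agent.Lib.Helper12.SkyHom1
import Groth.Agent.Lib.Helper12.SkyHom2
import Groth.Agent.Lib.Helper12.SkyHom3
import Groth.Agent.Lib.Helper12.SkyHom4
import Groth.Agent.Lib.Helper12.SkyHom5
import Groth.Agent.Lib.Helper12.StalkExact
import Groth.Agent.Lib.Helper64.FinTypeStalk
import Groth.Prelude.Def_DCoh2

set_option autoImplicit false
universe u
open CategoryTheory CategoryTheory.Limits AlgebraicGeometry TopologicalSpace Opposite

attribute [local instance] HasDerivedCategory.standard

namespace Groth.Agent.Lib.Helper12.SkyHom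

open Groth.Agent.Lib.Helper12.Sky Groth.Agent.Lib.Helper12.StalkExact

variable {S X : Scheme.{u}} (g : S ⟶ X) (x : X) (hS : ∀ s : S, g.base s = x)

include hS in
theorem isZero_of_forall_hom_eq_zero [Nonempty S] [IsReduced S]
    (H : ModuleCat.{u} (X.presheaf.stalk x)) [Module.Finite (X.presheaf.stalk x) H]
    (h : ∀ f : H ⟶ (DerSch.stalkFunctor X x).obj (NN g), f = 0) : IsZero H := by
  have hsub : Subsingleton H :=
    subsingleton_of_forall_hom_eq_zero (A := X.presheaf.stalk x)
      (P := (DerSch.stalkFunctor X x).obj (NN g)) (ee g x) (ee_ne_zero g x hS)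
      (smul_ee g x hS) H (fun f => by
        have h1 := h (ModuleCat.ofHom f)
        have h2 := congrArg ModuleCat.Hom.hom h1
        exact h2)
  exact ModuleCat.isZero_of_subsingleton H


include hS in
theorem main [Nonempty S] [IsReduced S] (K : DCoh.D X) (hK : DCoh.IsCohD K) (c : ℤ)
    [DerivedCategory.IsLE K c] (b : ℤ) :
    (∀ i : ℤ, b < i → x ∉ CohB1.support (DCoh.HD K i)) ↔
      ∀ i : ℤ, b < i → ∀ φ : K ⟶ (shiftFunctor (DCoh.D X) (-i)).obj (DCoh.inD X (NN g)), φ = 0 := by
  let A := X.presheaf.stalk x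
  let N := NN g
  let P : ModuleCat.{u} A := (DerSch.stalkFunctor X x).obj N
  have hiso : IsIso (Sky.unit x N) := isIso_unit g x hS _
  let eN : N ≅ (skyFunctor x).obj P := @asIso _ _ _ _ (Sky.unit x N) hiso
  let St := (DerSch.stalkFunctor X x).mapDerivedCategory
  let Sk := (skyFunctor x).mapDerivedCategory
  let e : ∀ i : ℤ, (shiftFunctor (DCoh.D X) (-i)).obj (DCoh.inD X N) ≅
      Sk.obj ((DerivedCategory.singleFunctor (ModuleCat.{u} A) i).obj P) := fun i =>
    shiftSingleIso N i ≪≫ (DerivedCategory.singleFunctor X.Modules i).mapIso eN ≪≫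
      ((skyFunctor x).mapDerivedCategorySingleFunctor i).symm.app P
  have key : ∀ i : ℤ, (∀ φ : K ⟶ (shiftFunctor (DCoh.D X) (-i)).obj (DCoh.inD X N), φ = 0) ↔
      (∀ ψ : St.obj K ⟶ (DerivedCategory.singleFunctor (ModuleCat.{u} A) i).obj P, ψ = 0) :=
    fun i => forall_hom_eq_zero_iff (Sky.adj x) K _ _ (e i)
  have hom : ∀ j : ℤ, Nonempty ((DerivedCategory.homologyFunctor (ModuleCat.{u} A) j).obj (St.obj K) ≅
      (DerSch.stalkFunctor X x).obj (DCoh.HD K j)) :=
    fun j => nonempty_homologyMapDerivedIso (DerSch.stalkFunctor X x) K j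
  have supp_iff : ∀ j : ℤ, x ∉ CohB1.support (DCoh.HD K j) ↔
      IsZero ((DerivedCategory.homologyFunctor (ModuleCat.{u} A) j).obj (St.obj K)) := by
    intro j
    obtain ⟨ι⟩ := hom j
    rw [ι.isZero_iff]
    change ¬ ¬ Subsingleton ((DCoh.HD K j).presheaf.stalk x) ↔ _
    rw [not_not]
    constructor
    · intro hs
      exact @ModuleCat.isZero_of_subsingleton _ _ ((DerSch.stalkFunctor X x).obj (DCoh.HD K j)) hs
    · intro hz
      exact ModuleCat.subsingleton_of_isZero hz
  have hLEc : (St.obj K).IsLE c := by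
    rw [DerivedCategory.isLE_iff]
    intro j hj
    rw [← supp_iff]
    have hz : IsZero (DCoh.HD K j) := DerivedCategory.isZero_of_isLE K c j hj
    intro hmem
    apply hmem
    have hz2 : IsZero ((DerSch.stalkFunctor X x).obj (DCoh.HD K j)) :=
      Functor.map_isZero _ hz
    exact ModuleCat.subsingleton_of_isZero hz2
  constructor
  · intro h i hi
    rw [key i]
    intro ψ
    have hLEb : (St.obj K).IsLE b := by
      rw [DerivedCategory.isLE_iff]
      intro j hj
      exact (supp_iff j).1 (h j hj)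
    exact DerivedCategory.TStructure.t.zero_of_isLE_of_isGE ψ b i hi hLEb inferInstance
  · intro h
    have h' : ∀ i : ℤ, b < i →
        ∀ ψ : St.obj K ⟶ (DerivedCategory.singleFunctor (ModuleCat.{u} A) i).obj P, ψ = 0 :=
      fun i hi => (key i).1 (h i hi)
    have step : ∀ k : ℕ, (St.obj K).IsLE (b + k) → (St.obj K).IsLE b := by
      intro k
      induction k with
      | zero =>
        intro hk
        simpa using hk
      | succ k ih =>
        intro hk
        apply ih
        have hn : b < b + ((k + 1 : ℕ) : ℤ) := by omega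
        have hg := @hom_homology_eq_zero _ _ _ _ (St.obj K) (b + ((k + 1 : ℕ) : ℤ)) hk P
          (h' _ hn)
        obtain ⟨ι⟩ := hom (b + ((k + 1 : ℕ) : ℤ))
        have hfin : Module.Finite A ((DerSch.stalkFunctor X x).obj (DCoh.HD K (b + ((k + 1 : ℕ) : ℤ)))) :=
          Groth.Agent.Lib.Helper64.FinTypeStalk.finite_stalk _ (hK _).2 x
        have hfin2 : Module.Finite A
            ((DerivedCategory.homologyFunctor (ModuleCat.{u} A) (b + ((k + 1 : ℕ) : ℤ))).obj (St.obj K)) :=
          Module.Finite.equiv ι.symm.toLinearEquiv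
        have hz := isZero_of_forall_hom_eq_zero g x hS _ hg
        rw [DerivedCategory.isLE_iff]
        intro j hj
        by_cases hjn : j = b + ((k + 1 : ℕ) : ℤ)
        · rw [hjn]
          exact hz
        · exact @DerivedCategory.isZero_of_isLE _ _ _ _ (St.obj K) (b + ((k + 1 : ℕ) : ℤ)) j
            (by omega) hk
    have hLEb : (St.obj K).IsLE b := by
      apply step (c - b).toNat
      exact DerivedCategory.TStructure.t.isLE_of_le (St.obj K) c _ (by omega)
    intro i hi
    rw [supp_iff]
    exact @DerivedCategory.isZero_of_isLE _ _ _ _ (St.obj K) b i hi hLEb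

end Groth.Agent.Lib.Helper12.SkyHom
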