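import Groth.Agent.Lib.Helper12.TotFun
import Mathlib.Algebra.Homology.Bifunctor

set_option autoImplicit false
open CategoryTheory CategoryTheory.Limits

namespace Groth.Agent.Lib.Helper12.TotFun

variable {C₁ C₂ C₃ D₁ D₂ D₃ : Type*} [Category C₁] [Category C₂] [Category C₃]
  [Category D₁] [Category D₂] [Category D₃]
  [Preadditive C₁] [Preadditive C₂] [Preadditive C₃] [Preadditive D₁] [Preadditive D₂]
  [Preadditive D₃]
  {I₁ I₂ J : Type*} {c₁ : ComplexShape I₁} {c₂ : ComplexShape I₂}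
  (F : C₁ ⥤ C₂ ⥤ C₃) [F.PreservesZeroMorphisms] [∀ X₁, (F.obj X₁).PreservesZeroMorphisms]
  (F' : D₁ ⥤ D₂ ⥤ D₃) [F'.PreservesZeroMorphisms] [∀ X₁, (F'.obj X₁).PreservesZeroMorphisms]
  (G₁ : C₁ ⥤ D₁) (G₂ : C₂ ⥤ D₂) (G₃ : C₃ ⥤ D₃) [G₁.Additive] [G₂.Additive] [G₃.Additive]
  (e : ∀ (a : C₁) (b : C₂), G₃.obj ((F.obj a).obj b) ≅ (F'.obj (G₁.obj a)).obj (G₂.obj b))
  (he₁ : ∀ {a a' : C₁} (f : a ⟶ a') (b : C₂),
    G₃.map ((F.map f).app b) ≫ (e a' b).hom = (e a b).hom ≫ (F'.map (G₁.map f)).app (G₂.obj b))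
  (he₂ : ∀ (a : C₁) {b b' : C₂} (g : b ⟶ b'),
    G₃.map ((F.obj a).map g) ≫ (e a b').hom = (e a b).hom ≫ (F'.obj (G₁.obj a)).map (G₂.map g))
  (K₁ : HomologicalComplex C₁ c₁) (K₂ : HomologicalComplex C₂ c₂)

noncomputable def biIso :
    mapBi G₃ (((F.mapBifunctorHomologicalComplex c₁ c₂).obj K₁).obj K₂) ≅
      ((F'.mapBifunctorHomologicalComplex c₁ c₂).obj ((G₁.mapHomologicalComplex c₁).obj K₁)).obj
        ((G₂.mapHomologicalComplex c₂).obj K₂) :=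
  HomologicalComplex.Hom.isoOfComponents
    (fun i₁ => HomologicalComplex.Hom.isoOfComponents (fun i₂ => e (K₁.X i₁) (K₂.X i₂))
      (fun i₂ i₂' _ => (he₂ (K₁.X i₁) (K₂.d i₂ i₂')).symm))
    (fun i₁ i₁' _ => by
      ext i₂
      exact (he₁ (K₁.d i₁ i₁') (K₂.X i₂)).symm)

variable (c : ComplexShape J) [TotalComplexShape c₁ c₂ c] [DecidableEq J]
  [HomologicalComplex.HasMapBifunctor K₁ K₂ F c]
  [HomologicalComplex.HasMapBifunctor ((G₁.mapHomologicalComplex c₁).obj K₁)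
    ((G₂.mapHomologicalComplex c₂).obj K₂) F' c]
  [(mapBi G₃ (((F.mapBifunctorHomologicalComplex c₁ c₂).obj K₁).obj K₂)).HasTotal c]
  [∀ j, PreservesColimit (Discrete.functor
    ((((F.mapBifunctorHomologicalComplex c₁ c₂).obj K₁).obj K₂).toGradedObject.mapObjFun
      (ComplexShape.π c₁ c₂ c) j)) G₃]

noncomputable def mapBifunctorIso :
    (G₃.mapHomologicalComplex c).obj (HomologicalComplex.mapBifunctor K₁ K₂ F c) ≅
      HomologicalComplex.mapBifunctor ((G₁.mapHomologicalComplex c₁).obj K₁)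
        ((G₂.mapHomologicalComplex c₂).obj K₂) F' c :=
  totalIso c G₃ (((F.mapBifunctorHomologicalComplex c₁ c₂).obj K₁).obj K₂) ≪≫
    HomologicalComplex₂.total.mapIso (biIso F F' G₁ G₂ G₃ e he₁ he₂ K₁ K₂) c

end Groth.Agent.Lib.Helper12.TotFun
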