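import Groth.Agent.Lib.Helper12.SkyT7
import Groth.Agent.Lib.Helper12.TotFun2
import Groth.Agent.Lib.Helper12.StalkExact
import Groth.Prelude.Def_KFlatSite

set_option autoImplicit false
universe u
open CategoryTheory CategoryTheory.Limits AlgebraicGeometry TopologicalSpace Opposite MonoidalCategory

namespace Groth.Agent.Lib.Helper12.Sky

open Groth.Agent.Lib.Helper12.StalkExact

variable {X : Scheme.{u}} (x : X)

instance preservesColimits_stalkFunctor :
    PreservesColimitsOfSize.{0, 0} (DerSch.stalkFunctor X x) :=
  (adj x).leftAdjoint_preservesColimits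

noncomputable def stalkTensorCxIso (L F : CochainComplex X.Modules ℤ) :
    (stalkCx X x).obj ((DCoh.tensorCx.obj L).obj F) ≅
      (((stalkCx X x).obj L) ⊗ ((stalkCx X x).obj F) : DRing.Cx (X.presheaf.stalk x)) :=
  TotFun.mapBifunctorIso DCoh.tensorBi (curriedTensor (ModuleCat.{u} (X.presheaf.stalk x)))
    (DerSch.stalkFunctor X x) (DerSch.stalkFunctor X x) (DerSch.stalkFunctor X x)
    (stalkTensorIso x) (stalkTensorIso_naturality_left x) (stalkTensorIso_naturality_right x)
    L F (ComplexShape.up ℤ)

end Groth.Agent.Lib.Helper12.Sky
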