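import Groth.Agent.Lib.Helper12.SkyK

set_option autoImplicit false
universe u
open CategoryTheory CategoryTheory.Limits AlgebraicGeometry TopologicalSpace Opposite MonoidalCategory

namespace Groth.Agent.Lib.Helper12.Sky

open Groth.Agent.Lib.Helper12.StalkExact

variable {X : Scheme.{u}} (x : X)

instance additive_skyFunctor : (skyFunctor x).Additive :=
  (adj x).right_adjoint_additive

instance preservesLimits_skyFunctor : PreservesLimitsOfSize.{0, 0} (skyFunctor x) :=
  (adj x).rightAdjoint_preservesLimits

theorem epi_skyMap {P Q : ModuleCat.{u} (X.presheaf.stalk x)} (φ : P ⟶ Q) [Epi φ] :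
    Epi (skyMap x φ) := by
  have hsurj : Function.Surjective φ.hom := (ModuleCat.epi_iff_surjective φ).1 inferInstance
  refine ⟨fun {N} g₁ g₂ h => ?_⟩
  apply hom_ext_sec
  intro U s''
  classical
  let s : Γ(sky x P, U) := ofSecs x (mk fun hx => (hsurj (ev (toSecs x s'') hx)).choose)
  have hs : (skyMap x φ).app U s = s'' := by
    refine secs_ext fun hx => ?_
    exact (hsurj (ev (toSecs x s'') hx)).choose_spec
  have h' := congrArg (fun t => t.app U s) h
  change g₁.app U ((skyMap x φ).app U s) = g₂.app U ((skyMap x φ).app U s) at h'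
  rw [hs] at h'
  exact h'

theorem shortExact_map_skyFunctor (S : ShortComplex (ModuleCat.{u} (X.presheaf.stalk x)))
    (hS : S.ShortExact) : (S.map (skyFunctor x)).ShortExact := by
  have hlim : PreservesFiniteLimits (skyFunctor x) := inferInstance
  have h1 := (Functor.preservesFiniteLimits_iff_forall_exact_map_and_mono (skyFunctor x)).1
    hlim S hS
  have : Mono (S.map (skyFunctor x)).f := h1.2
  have : Epi S.g := hS.epi_g
  have : Epi (S.map (skyFunctor x)).g := epi_skyMap x S.g
  exact ⟨h1.1⟩

theorem exact_props_sky :
    PreservesFiniteLimits (skyFunctor x) ∧ PreservesFiniteColimits (skyFunctor x) :=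
  ((Functor.exact_tfae (skyFunctor x)).out 0 3).1 (shortExact_map_skyFunctor x)

instance preservesFiniteColimits_skyFunctor : PreservesFiniteColimits (skyFunctor x) :=
  (exact_props_sky x).2

theorem counit_bijective (P : ModuleCat.{u} (X.presheaf.stalk x)) :
    Function.Bijective (counit x P).hom := by
  constructor
  · rw [injective_iff_map_eq_zero]
    intro m hm
    obtain ⟨U, hxU, g, rfl⟩ := (sky x P).presheaf.exists_germ_eq (x := x) m
    rw [counit_germ] at hm
    have hg : g = 0 := by
      refine secs_ext fun hx => ?_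
      exact hm
    rw [hg, map_zero]
    rfl
  · intro p
    refine ⟨(sky x P).presheaf.germ ⊤ x (Opens.mem_top x) (ofSecs x (mk fun _ => p)), ?_⟩
    exact counit_germ x P ⊤ (Opens.mem_top x) _

instance isIso_counit (P : ModuleCat.{u} (X.presheaf.stalk x)) : IsIso (counit x P) :=
  (ConcreteCategory.isIso_iff_bijective _).2 (counit_bijective x P)

noncomputable def stalkSkyCxIso (M : DRing.Cx (X.presheaf.stalk x)) :
    (stalkCx X x).obj (((skyFunctor x).mapHomologicalComplex (ComplexShape.up ℤ)).obj M) ≅ M :=
  HomologicalComplex.Hom.isoOfComponents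
    (fun i => @asIso _ _ _ _ (counit x (M.X i)) (isIso_counit x (M.X i)))
    (fun i j _ => ((counitNat x).naturality (M.d i j)).symm)

end Groth.Agent.Lib.Helper12.Sky
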