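import Groth.Agent.Lib.Helper12.SkyK2

set_option autoImplicit false
universe u
open CategoryTheory CategoryTheory.Limits AlgebraicGeometry TopologicalSpace Opposite MonoidalCategory

namespace Groth.Agent.Lib.Helper12.Sky

open Groth.Agent.Lib.Helper12.StalkExact

variable {X : Scheme.{u}}

theorem isZero_homology_iff_exactAt {C : Type*} [Category C] [Abelian C]
    (K : CochainComplex C ℤ) (i : ℤ) : IsZero (K.homology i) ↔ K.ExactAt i :=
  (HomologicalComplex.exactAt_iff_isZero_homology K i).symm

theorem acyclic_stalkCx (L : CochainComplex X.Modules ℤ) (hL : ∀ i : ℤ, IsZero (L.homology i))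
    (x : X) (i : ℤ) : IsZero (((stalkCx X x).obj L).homology i) := by
  rw [isZero_homology_iff_exactAt]
  exact (exactAt_iff_stalk L i).1 ((isZero_homology_iff_exactAt L i).1 (hL i)) x

theorem acyclic_of_iso {C : Type*} [Category C] [Abelian C] {K K' : CochainComplex C ℤ}
    (e : K ≅ K') (h : ∀ i : ℤ, IsZero (K.homology i)) (i : ℤ) : IsZero (K'.homology i) :=
  IsZero.of_iso (h i) ((HomologicalComplex.homologyFunctor C (ComplexShape.up ℤ) i).mapIso e).symm

theorem isKFlat_of_stalks (F : CochainComplex X.Modules ℤ)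
    (h : ∀ x : X, DRing.IsKFlat (X.presheaf.stalk x) ((stalkCx X x).obj F)) :
    DCoh.IsKFlat F := by
  intro L hL i
  rw [isZero_homology_iff_exactAt, exactAt_iff_stalk]
  intro x
  rw [← isZero_homology_iff_exactAt]
  exact acyclic_of_iso (stalkTensorCxIso x L F).symm (h x _ (acyclic_stalkCx L hL x)) i

theorem acyclic_sky (x : X) (M : DRing.Cx (X.presheaf.stalk x))
    (hM : ∀ i : ℤ, IsZero (M.homology i)) (i : ℤ) :
    IsZero ((((skyFunctor x).mapHomologicalComplex (ComplexShape.up ℤ)).obj M).homology i) := by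
  rw [isZero_homology_iff_exactAt]
  have h := (isZero_homology_iff_exactAt M i).1 (hM i)
  rw [HomologicalComplex.exactAt_iff] at h ⊢
  exact h.map (skyFunctor x)

theorem stalks_isKFlat (F : CochainComplex X.Modules ℤ) (hF : DCoh.IsKFlat F) (x : X) :
    DRing.IsKFlat (X.presheaf.stalk x) ((stalkCx X x).obj F) := by
  intro M hM i
  have h1 := hF _ (acyclic_sky x M hM)
  have h2 := acyclic_stalkCx _ h1 x
  have h3 := acyclic_of_iso (stalkTensorCxIso x _ F) h2
  exact acyclic_of_iso ((tensorRight ((stalkCx X x).obj F)).mapIso (stalkSkyCxIso x M)) h3 i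

theorem isKFlat_iff_stalks (F : CochainComplex X.Modules ℤ) :
    DCoh.IsKFlat F ↔ ∀ x : X, DRing.IsKFlat (X.presheaf.stalk x) ((stalkCx X x).obj F) :=
  ⟨stalks_isKFlat F, isKFlat_of_stalks F⟩

end Groth.Agent.Lib.Helper12.Sky
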