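import Groth.Agent.Lib.Helper12.Sky7
import Groth.Prelude.Def_DCoh4

set_option autoImplicit false
universe u
open CategoryTheory CategoryTheory.Limits AlgebraicGeometry TopologicalSpace Opposite

namespace Groth.Agent.Lib.Helper12.Sky

variable {X : Scheme.{u}} (x : X)

noncomputable abbrev psh (Q : CohB1.PMod X) : TopCat.Presheaf Ab X := Q.presheaf

noncomputable instance pmoduleStalk (Q : CohB1.PMod X) :
    Module (X.presheaf.stalk x) ((psh Q).stalk x) :=
  inferInstanceAs (Module (X.presheaf.stalk x) ↑(TopCat.Presheaf.stalk (PresheafOfModules.presheaf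
    (R := X.presheaf ⋙ forget₂ CommRingCat RingCat)
    (show PresheafOfModules (X.presheaf ⋙ forget₂ CommRingCat RingCat) from Q)) x))

noncomputable instance pmoduleSec (Q : CohB1.PMod X) (U : X.Opens) :
    Module Γ(X, U) (Q.obj (op U)) :=
  (Q.obj (op U)).isModule

noncomputable instance pmoduleSec' (Q : CohB1.PMod X) (U : X.Opens) :
    Module Γ(X, U) ((psh Q).obj (op U)) :=
  (Q.obj (op U)).isModule

theorem pgerm_smul (Q : CohB1.PMod X) (U : X.Opens) (hx : x ∈ U) (a : Γ(X, U))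
    (b : (psh Q).obj (op U)) :
    (psh Q).germ U x hx (a • b) = X.presheaf.germ U x hx a • (psh Q).germ U x hx b :=
  PresheafOfModules.germ_smul (R := X.presheaf)
    (show PresheafOfModules (X.presheaf ⋙ forget₂ CommRingCat RingCat) from Q) x U hx a b

noncomputable abbrev pstalkMapAb {Q Q' : CohB1.PMod X} (φ : Q ⟶ Q') :
    (psh Q).stalk x ⟶ (psh Q').stalk x :=
  (TopCat.Presheaf.stalkFunctor Ab x).map ((PresheafOfModules.toPresheaf _).map φ)

noncomputable abbrev papp {Q Q' : CohB1.PMod X} (φ : Q ⟶ Q') (U : X.Opens) :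
    (psh Q).obj (op U) ⟶ (psh Q').obj (op U) :=
  ((PresheafOfModules.toPresheaf _).map φ).app (op U)

theorem papp_smul {Q Q' : CohB1.PMod X} (φ : Q ⟶ Q') (U : X.Opens) (a : Γ(X, U))
    (b : (psh Q).obj (op U)) : papp φ U (a • b) = a • papp φ U b :=
  (φ.app (op U)).hom.map_smul a b

theorem pstalkMapAb_germ {Q Q' : CohB1.PMod X} (φ : Q ⟶ Q') (U : X.Opens) (hx : x ∈ U)
    (s : (psh Q).obj (op U)) :
    pstalkMapAb x φ ((psh Q).germ U x hx s) = (psh Q').germ U x hx (papp φ U s) := by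
  dsimp only [pstalkMapAb]
  erw [TopCat.Presheaf.stalkFunctor_map_germ_apply]

theorem pstalkMapAb_smul {Q Q' : CohB1.PMod X} (φ : Q ⟶ Q') (r : X.presheaf.stalk x)
    (m : (psh Q).stalk x) : pstalkMapAb x φ (r • m) = r • pstalkMapAb x φ m := by
  obtain ⟨U, hyU, s, rfl⟩ := X.presheaf.exists_germ_eq (x := x) r
  obtain ⟨V, hyV, t, rfl⟩ := (psh Q).exists_germ_eq (x := x) m
  have hyW : x ∈ U ⊓ V := ⟨hyU, hyV⟩
  have hs := X.presheaf.germ_res_apply (homOfLE inf_le_left : U ⊓ V ⟶ U) x hyW s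
  have ht := (psh Q).germ_res_apply (homOfLE inf_le_right : U ⊓ V ⟶ V) x hyW t
  rw [← hs, ← ht]
  generalize X.presheaf.map (homOfLE inf_le_left : U ⊓ V ⟶ U).op s = s'
  generalize (psh Q).map (homOfLE inf_le_right : U ⊓ V ⟶ V).op t = t'
  rw [← pgerm_smul, pstalkMapAb_germ, pstalkMapAb_germ, ← pgerm_smul, papp_smul]

noncomputable def pstalkFunctor : CohB1.PMod X ⥤ ModuleCat.{u} (X.presheaf.stalk x) where
  obj Q := ModuleCat.of (X.presheaf.stalk x) ((psh Q).stalk x)
  map φ := ModuleCat.ofHom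
    { toFun := fun m => pstalkMapAb x φ m
      map_add' := fun a b => map_add (pstalkMapAb x φ).hom a b
      map_smul' := fun r m => pstalkMapAb_smul x φ r m }
  map_id Q := by
    ext m
    obtain ⟨U, hxU, s, rfl⟩ := (psh Q).exists_germ_eq (x := x) m
    exact pstalkMapAb_germ x (𝟙 Q) U hxU s
  map_comp φ ψ := by
    ext m
    obtain ⟨U, hxU, s, rfl⟩ := (psh _).exists_germ_eq (x := x) m
    exact (pstalkMapAb_germ x (φ ≫ ψ) U hxU s).trans
      ((congrArg _ (pstalkMapAb_germ x φ U hxU s)).trans (pstalkMapAb_germ x ψ U hxU _)).symm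

theorem pstalkFunctor_map_germ {Q Q' : CohB1.PMod X} (φ : Q ⟶ Q') (U : X.Opens) (hx : x ∈ U)
    (s : (psh Q).obj (op U)) :
    ((pstalkFunctor x).map φ).hom ((psh Q).germ U x hx s) =
      (psh Q').germ U x hx (papp φ U s) :=
  pstalkMapAb_germ x φ U hx s

end Groth.Agent.Lib.Helper12.Sky
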