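import Groth.Agent.Lib.Helper12.SkyP

set_option autoImplicit false
universe u
open CategoryTheory CategoryTheory.Limits AlgebraicGeometry TopologicalSpace Opposite

namespace Groth.Agent.Lib.Helper12.Sky

variable {X : Scheme.{u}} (x : X)

theorem phom_ext {Q Q' : CohB1.PMod X} (a b : Q ⟶ Q')
    (h : ∀ (U : X.Opens) (s : (psh Q).obj (op U)), papp a U s = papp b U s) : a = b := by
  apply (PresheafOfModules.toPresheaf _).map_injective
  ext U s
  exact h U.unop s

theorem pstalk_hom_ext {Q : CohB1.PMod X} {P : ModuleCat.{u} (X.presheaf.stalk x)}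
    (a b : (pstalkFunctor x).obj Q ⟶ P)
    (h : ∀ (U : X.Opens) (hx : x ∈ U) (m : (psh Q).obj (op U)),
      a.hom ((psh Q).germ U x hx m) = b.hom ((psh Q).germ U x hx m)) : a = b := by
  ext m
  obtain ⟨U, hxU, s, rfl⟩ := (psh Q).exists_germ_eq (x := x) m
  exact h U hxU s

noncomputable def punitSecs (Q : CohB1.PMod X) (U : X.Opens) :
    (psh Q).obj (op U) →+ secs x ((pstalkFunctor x).obj Q) U where
  toFun m := mk fun hx => ((psh Q).germ U x hx m : (psh Q).stalk x)
  map_zero' := by
    ext hx
    exact map_zero ((psh Q).germ U x hx).hom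
  map_add' m m' := by
    ext hx
    exact map_add ((psh Q).germ U x hx).hom _ _

noncomputable def punit (Q : CohB1.PMod X) :
    Q ⟶ DCoh.toP.obj (sky x ((pstalkFunctor x).obj Q)) :=
  PresheafOfModules.homMk
    { app := fun U => AddCommGrpCat.ofHom (punitSecs x Q U.unop)
      naturality := fun U V f => by
        ext t
        refine secs_ext fun hx => ?_
        exact TopCat.Presheaf.germ_res_apply (psh Q) f.unop x hx t }
    (fun U r t => by
      refine secs_ext fun hx => ?_
      exact pgerm_smul x Q U.unop hx r t)

theorem punit_app_ev (Q : CohB1.PMod X) (U : X.Opens) (m : (psh Q).obj (op U)) (hx : x ∈ U) :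
    ev (show secs x ((pstalkFunctor x).obj Q) U from papp (punit x Q) U m) hx =
      (psh Q).germ U x hx m := rfl

noncomputable def punitNat : 𝟭 (CohB1.PMod X) ⟶ pstalkFunctor x ⋙ (skyFunctor x ⋙ DCoh.toP) where
  app Q := punit x Q
  naturality Q Q' φ := by
    apply phom_ext
    intro U m
    refine secs_ext fun hx => ?_
    exact (pstalkFunctor_map_germ x φ U hx m).symm

noncomputable def pcounitNat :
    (skyFunctor x ⋙ DCoh.toP) ⋙ pstalkFunctor x ⟶ 𝟭 (ModuleCat.{u} (X.presheaf.stalk x)) where
  app P := counit x P
  naturality _ _ φ := (counitNat x).naturality φ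

noncomputable def adjP : pstalkFunctor x ⊣ skyFunctor x ⋙ DCoh.toP where
  unit := punitNat x
  counit := pcounitNat x
  left_triangle_components Q := by
    apply pstalk_hom_ext
    intro U hx m
    change (counit x ((pstalkFunctor x).obj Q)).hom (((pstalkFunctor x).map (punit x Q)).hom
      ((psh Q).germ U x hx m)) = _
    rw [pstalkFunctor_map_germ]
    exact counit_germ x _ U hx _
  right_triangle_components P := by
    apply phom_ext
    intro U g
    refine secs_ext fun hx => ?_
    exact right_triangle_apply x P U hx g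

end Groth.Agent.Lib.Helper12.Sky
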