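import Groth.Agent.Lib.Helper12.SkyP2

set_option autoImplicit false
universe u
open CategoryTheory CategoryTheory.Limits AlgebraicGeometry TopologicalSpace Opposite MonoidalCategory

namespace Groth.Agent.Lib.Helper12.Sky

variable {X : Scheme.{u}} (x : X) (P Q : CohB1.PMod X)

abbrev Sec (P : CohB1.PMod X) (U : X.Opens) : Type u := (psh P).obj (op U)

abbrev Stk (P : CohB1.PMod X) : Type u := (psh P).stalk x

variable {P Q}

noncomputable def tm {U : X.Opens} (s : Sec P U) (t : Sec Q U) : Sec (P ⊗ Q) U :=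
  (s ⊗ₜ[Γ(X, U)] t : TensorProduct Γ(X, U) (Sec P U) (Sec Q U))

theorem tm_add_left {U : X.Opens} (s s' : Sec P U) (t : Sec Q U) :
    tm (s + s') t = tm s t + tm s' t := TensorProduct.add_tmul s s' t

theorem tm_add_right {U : X.Opens} (s : Sec P U) (t t' : Sec Q U) :
    tm s (t + t') = tm s t + tm s t' := TensorProduct.tmul_add s t t'

theorem tm_smul_left {U : X.Opens} (a : Γ(X, U)) (s : Sec P U) (t : Sec Q U) :
    tm (a • s) t = a • tm s t := rfl

theorem tm_smul_right {U : X.Opens} (a : Γ(X, U)) (s : Sec P U) (t : Sec Q U) :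
    tm s (a • t) = a • tm s t := TensorProduct.tmul_smul a s t

theorem tm_zero_left {U : X.Opens} (t : Sec Q U) : tm (0 : Sec P U) t = 0 :=
  TensorProduct.zero_tmul _ t

theorem tm_zero_right {U : X.Opens} (s : Sec P U) : tm s (0 : Sec Q U) = 0 :=
  TensorProduct.tmul_zero _ s

theorem tm_res {U V : X.Opens} (i : V ⟶ U) (s : Sec P U) (t : Sec Q U) :
    (psh (P ⊗ Q)).map i.op (tm s t) = tm ((psh P).map i.op s) ((psh Q).map i.op t) :=
  PresheafOfModules.Monoidal.tensorObj_map_tmul (M₁ := P) (M₂ := Q) i.op s t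

theorem sec_induction {U : X.Opens} {motive : Sec (P ⊗ Q) U → Prop}
    (zero : motive 0) (tmul : ∀ (s : Sec P U) (t : Sec Q U), motive (tm s t))
    (add : ∀ ξ ξ', motive ξ → motive ξ' → motive (ξ + ξ')) (ξ : Sec (P ⊗ Q) U) : motive ξ :=
  TensorProduct.induction_on
    (motive := fun ξ : TensorProduct Γ(X, U) (Sec P U) (Sec Q U) => motive ξ) ξ zero tmul add

end Groth.Agent.Lib.Helper12.Sky
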