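import Groth.Agent.Lib.Helper12.SkyT

set_option autoImplicit false
universe u
open CategoryTheory CategoryTheory.Limits AlgebraicGeometry TopologicalSpace Opposite MonoidalCategory

namespace Groth.Agent.Lib.Helper12.Sky

variable {X : Scheme.{u}} (x : X) (P Q : CohB1.PMod X)

abbrev TStk : Type u := TensorProduct (X.presheaf.stalk x) (Stk x P) (Stk x Q)

noncomputable def gg {U : X.Opens} (hx : x ∈ U) (s : Sec P U) (t : Sec Q U) : TStk x P Q :=
  ((psh P).germ U x hx s : Stk x P) ⊗ₜ[X.presheaf.stalk x] ((psh Q).germ U x hx t : Stk x Q)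

theorem gg_add_left {U : X.Opens} (hx : x ∈ U) (s s' : Sec P U) (t : Sec Q U) :
    gg x P Q hx (s + s') t = gg x P Q hx s t + gg x P Q hx s' t := by
  unfold gg
  rw [map_add, TensorProduct.add_tmul]

theorem gg_add_right {U : X.Opens} (hx : x ∈ U) (s : Sec P U) (t t' : Sec Q U) :
    gg x P Q hx s (t + t') = gg x P Q hx s t + gg x P Q hx s t' := by
  unfold gg
  rw [map_add, TensorProduct.tmul_add]

theorem gg_smul_left {U : X.Opens} (hx : x ∈ U) (a : Γ(X, U)) (s : Sec P U) (t : Sec Q U) :
    gg x P Q hx (a • s) t = (X.presheaf.germ U x hx a : X.presheaf.stalk x) • gg x P Q hx s t := by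
  unfold gg
  rw [pgerm_smul, TensorProduct.smul_tmul']

theorem gg_smul_right {U : X.Opens} (hx : x ∈ U) (a : Γ(X, U)) (s : Sec P U) (t : Sec Q U) :
    gg x P Q hx s (a • t) = (X.presheaf.germ U x hx a : X.presheaf.stalk x) • gg x P Q hx s t := by
  unfold gg
  rw [pgerm_smul, TensorProduct.tmul_smul]

theorem gg_res {U V : X.Opens} (i : V ⟶ U) (hx : x ∈ V) (s : Sec P U) (t : Sec Q U) :
    gg x P Q hx ((psh P).map i.op s) ((psh Q).map i.op t) = gg x P Q (i.le hx) s t := by
  unfold gg
  rw [TopCat.Presheaf.germ_res_apply, TopCat.Presheaf.germ_res_apply]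

noncomputable def legHom {U : X.Opens} (hx : x ∈ U) : Sec (P ⊗ Q) U →+ TStk x P Q :=
  TensorProduct.liftAddHom (R := Γ(X, U)) (M := Sec P U) (N := Sec Q U)
    (AddMonoidHom.mk' (fun s => AddMonoidHom.mk' (fun t => gg x P Q hx s t)
      (fun t t' => gg_add_right x P Q hx s t t'))
      (fun s s' => by
        ext t
        exact gg_add_left x P Q hx s s' t))
    (fun a s t => by
      change gg x P Q hx (a • s) t = gg x P Q hx s (a • t)
      rw [gg_smul_left, gg_smul_right])

theorem legHom_tm {U : X.Opens} (hx : x ∈ U) (s : Sec P U) (t : Sec Q U) :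
    legHom x P Q hx (tm s t) = gg x P Q hx s t := rfl

theorem legHom_smul {U : X.Opens} (hx : x ∈ U) (a : Γ(X, U)) (ξ : Sec (P ⊗ Q) U) :
    legHom x P Q hx (a • ξ) =
      (X.presheaf.germ U x hx a : X.presheaf.stalk x) • legHom x P Q hx ξ := by
  induction ξ using sec_induction with
  | zero => rw [smul_zero, map_zero, smul_zero]
  | tmul s t => rw [← tm_smul_left, legHom_tm, legHom_tm, gg_smul_left]
  | add ξ ξ' h h' => rw [smul_add, map_add, map_add, smul_add, h, h']

theorem legHom_res {U V : X.Opens} (i : V ⟶ U) (hx : x ∈ V) (ξ : Sec (P ⊗ Q) U) :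
    legHom x P Q hx ((psh (P ⊗ Q)).map i.op ξ) = legHom x P Q (i.le hx) ξ := by
  induction ξ using sec_induction with
  | zero => rw [map_zero, map_zero, map_zero]
  | tmul s t => rw [tm_res, legHom_tm, legHom_tm, gg_res]
  | add ξ ξ' h h' => rw [map_add, map_add, map_add, h, h']

end Groth.Agent.Lib.Helper12.Sky
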