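import Groth.Agent.Lib.Helper12.SkyT2

set_option autoImplicit false
universe u
open CategoryTheory CategoryTheory.Limits AlgebraicGeometry TopologicalSpace Opposite MonoidalCategory

namespace Groth.Agent.Lib.Helper12.Sky

variable {X : Scheme.{u}} (x : X) (P Q : CohB1.PMod X)

noncomputable def thetaCocone :
    Cocone ((OpenNhds.inclusion x).op ⋙ psh (P ⊗ Q)) where
  pt := AddCommGrpCat.of (TStk x P Q)
  ι :=
    { app := fun U => AddCommGrpCat.ofHom (legHom x P Q U.unop.2)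
      naturality := fun U V f => by
        ext ξ
        exact legHom_res x P Q ((OpenNhds.inclusion x).map f.unop) V.unop.2 ξ }

noncomputable def thetaAb : (psh (P ⊗ Q)).stalk x ⟶ AddCommGrpCat.of (TStk x P Q) :=
  colimit.desc _ (thetaCocone x P Q)

theorem germ_thetaAb (U : X.Opens) (hx : x ∈ U) :
    (psh (P ⊗ Q)).germ U x hx ≫ thetaAb x P Q = AddCommGrpCat.ofHom (legHom x P Q hx) :=
  colimit.ι_desc (thetaCocone x P Q) (op ⟨U, hx⟩)

theorem thetaAb_germ (U : X.Opens) (hx : x ∈ U) (ξ : Sec (P ⊗ Q) U) :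
    thetaAb x P Q ((psh (P ⊗ Q)).germ U x hx ξ) = legHom x P Q hx ξ :=
  congrArg (fun φ => φ.hom ξ) (germ_thetaAb x P Q U hx)

theorem exists_common_rep (r : X.presheaf.stalk x) (m : Stk x P) :
    ∃ (W : X.Opens) (hW : x ∈ W) (ρ : Γ(X, W)) (s : Sec P W),
      X.presheaf.germ W x hW ρ = r ∧ (psh P).germ W x hW s = m := by
  obtain ⟨U, hyU, s, rfl⟩ := X.presheaf.exists_germ_eq (x := x) r
  obtain ⟨V, hyV, t, rfl⟩ := (psh P).exists_germ_eq (x := x) m
  have hyW : x ∈ U ⊓ V := ⟨hyU, hyV⟩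
  exact ⟨U ⊓ V, hyW, X.presheaf.map (homOfLE inf_le_left : U ⊓ V ⟶ U).op s,
    (psh P).map (homOfLE inf_le_right : U ⊓ V ⟶ V).op t,
    X.presheaf.germ_res_apply (homOfLE inf_le_left : U ⊓ V ⟶ U) x hyW s,
    (psh P).germ_res_apply (homOfLE inf_le_right : U ⊓ V ⟶ V) x hyW t⟩

theorem thetaAb_smul (r : X.presheaf.stalk x) (m : Stk x (P ⊗ Q)) :
    thetaAb x P Q (r • m) = r • (thetaAb x P Q m : TStk x P Q) := by
  obtain ⟨W, hW, ρ, ξ, rfl, rfl⟩ := exists_common_rep x (P ⊗ Q) r m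
  rw [← pgerm_smul, thetaAb_germ, thetaAb_germ, legHom_smul]

noncomputable def theta :
    (pstalkFunctor x).obj (P ⊗ Q) ⟶ (pstalkFunctor x).obj P ⊗ (pstalkFunctor x).obj Q :=
  ModuleCat.ofHom
    { toFun := fun m => thetaAb x P Q m
      map_add' := fun a b => map_add (thetaAb x P Q).hom a b
      map_smul' := fun r m => thetaAb_smul x P Q r m }

theorem theta_germ_tm (U : X.Opens) (hx : x ∈ U) (s : Sec P U) (t : Sec Q U) :
    (theta x P Q).hom ((psh (P ⊗ Q)).germ U x hx (tm s t)) = gg x P Q hx s t :=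
  (thetaAb_germ x P Q U hx (tm s t)).trans (legHom_tm x P Q hx s t)

end Groth.Agent.Lib.Helper12.Sky
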