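import Groth.Agent.Lib.Helper12.SkyT3

set_option autoImplicit false
universe u
open CategoryTheory CategoryTheory.Limits AlgebraicGeometry TopologicalSpace Opposite MonoidalCategory

namespace Groth.Agent.Lib.Helper12.Sky

variable {X : Scheme.{u}} (x : X) (P Q : CohB1.PMod X)

theorem res_res (F : TopCat.Presheaf Ab X) {U V W : X.Opens} (i : V ⟶ U) (j : W ⟶ V) (k : W ⟶ U)
    (s : F.obj (op U)) : F.map j.op (F.map i.op s) = F.map k.op s := by
  have : k = j ≫ i := Subsingleton.elim _ _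
  rw [this, op_comp, F.map_comp]
  rfl

noncomputable def tg {W : X.Opens} (hW : x ∈ W) (s : Sec P W) (t : Sec Q W) : Stk x (P ⊗ Q) :=
  (psh (P ⊗ Q)).germ W x hW (tm s t)

theorem tg_res {U V : X.Opens} (i : V ⟶ U) (hx : x ∈ V) (s : Sec P U) (t : Sec Q U) :
    tg x P Q hx ((psh P).map i.op s) ((psh Q).map i.op t) = tg x P Q (i.le hx) s t := by
  unfold tg
  rw [← tm_res, TopCat.Presheaf.germ_res_apply]

theorem tg_add_left {U : X.Opens} (hx : x ∈ U) (s s' : Sec P U) (t : Sec Q U) :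
    tg x P Q hx (s + s') t = tg x P Q hx s t + tg x P Q hx s' t := by
  unfold tg
  rw [tm_add_left, map_add]

theorem tg_add_right {U : X.Opens} (hx : x ∈ U) (s : Sec P U) (t t' : Sec Q U) :
    tg x P Q hx s (t + t') = tg x P Q hx s t + tg x P Q hx s t' := by
  unfold tg
  rw [tm_add_right, map_add]

theorem tg_smul_left {U : X.Opens} (hx : x ∈ U) (a : Γ(X, U)) (s : Sec P U) (t : Sec Q U) :
    tg x P Q hx (a • s) t = (X.presheaf.germ U x hx a : X.presheaf.stalk x) • tg x P Q hx s t := by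
  unfold tg
  rw [tm_smul_left, pgerm_smul]

theorem tg_smul_right {U : X.Opens} (hx : x ∈ U) (a : Γ(X, U)) (s : Sec P U) (t : Sec Q U) :
    tg x P Q hx s (a • t) = (X.presheaf.germ U x hx a : X.presheaf.stalk x) • tg x P Q hx s t := by
  unfold tg
  rw [tm_smul_right, pgerm_smul]

theorem tg_eq_of_germ_eq {U V : X.Opens} (hU : x ∈ U) (hV : x ∈ V) (s : Sec P U) (s' : Sec P V)
    (t : Sec Q U) (t' : Sec Q V)
    (hs : (psh P).germ U x hU s = (psh P).germ V x hV s')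
    (ht : (psh Q).germ U x hU t = (psh Q).germ V x hV t') :
    tg x P Q hU s t = tg x P Q hV s' t' := by
  obtain ⟨W₁, m₁, iU₁, iV₁, e₁⟩ := TopCat.Presheaf.germ_eq (psh P) x hU hV s s' hs
  obtain ⟨W₂, m₂, iU₂, iV₂, e₂⟩ := TopCat.Presheaf.germ_eq (psh Q) x hU hV t t' ht
  have m₃ : x ∈ W₁ ⊓ W₂ := ⟨m₁, m₂⟩
  let j₁ : W₁ ⊓ W₂ ⟶ W₁ := homOfLE inf_le_left
  let j₂ : W₁ ⊓ W₂ ⟶ W₂ := homOfLE inf_le_right
  let kU : W₁ ⊓ W₂ ⟶ U := j₁ ≫ iU₁
  let kV : W₁ ⊓ W₂ ⟶ V := j₁ ≫ iV₁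
  rw [← tg_res x P Q kU m₃ s t, ← tg_res x P Q kV m₃ s' t']
  have h1 : (psh P).map kU.op s = (psh P).map kV.op s' := by
    rw [← res_res (psh P) iU₁ j₁ kU s, ← res_res (psh P) iV₁ j₁ kV s', e₁]
  have h2 : (psh Q).map kU.op t = (psh Q).map kV.op t' := by
    rw [← res_res (psh Q) iU₂ j₂ kU t, ← res_res (psh Q) iV₂ j₂ kV t', e₂]
  rw [h1, h2]

structure Rep (F : TopCat.Presheaf Ab X) (a : F.stalk x) where
  U : X.Opens
  hU : x ∈ U
  s : F.obj (op U)
  hs : F.germ U x hU s = a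

noncomputable def chooseRep (F : TopCat.Presheaf Ab X) (a : F.stalk x) : Rep x F a :=
  ⟨_, _, _, (F.exists_germ_eq (x := x) a).choose_spec.choose_spec.choose_spec⟩

noncomputable def beta0 (a : Stk x P) (b : Stk x Q) : Stk x (P ⊗ Q) :=
  tg x P Q (W := (chooseRep x (psh P) a).U ⊓ (chooseRep x (psh Q) b).U)
    (Opens.mem_inf.mpr ⟨(chooseRep x (psh P) a).hU, (chooseRep x (psh Q) b).hU⟩)
    ((psh P).map (homOfLE inf_le_left).op (chooseRep x (psh P) a).s)
    ((psh Q).map (homOfLE inf_le_right).op (chooseRep x (psh Q) b).s)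

theorem beta0_germ {W : X.Opens} (hW : x ∈ W) (s : Sec P W) (t : Sec Q W) :
    beta0 x P Q ((psh P).germ W x hW s) ((psh Q).germ W x hW t) = tg x P Q hW s t := by
  unfold beta0
  apply tg_eq_of_germ_eq
  · exact ((psh P).germ_res_apply (homOfLE inf_le_left) x _ _).trans (chooseRep x (psh P) _).hs
  · exact ((psh Q).germ_res_apply (homOfLE inf_le_right) x _ _).trans (chooseRep x (psh Q) _).hs

end Groth.Agent.Lib.Helper12.Sky
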