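import Groth.Agent.Lib.Helper12.SkyT4

set_option autoImplicit false
universe u
open CategoryTheory CategoryTheory.Limits AlgebraicGeometry TopologicalSpace Opposite MonoidalCategory

namespace Groth.Agent.Lib.Helper12.Sky

variable {X : Scheme.{u}} (x : X) (P Q : CohB1.PMod X)

theorem exists_rep₃ (F₁ F₂ F₃ : TopCat.Presheaf Ab X) (a₁ : F₁.stalk x) (a₂ : F₂.stalk x)
    (a₃ : F₃.stalk x) :
    ∃ (W : X.Opens) (hW : x ∈ W) (s₁ : F₁.obj (op W)) (s₂ : F₂.obj (op W)) (s₃ : F₃.obj (op W)),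
      F₁.germ W x hW s₁ = a₁ ∧ F₂.germ W x hW s₂ = a₂ ∧ F₃.germ W x hW s₃ = a₃ := by
  obtain ⟨U₁, h₁, s₁, rfl⟩ := F₁.exists_germ_eq (x := x) a₁
  obtain ⟨U₂, h₂, s₂, rfl⟩ := F₂.exists_germ_eq (x := x) a₂
  obtain ⟨U₃, h₃, s₃, rfl⟩ := F₃.exists_germ_eq (x := x) a₃
  have hW : x ∈ U₁ ⊓ U₂ ⊓ U₃ := ⟨⟨h₁, h₂⟩, h₃⟩
  let i₁ : U₁ ⊓ U₂ ⊓ U₃ ⟶ U₁ := homOfLE (inf_le_left.trans inf_le_left)
  let i₂ : U₁ ⊓ U₂ ⊓ U₃ ⟶ U₂ := homOfLE (inf_le_left.trans inf_le_right)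
  let i₃ : U₁ ⊓ U₂ ⊓ U₃ ⟶ U₃ := homOfLE inf_le_right
  exact ⟨_, hW, F₁.map i₁.op s₁, F₂.map i₂.op s₂, F₃.map i₃.op s₃,
    F₁.germ_res_apply i₁ x hW s₁, F₂.germ_res_apply i₂ x hW s₂, F₃.germ_res_apply i₃ x hW s₃⟩

theorem exists_rep_ring₂ (F₂ F₃ : TopCat.Presheaf Ab X) (r : X.presheaf.stalk x) (a₂ : F₂.stalk x)
    (a₃ : F₃.stalk x) :
    ∃ (W : X.Opens) (hW : x ∈ W) (ρ : Γ(X, W)) (s₂ : F₂.obj (op W)) (s₃ : F₃.obj (op W)),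
      X.presheaf.germ W x hW ρ = r ∧ F₂.germ W x hW s₂ = a₂ ∧ F₃.germ W x hW s₃ = a₃ := by
  obtain ⟨U₁, h₁, s₁, rfl⟩ := X.presheaf.exists_germ_eq (x := x) r
  obtain ⟨U₂, h₂, s₂, rfl⟩ := F₂.exists_germ_eq (x := x) a₂
  obtain ⟨U₃, h₃, s₃, rfl⟩ := F₃.exists_germ_eq (x := x) a₃
  have hW : x ∈ U₁ ⊓ U₂ ⊓ U₃ := ⟨⟨h₁, h₂⟩, h₃⟩
  let i₁ : U₁ ⊓ U₂ ⊓ U₃ ⟶ U₁ := homOfLE (inf_le_left.trans inf_le_left)
  let i₂ : U₁ ⊓ U₂ ⊓ U₃ ⟶ U₂ := homOfLE (inf_le_left.trans inf_le_right)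
  let i₃ : U₁ ⊓ U₂ ⊓ U₃ ⟶ U₃ := homOfLE inf_le_right
  exact ⟨_, hW, X.presheaf.map i₁.op s₁, F₂.map i₂.op s₂, F₃.map i₃.op s₃,
    X.presheaf.germ_res_apply i₁ x hW s₁, F₂.germ_res_apply i₂ x hW s₂,
    F₃.germ_res_apply i₃ x hW s₃⟩

theorem beta0_add_left (a a' : Stk x P) (b : Stk x Q) :
    beta0 x P Q (a + a') b = beta0 x P Q a b + beta0 x P Q a' b := by
  obtain ⟨W, hW, s, s', t, rfl, rfl, rfl⟩ := exists_rep₃ x (psh P) (psh P) (psh Q) a a' b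
  rw [← map_add, beta0_germ, beta0_germ, beta0_germ, tg_add_left]

theorem beta0_add_right (a : Stk x P) (b b' : Stk x Q) :
    beta0 x P Q a (b + b') = beta0 x P Q a b + beta0 x P Q a b' := by
  obtain ⟨W, hW, s, t, t', rfl, rfl, rfl⟩ := exists_rep₃ x (psh P) (psh Q) (psh Q) a b b'
  rw [← map_add, beta0_germ, beta0_germ, beta0_germ, tg_add_right]

theorem beta0_smul_left (r : X.presheaf.stalk x) (a : Stk x P) (b : Stk x Q) :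
    beta0 x P Q (r • a) b = r • beta0 x P Q a b := by
  obtain ⟨W, hW, ρ, s, t, rfl, rfl, rfl⟩ := exists_rep_ring₂ x (psh P) (psh Q) r a b
  rw [← pgerm_smul, beta0_germ, beta0_germ, tg_smul_left]

theorem beta0_smul_right (r : X.presheaf.stalk x) (a : Stk x P) (b : Stk x Q) :
    beta0 x P Q a (r • b) = r • beta0 x P Q a b := by
  obtain ⟨W, hW, ρ, s, t, rfl, rfl, rfl⟩ := exists_rep_ring₂ x (psh P) (psh Q) r a b
  rw [← pgerm_smul, beta0_germ, beta0_germ, tg_smul_right]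

noncomputable def betaLin :
    Stk x P →ₗ[X.presheaf.stalk x] Stk x Q →ₗ[X.presheaf.stalk x] Stk x (P ⊗ Q) :=
  LinearMap.mk₂ (X.presheaf.stalk x) (beta0 x P Q) (beta0_add_left x P Q)
    (beta0_smul_left x P Q) (beta0_add_right x P Q) (beta0_smul_right x P Q)

noncomputable def psi :
    (pstalkFunctor x).obj P ⊗ (pstalkFunctor x).obj Q ⟶ (pstalkFunctor x).obj (P ⊗ Q) :=
  ModuleCat.ofHom (TensorProduct.lift (betaLin x P Q))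

theorem psi_gg {U : X.Opens} (hx : x ∈ U) (s : Sec P U) (t : Sec Q U) :
    (psi x P Q).hom (gg x P Q hx s t) = tg x P Q hx s t :=
  beta0_germ x P Q hx s t

end Groth.Agent.Lib.Helper12.Sky
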