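import Groth.Agent.Lib.Helper12.SkyT5

set_option autoImplicit false
universe u
open CategoryTheory CategoryTheory.Limits AlgebraicGeometry TopologicalSpace Opposite MonoidalCategory

namespace Groth.Agent.Lib.Helper12.Sky

variable {X : Scheme.{u}} (x : X) (P Q : CohB1.PMod X)

theorem sec_addHom_ext {A : Type*} [AddCommGroup A] {U : X.Opens} (f g : Sec (P ⊗ Q) U →+ A)
    (h : ∀ (s : Sec P U) (t : Sec Q U), f (tm s t) = g (tm s t)) : f = g := by
  ext ξ
  induction ξ using sec_induction with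
  | zero => rw [map_zero, map_zero]
  | tmul s t => exact h s t
  | add ξ ξ' h h' => rw [map_add, map_add, h, h']

noncomputable def germHom (R : CohB1.PMod X) {U : X.Opens} (hx : x ∈ U) : Sec R U →+ Stk x R :=
  ((psh R).germ U x hx).hom

theorem germHom_apply (R : CohB1.PMod X) {U : X.Opens} (hx : x ∈ U) (ξ : Sec R U) :
    germHom x R hx ξ = (psh R).germ U x hx ξ := rfl

theorem psi_theta_germ {U : X.Opens} (hx : x ∈ U) (ξ : Sec (P ⊗ Q) U) :
    (psi x P Q).hom ((theta x P Q).hom ((psh (P ⊗ Q)).germ U x hx ξ)) =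
      (psh (P ⊗ Q)).germ U x hx ξ := by
  refine DFunLike.congr_fun (sec_addHom_ext _ _
    (((psi x P Q).hom.toAddMonoidHom.comp (theta x P Q).hom.toAddMonoidHom).comp
      (germHom x (P ⊗ Q) hx)) (germHom x (P ⊗ Q) hx) (fun s t => ?_)) ξ
  change (psi x P Q).hom ((theta x P Q).hom ((psh (P ⊗ Q)).germ U x hx (tm s t))) = _
  rw [theta_germ_tm, psi_gg]
  rfl

theorem theta_psi_tmul (a : Stk x P) (b : Stk x Q) :
    (theta x P Q).hom ((psi x P Q).hom (a ⊗ₜ[X.presheaf.stalk x] b)) =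
      a ⊗ₜ[X.presheaf.stalk x] b := by
  obtain ⟨W, hW, s, _, t, rfl, _, rfl⟩ := exists_rep₃ x (psh P) (psh P) (psh Q) a a b
  exact (congrArg _ (psi_gg x P Q hW s t)).trans (theta_germ_tm x P Q W hW s t)

noncomputable def pstalkTensorIso :
    (pstalkFunctor x).obj (P ⊗ Q) ≅ (pstalkFunctor x).obj P ⊗ (pstalkFunctor x).obj Q where
  hom := theta x P Q
  inv := psi x P Q
  hom_inv_id := by
    apply pstalk_hom_ext
    intro U hx ξ
    exact psi_theta_germ x P Q hx ξ
  inv_hom_id := by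
    apply ModuleCat.MonoidalCategory.tensor_ext
    intro a b
    exact theta_psi_tmul x P Q a b

variable {P Q}

theorem papp_whiskerRight_tm {P' : CohB1.PMod X} (f : P ⟶ P') (Q : CohB1.PMod X) {U : X.Opens}
    (s : Sec P U) (t : Sec Q U) : papp (f ▷ Q) U (tm s t) = tm (papp f U s) t := rfl

theorem papp_whiskerLeft_tm (P : CohB1.PMod X) {Q Q' : CohB1.PMod X} (g : Q ⟶ Q') {U : X.Opens}
    (s : Sec P U) (t : Sec Q U) : papp (P ◁ g) U (tm s t) = tm s (papp g U t) := rfl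

theorem theta_whiskerRight {P' : CohB1.PMod X} (f : P ⟶ P') (Q : CohB1.PMod X) :
    (pstalkFunctor x).map (f ▷ Q) ≫ theta x P' Q =
      theta x P Q ≫ ((pstalkFunctor x).map f ▷ (pstalkFunctor x).obj Q) := by
  apply pstalk_hom_ext
  intro U hx ξ
  refine DFunLike.congr_fun (sec_addHom_ext _ _
    (((pstalkFunctor x).map (f ▷ Q) ≫ theta x P' Q).hom.toAddMonoidHom.comp
      (germHom x (P ⊗ Q) hx))
    ((theta x P Q ≫ ((pstalkFunctor x).map f ▷ (pstalkFunctor x).obj Q)).hom.toAddMonoidHom.comp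
      (germHom x (P ⊗ Q) hx)) (fun s t => ?_)) ξ
  change (theta x P' Q).hom (((pstalkFunctor x).map (f ▷ Q)).hom
      ((psh (P ⊗ Q)).germ U x hx (tm s t))) =
    ((pstalkFunctor x).map f ▷ (pstalkFunctor x).obj Q).hom ((theta x P Q).hom
      ((psh (P ⊗ Q)).germ U x hx (tm s t)))
  rw [pstalkFunctor_map_germ, papp_whiskerRight_tm, theta_germ_tm, theta_germ_tm]
  change _ = ((pstalkFunctor x).map f).hom ((psh P).germ U x hx s) ⊗ₜ[X.presheaf.stalk x] _
  rw [pstalkFunctor_map_germ]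
  rfl

theorem theta_whiskerLeft (P : CohB1.PMod X) {Q Q' : CohB1.PMod X} (g : Q ⟶ Q') :
    (pstalkFunctor x).map (P ◁ g) ≫ theta x P Q' =
      theta x P Q ≫ ((pstalkFunctor x).obj P ◁ (pstalkFunctor x).map g) := by
  apply pstalk_hom_ext
  intro U hx ξ
  refine DFunLike.congr_fun (sec_addHom_ext _ _
    (((pstalkFunctor x).map (P ◁ g) ≫ theta x P Q').hom.toAddMonoidHom.comp
      (germHom x (P ⊗ Q) hx))
    ((theta x P Q ≫ ((pstalkFunctor x).obj P ◁ (pstalkFunctor x).map g)).hom.toAddMonoidHom.comp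
      (germHom x (P ⊗ Q) hx)) (fun s t => ?_)) ξ
  change (theta x P Q').hom (((pstalkFunctor x).map (P ◁ g)).hom
      ((psh (P ⊗ Q)).germ U x hx (tm s t))) =
    ((pstalkFunctor x).obj P ◁ (pstalkFunctor x).map g).hom ((theta x P Q).hom
      ((psh (P ⊗ Q)).germ U x hx (tm s t)))
  rw [pstalkFunctor_map_germ, papp_whiskerLeft_tm, theta_germ_tm, theta_germ_tm]
  change _ = _ ⊗ₜ[X.presheaf.stalk x] ((pstalkFunctor x).map g).hom ((psh Q).germ U x hx t)
  rw [pstalkFunctor_map_germ]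
  rfl

end Groth.Agent.Lib.Helper12.Sky
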