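import Groth.Agent.Lib.Helper12.SkyT6

set_option autoImplicit false
universe u
open CategoryTheory CategoryTheory.Limits AlgebraicGeometry TopologicalSpace Opposite MonoidalCategory

namespace Groth.Agent.Lib.Helper12.Sky

variable {X : Scheme.{u}} (x : X)

noncomputable def shAdj : DCoh.shP (X := X) ⊣ DCoh.toP :=
  PresheafOfModules.sheafificationAdjunction (𝟙 X.ringCatSheaf.obj)

noncomputable def stalkShIso : DCoh.shP ⋙ DerSch.stalkFunctor X x ≅ pstalkFunctor x :=
  Adjunction.leftAdjointUniq ((shAdj (X := X)).comp (adj x)) (adjP x)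

noncomputable def stalkTensorIso (M N : X.Modules) :
    (DerSch.stalkFunctor X x).obj ((DCoh.tensorBi.obj M).obj N) ≅
      (DerSch.stalkFunctor X x).obj M ⊗ (DerSch.stalkFunctor X x).obj N :=
  (stalkShIso x).app (DCoh.toP.obj M ⊗ DCoh.toP.obj N) ≪≫
    pstalkTensorIso x (DCoh.toP.obj M) (DCoh.toP.obj N)

theorem stalkTensorIso_naturality_left {M M' : X.Modules} (f : M ⟶ M') (N : X.Modules) :
    (DerSch.stalkFunctor X x).map ((DCoh.tensorBi.map f).app N) ≫ (stalkTensorIso x M' N).hom =
      (stalkTensorIso x M N).hom ≫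
        ((DerSch.stalkFunctor X x).map f ▷ (DerSch.stalkFunctor X x).obj N) := by
  have h1 := (stalkShIso x).hom.naturality (DCoh.toP.map f ▷ DCoh.toP.obj N)
  have h2 := theta_whiskerRight x (DCoh.toP.map f) (DCoh.toP.obj N)
  exact ((Category.assoc _ _ _).symm.trans ((congrArg (· ≫ theta x _ _) h1).trans
    ((Category.assoc _ _ _).trans ((congrArg (_ ≫ ·) h2).trans (Category.assoc _ _ _).symm))))

theorem stalkTensorIso_naturality_right (M : X.Modules) {N N' : X.Modules} (g : N ⟶ N') :
    (DerSch.stalkFunctor X x).map ((DCoh.tensorBi.obj M).map g) ≫ (stalkTensorIso x M N').hom =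
      (stalkTensorIso x M N).hom ≫
        ((DerSch.stalkFunctor X x).obj M ◁ (DerSch.stalkFunctor X x).map g) := by
  have h1 := (stalkShIso x).hom.naturality (DCoh.toP.obj M ◁ DCoh.toP.map g)
  have h2 := theta_whiskerLeft x (DCoh.toP.obj M) (DCoh.toP.map g)
  exact ((Category.assoc _ _ _).symm.trans ((congrArg (· ≫ theta x _ _) h1).trans
    ((Category.assoc _ _ _).trans ((congrArg (_ ≫ ·) h2).trans (Category.assoc _ _ _).symm))))

end Groth.Agent.Lib.Helper12.Sky
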