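import Groth.Agent.Lib.Helper12.SkyK3
import Mathlib.AlgebraicGeometry.Modules.Tilde

set_option autoImplicit false
universe u
open CategoryTheory CategoryTheory.Limits AlgebraicGeometry TopologicalSpace Opposite MonoidalCategory

namespace Groth.Agent.Lib.Helper12.Sky

open Groth.Agent.Lib.Helper12.StalkExact

variable (R : CommRingCat.{u}) (x : Spec (.of R))

noncomputable def phi : R →+* (Spec (.of R)).presheaf.stalk x :=
  ((Scheme.ΓSpecIso R).inv ≫ (Spec (.of R)).presheaf.germ ⊤ x (Opens.mem_top x)).hom

noncomputable def skyΓ (P : ModuleCat.{u} ((Spec (.of R)).presheaf.stalk x)) : ModuleCat.{u} R :=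
  (moduleSpecΓFunctor (R := R)).obj (sky x P)

noncomputable def skyΓLin (P : ModuleCat.{u} ((Spec (.of R)).presheaf.stalk x)) :
    (skyΓ R x P) →ₗ[R] ((ModuleCat.restrictScalars (phi R x)).obj P) where
  toFun := fun g => ev (show secs x P ⊤ from g) (Opens.mem_top x)
  map_add' := fun _ _ => rfl
  map_smul' := fun _ _ => rfl

noncomputable def skyΓLinInv (P : ModuleCat.{u} ((Spec (.of R)).presheaf.stalk x)) :
    ((ModuleCat.restrictScalars (phi R x)).obj P) →ₗ[R] (skyΓ R x P) where
  toFun := fun p => (mk fun _ => p : secs x P ⊤)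
  map_add' := fun _ _ => rfl
  map_smul' := fun _ _ => rfl

noncomputable def skyΓObjIso (P : ModuleCat.{u} ((Spec (.of R)).presheaf.stalk x)) :
    (moduleSpecΓFunctor (R := R)).obj (sky x P) ≅ (ModuleCat.restrictScalars (phi R x)).obj P where
  hom := by
    have h := ModuleCat.ofHom (skyΓLin R x P)
    exact h
  inv := by
    have h := ModuleCat.ofHom (skyΓLinInv R x P)
    exact h
  hom_inv_id := by
    ext g
    exact secs_ext (x := x) (P := P) (U := ⊤) (fun _ => rfl)
  inv_hom_id := by
    ext p
    rfl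

noncomputable def skyΓIso :
    skyFunctor x ⋙ moduleSpecΓFunctor (R := R) ≅ ModuleCat.restrictScalars (phi R x) :=
  NatIso.ofComponents (fun P => skyΓObjIso R x P) (by
    intro P Q ψ
    ext g
    rfl)

noncomputable def tildeStalkIso :
    tilde.functor R ⋙ DerSch.stalkFunctor (Spec (.of R)) x ≅ ModuleCat.extendScalars (phi R x) :=
  (conjugateIsoEquiv (ModuleCat.extendRestrictScalarsAdj (phi R x))
    ((tilde.adjunction (R := R)).comp (adj x))).symm (skyΓIso R x).symm

end Groth.Agent.Lib.Helper12.Sky
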