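import Groth.Agent.Lib.Helper12.SkyTilde
import Groth.Agent.Lib.Helper25.KFlatBC

set_option autoImplicit false
universe u
open CategoryTheory CategoryTheory.Limits AlgebraicGeometry TopologicalSpace Opposite MonoidalCategory

namespace Groth.Agent.Lib.Helper12.Sky

open Groth.Agent.Lib.Helper12.StalkExact

theorem dring_isKFlat_of_iso {A : Type u} [CommRing A] {K K' : DRing.Cx A} (e : K ≅ K')
    (h : DRing.IsKFlat A K) : DRing.IsKFlat A K' :=
  fun M hM => acyclic_of_iso (whiskerLeftIso M e) (h M hM)

variable (R : CommRingCat.{u})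

noncomputable def stalkCxTildeIso (x : Spec (.of R)) (K : DRing.Cx R) :
    (stalkCx (Spec (.of R)) x).obj
        (((tilde.functor R).mapHomologicalComplex (ComplexShape.up ℤ)).obj K) ≅
      ((ModuleCat.extendScalars (phi R x)).mapHomologicalComplex (ComplexShape.up ℤ)).obj K :=
  (NatIso.mapHomologicalComplex (tildeStalkIso R x) (ComplexShape.up ℤ)).app K

theorem isKFlat_tilde (K : DRing.Cx R) (hK : DRing.IsKFlat R K) :
    DCoh.IsKFlat (((tilde.functor R).mapHomologicalComplex (ComplexShape.up ℤ)).obj K) := by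
  apply isKFlat_of_stalks
  intro x
  exact dring_isKFlat_of_iso (stalkCxTildeIso R x K).symm
    (Groth.Agent.Lib.Helper25.KFlat.isKFlat_extCx (phi R x) K hK)

end Groth.Agent.Lib.Helper12.Sky
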