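import Groth.Prelude.Def_DerSch
import Groth.Agent.Lib.Helper29.QCohUnit
import Groth.Agent.Lib.Helper15.PseudoCohRes
import Groth.Agent.Lib.Helper84.FlatAmp

set_option autoImplicit false
universe u
open CategoryTheory CategoryTheory.Limits AlgebraicGeometry
attribute [local instance] HasDerivedCategory.standard

namespace Groth.Agent.Lib.Helper12.StalkTor

noncomputable def toDSingleIso {A : Type u} [CommRing A] {C : Type*} [Category C] [Abelian C]
    (G : C ⥤ ModuleCat.{u} A) [G.Additive] (M : C) :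
    DRing.toD ((G.mapHomologicalComplex (ComplexShape.up ℤ)).obj
      ((HomologicalComplex.single C (ComplexShape.up ℤ) 0).obj M)) ≅
      (DerivedCategory.singleFunctor (ModuleCat.{u} A) 0).obj (G.obj M) :=
  DerivedCategory.Q.mapIso ((HomologicalComplex.singleMapHomologicalComplex G
    (ComplexShape.up ℤ) 0).app M) ≪≫
    ((DerivedCategory.singleFunctorIsoCompQ (ModuleCat.{u} A) 0).app (G.obj M)).symm

noncomputable def restrictSelfIso {A B : Type u} [CommRing A] [CommRing B] (φ : A →+* B) :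
    letI := φ.toAlgebra
    (ModuleCat.restrictScalars φ).obj (ModuleCat.of B B) ≅ ModuleCat.of A B :=
  letI := φ.toAlgebra
  LinearEquiv.toModuleIso
    { toFun := fun b => b
      invFun := fun b => b
      map_add' := fun _ _ => rfl
      map_smul' := fun _ _ => rfl
      left_inv := fun _ => rfl
      right_inv := fun _ => rfl }

noncomputable def unitStalkModIso {Y Z : Scheme.{u}} (g : Y ⟶ Z) (y : Y) :
    letI := (g.stalkMap y).hom.toAlgebra
    (DerSch.stalkOver g y).obj (Coh.structureModule Y) ≅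
      ModuleCat.of (Z.presheaf.stalk (g.base y)) (Y.presheaf.stalk y) :=
  (ModuleCat.restrictScalars (g.stalkMap y).hom).mapIso
    (Groth.Agent.Lib.Helper29.QCohLoc.stalkEquiv Y y).symm.toModuleIso ≪≫
    restrictSelfIso (g.stalkMap y).hom

noncomputable def unitStalkIso {Y Z : Scheme.{u}} (g : Y ⟶ Z) (y : Y) :
    letI := (g.stalkMap y).hom.toAlgebra
    DRing.toD ((DerSch.stalkCxOver g y).obj (DerSch.unitCx Y)) ≅
      Dual.inD (Z.presheaf.stalk (g.base y)) (Y.presheaf.stalk y) :=
  toDSingleIso (DerSch.stalkOver g y) (Coh.structureModule Y) ≪≫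
    (DerivedCategory.singleFunctor _ 0).mapIso (unitStalkModIso g y)

theorem stalkMap_comp_hom {X Y Z : Scheme.{u}} (f : X ⟶ Y) (g : Y ⟶ Z) (x : X) :
    ((f ≫ g).stalkMap x).hom = (f.stalkMap x).hom.comp (g.stalkMap (f.base x)).hom := by
  rw [Scheme.Hom.stalkMap_comp]
  rfl

noncomputable def stalkOverCompIso {X Y Z : Scheme.{u}} (f : X ⟶ Y) (g : Y ⟶ Z) (x : X) :
    DerSch.stalkOver f x ⋙ ModuleCat.restrictScalars (g.stalkMap (f.base x)).hom ≅
      DerSch.stalkOver (f ≫ g) x :=
  Functor.associator _ _ _ ≪≫ Functor.isoWhiskerLeft (DerSch.stalkFunctor X x)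
    (ModuleCat.restrictScalarsComp' (g.stalkMap (f.base x)).hom (f.stalkMap x).hom
      ((f ≫ g).stalkMap x).hom (stalkMap_comp_hom f g x)).symm

noncomputable def stalkCxOverCompIso {X Y Z : Scheme.{u}} (f : X ⟶ Y) (g : Y ⟶ Z) (x : X)
    (F : CochainComplex X.Modules ℤ) :
    (DRing.restrictCx (g.stalkMap (f.base x)).hom).obj ((DerSch.stalkCxOver f x).obj F) ≅
      (DerSch.stalkCxOver (f ≫ g) x).obj F :=
  (@Functor.mapHomologicalComplexCompIso _ _ _ _ _ _ _ _ _ _ _ _ _ (stalkOverCompIso f g x)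
    inferInstance inferInstance
    (inferInstance : (DerSch.stalkOver (f ≫ g) x).Additive) (ComplexShape.up ℤ)).app F

end Groth.Agent.Lib.Helper12.StalkTor
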