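import Groth.Prelude.Def_W4c2submetdescSubtr
import Mathlib.AlgebraicGeometry.ValuativeCriterion
import Mathlib.RingTheory.Flat.TorsionFree
import Mathlib.RingTheory.Flat.FaithfullyFlat.Algebra
import Mathlib.RingTheory.Valuation.ValuationRing

set_option autoImplicit false
universe u
open CategoryTheory CategoryTheory.Limits AlgebraicGeometry

namespace Groth.Agent.Lib.Helper12

open IsLocalRing in
lemma exists_valuationRing_of_specializes {X : Scheme.{u}} {x x' : X} (h : x' ⤳ x) :
    ∃ (A : Type u) (_ : CommRing A) (_ : IsDomain A) (_ : ValuationRing A)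
      (g : Spec (CommRingCat.of A) ⟶ X),
      g (closedPoint A) = x ∧ g (⟨⊥, Ideal.isPrime_bot⟩ : PrimeSpectrum A) = x' := by
  let φ : X.presheaf.stalk x ⟶ X.residueField x' := X.presheaf.stalkSpecializes h ≫ X.residue x'
  obtain ⟨A, hA, hA_local⟩ := exists_factor_valuationRing φ.hom
  let ψ : X.presheaf.stalk x ⟶ .of A := CommRingCat.ofHom (φ.hom.codRestrict _ hA)
  refine ⟨A, inferInstance, inferInstance, inferInstance, Spec.map ψ ≫ X.fromSpecStalk x, ?_, ?_⟩
  · simp only [Scheme.Hom.comp_base, TopCat.coe_comp, Function.comp_apply]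
    have : Spec.map ψ (closedPoint A) = closedPoint (X.presheaf.stalk x) :=
      comap_closedPoint (S := A) (φ.hom.codRestrict A.toSubring hA)
    rw [this, X.fromSpecStalk_closedPoint]
  · have w : X.fromSpecResidueField x' =
        Spec.map (CommRingCat.ofHom (algebraMap A (X.residueField x'))) ≫
          Spec.map ψ ≫ X.fromSpecStalk x := by
      rw [Scheme.fromSpecResidueField, ← Scheme.SpecMap_stalkSpecializes_fromSpecStalk h]
      simp_rw [← Spec.map_comp_assoc]
      rfl
    have h1 : Spec.map (CommRingCat.ofHom (algebraMap A (X.residueField x')))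
        (closedPoint (X.residueField x')) = (⟨⊥, Ideal.isPrime_bot⟩ : PrimeSpectrum A) := by
      apply PrimeSpectrum.ext
      ext a
      change algebraMap A (X.residueField x') a ∈ maximalIdeal (X.residueField x') ↔ a ∈ (⊥ : Ideal A)
      simp
    rw [← h1, ← Scheme.Hom.comp_apply, ← w, Scheme.fromSpecResidueField_apply]

lemma comap_surjective_of_valuationRing {V V' : Type u} [CommRing V] [IsDomain V]
    [ValuationRing V] [CommRing V'] [IsDomain V'] [IsLocalRing V'] (β : V →+* V')
    (hinj : Function.Injective β) [hloc : IsLocalHom β] :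
    Function.Surjective (PrimeSpectrum.comap β) := by
  algebraize [β]
  have htf : Module.IsTorsionFree V V' := Module.isTorsionFree_iff_algebraMap_injective.mpr hinj
  have hflat : Module.Flat V V' :=
    Module.Flat.flat_iff_torsion_eq_bot_of_isBezout.mpr
      (Submodule.isTorsionFree_iff_torsion_eq_bot.mp htf)
  have : IsLocalHom (algebraMap V V') := hloc
  have hff : Module.FaithfullyFlat V V' := Module.FaithfullyFlat.of_flat_of_isLocalHom
  exact PrimeSpectrum.comap_surjective_of_faithfullyFlat

open IsLocalRing in
lemma surjective_of_valuationRing {V V' : Type u} [CommRing V] [IsDomain V]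
    [ValuationRing V] [CommRing V'] [IsDomain V'] [ValuationRing V']
    (b : Spec (CommRingCat.of V') ⟶ Spec (CommRingCat.of V))
    (hc : b (closedPoint V') = closedPoint V)
    (hg : b (⟨⊥, Ideal.isPrime_bot⟩ : PrimeSpectrum V') = (⟨⊥, Ideal.isPrime_bot⟩ : PrimeSpectrum V)) :
    Surjective b := by
  obtain ⟨β, rfl⟩ := Spec.map_surjective b
  have hloc : IsLocalHom β.hom := (isLocalHom_iff_comap_closedPoint β.hom).mpr hc
  have hinj : Function.Injective β.hom := by
    rw [RingHom.injective_iff_ker_eq_bot]
    have := congr_arg PrimeSpectrum.asIdeal hg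
    exact this
  exact ⟨comap_surjective_of_valuationRing β.hom hinj⟩

lemma specializes_total_of_valuationRing {V : Type u} [CommRing V] [IsDomain V]
    [ValuationRing V] (p q : PrimeSpectrum V) : p ⤳ q ∨ q ⤳ p := by
  rw [← PrimeSpectrum.le_iff_specializes, ← PrimeSpectrum.le_iff_specializes]
  exact (ValuationRing.le_total_ideal (A := V)).total p.asIdeal q.asIdeal

end Groth.Agent.Lib.Helper12
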