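import Groth.Agent.Lib.Helper12.Subtr
import Mathlib.AlgebraicGeometry.Morphisms.UniversallyOpen
import Mathlib.AlgebraicGeometry.Morphisms.Flat
import Mathlib.AlgebraicGeometry.IdealSheaf.Subscheme
import Mathlib.AlgebraicGeometry.Properties
import Mathlib.AlgebraicGeometry.ResidueField
import Mathlib.AlgebraicGeometry.Stalk
import Mathlib.AlgebraicGeometry.Morphisms.QuasiCompact

set_option autoImplicit false
universe u
open CategoryTheory CategoryTheory.Limits AlgebraicGeometry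

namespace Groth.Agent.Lib.Helper12

lemma isSSubtrusive_of_flat_of_surjective {X Y : Scheme.{u}} (f : X ⟶ Y) [Flat f] [Surjective f] :
    Subtr.IsSSubtrusive f := by
  intro y y' h
  obtain ⟨x, rfl⟩ := f.surjective y
  obtain ⟨x', hx', rfl⟩ := (Flat.generalizingMap f) h
  exact ⟨x, x', hx', rfl, rfl⟩

lemma univSSubtrusive_of_flat_of_surjective {X Y : Scheme.{u}} (f : X ⟶ Y) [Flat f] [Surjective f] :
    Subtr.UnivSSubtrusive f := by
  intro X' Y' i₁ i₂ f' hpb
  have : Flat f' := MorphismProperty.of_isPullback hpb.flip ‹Flat f›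
  have : Surjective f' := MorphismProperty.of_isPullback hpb.flip ‹Surjective f›
  exact isSSubtrusive_of_flat_of_surjective f'

lemma isSSubtrusive_of_comp {X Y Z : Scheme.{u}} (g : Z ⟶ X) (f : X ⟶ Y)
    (h : Subtr.IsSSubtrusive (g ≫ f)) : Subtr.IsSSubtrusive f := by
  intro y y' hy
  obtain ⟨z, z', hz, h1, h2⟩ := h hy
  exact ⟨g z, g z', hz.map g.continuous, by rw [← Scheme.Hom.comp_apply, h1],
    by rw [← Scheme.Hom.comp_apply, h2]⟩

lemma univSSubtrusive_of_comp {X Y Z : Scheme.{u}} (g : Z ⟶ X) (f : X ⟶ Y)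
    (h : Subtr.UnivSSubtrusive (g ≫ f)) : Subtr.UnivSSubtrusive f := by
  intro X' Y' i₁ i₂ f' hpb
  have h1 : IsPullback (pullback.snd g i₁) (pullback.fst g i₁) i₁ g :=
    (IsPullback.of_hasPullback g i₁).flip
  have h2 : IsPullback (pullback.snd g i₁ ≫ f') (pullback.fst g i₁) i₂ (g ≫ f) :=
    h1.paste_horiz hpb
  exact isSSubtrusive_of_comp (pullback.snd g i₁) f' (h _ _ _ h2)

lemma ringHom_flat_of_valuationRing {V S : Type u} [CommRing V] [IsDomain V] [ValuationRing V]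
    [CommRing S] (θ : V →+* S) (h : ∀ a : V, a ≠ 0 → ∀ t : S, θ a * t = 0 → t = 0) :
    θ.Flat := by
  algebraize [θ]
  have htf : Submodule.torsion V S = ⊥ := by
    rw [Submodule.eq_bot_iff]
    intro t ht
    rw [Submodule.mem_torsion_iff] at ht
    obtain ⟨⟨a, ha⟩, hat⟩ := ht
    refine h a (nonZeroDivisors.ne_zero ha) t ?_
    simpa [Algebra.smul_def, RingHom.algebraMap_toAlgebra] using hat
  exact Module.Flat.flat_iff_torsion_eq_bot_of_isBezout.mpr htf

lemma eq_zero_of_res_mul_eq_zero {W : Type u} [CommRing W] [IsDomain W]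
    (O : (Spec (CommRingCat.of W)).Opens) (w : W) (hw : w ≠ 0)
    (t : Γ(Spec (CommRingCat.of W), O))
    (h : (Spec (CommRingCat.of W)).presheaf.map (homOfLE (le_top : O ≤ ⊤)).op
      ((Scheme.ΓSpecIso (CommRingCat.of W)).inv w) * t = 0) : t = 0 := by
  by_cases hO : Nonempty O
  · have hinj := map_injective_of_isIntegral (Spec (CommRingCat.of W)) (homOfLE (le_top : O ≤ ⊤))
    have hinj2 : Function.Injective (Scheme.ΓSpecIso (CommRingCat.of W)).inv.hom :=
      ((ConcreteCategory.isIso_iff_bijective (Scheme.ΓSpecIso (CommRingCat.of W)).inv).mp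
        inferInstance).1
    have hne : (Spec (CommRingCat.of W)).presheaf.map (homOfLE (le_top : O ≤ ⊤)).op
      ((Scheme.ΓSpecIso (CommRingCat.of W)).inv w) ≠ 0 := by
      intro h0
      apply hw
      apply hinj2
      apply hinj
      rw [h0, map_zero, map_zero]
    exact (mul_eq_zero.mp h).resolve_left hne
  · have : O = ⊥ := by
      rw [← TopologicalSpace.Opens.not_nonempty_iff_eq_bot]
      intro ⟨x, hx⟩
      exact hO ⟨⟨x, hx⟩⟩
    subst this
    exact Subsingleton.elim _ _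

lemma flat_imageι_comp {V W : Type u} [CommRing V] [IsDomain V] [ValuationRing V]
    [CommRing W] [IsDomain W] {X : Scheme.{u}} (f : X ⟶ Spec (CommRingCat.of V))
    (g : Spec (CommRingCat.of W) ⟶ X) [QuasiCompact g] (ψ : V →+* W) (hψ : Function.Injective ψ)
    (hg : g ≫ f = Spec.map (CommRingCat.ofHom ψ)) : Flat (g.imageι ≫ f) := by
  have hU : ⨆ (j : X.affineOpens), ((⟨g.imageι ⁻¹ᵁ j.1, j.2.preimage g.imageι⟩ :
      g.image.affineOpens) : g.image.Opens) = ⊤ := by
    have := congr_arg (fun U => g.imageι ⁻¹ᵁ U) (iSup_affineOpens_eq_top X)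
    simpa [Scheme.Hom.preimage_iSup] using this
  refine HasRingHomProperty.of_iSup_eq_top (P := @Flat)
    (fun j : X.affineOpens => ⟨g.imageι ⁻¹ᵁ j.1, j.2.preimage g.imageι⟩) hU ?_
  intro j
  rw [← RingHom.Flat.respectsIso.cancel_left_isIso (Scheme.ΓSpecIso (CommRingCat.of V)).inv,
    ← CommRingCat.hom_comp]
  apply ringHom_flat_of_valuationRing
  intro a ha t hat
  apply g.toImage_app_injective j
  rw [map_zero]
  have key : (Scheme.ΓSpecIso (CommRingCat.of V)).inv ≫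
      (g.imageι ≫ f).appLE ⊤ (g.imageι ⁻¹ᵁ j.1) le_top ≫ g.toImage.app (g.imageι ⁻¹ᵁ j.1) =
      CommRingCat.ofHom ψ ≫ (Scheme.ΓSpecIso (CommRingCat.of W)).inv ≫
        (Spec (CommRingCat.of W)).presheaf.map (homOfLE le_top).op := by
    have aux : ∀ (φ : Spec (CommRingCat.of W) ⟶ Spec (CommRingCat.of V))
        (_ : φ = Spec.map (CommRingCat.ofHom ψ)) (O : (Spec (CommRingCat.of W)).Opens)
        (e : O ≤ φ ⁻¹ᵁ ⊤),
        (Scheme.ΓSpecIso (CommRingCat.of V)).inv ≫ φ.appLE ⊤ O e =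
          CommRingCat.ofHom ψ ≫ (Scheme.ΓSpecIso (CommRingCat.of W)).inv ≫
            (Spec (CommRingCat.of W)).presheaf.map (homOfLE le_top).op := by
      rintro φ rfl O e
      rw [Scheme.Hom.appLE, ← Category.assoc, ← Category.assoc]
      erw [← Scheme.ΓSpecIso_inv_naturality]
      rfl
    have e1 : (g.imageι ≫ f).appLE ⊤ (g.imageι ⁻¹ᵁ j.1) le_top ≫
        g.toImage.app (g.imageι ⁻¹ᵁ j.1) =
        (g.toImage ≫ g.imageι ≫ f).appLE ⊤ (g.toImage ⁻¹ᵁ (g.imageι ⁻¹ᵁ j.1)) le_top := by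
      rw [Scheme.Hom.app_eq_appLE]
      exact Scheme.Hom.appLE_comp_appLE _ _ _ _ _ _ _
    rw [e1]
    exact aux _ (by rw [Scheme.Hom.toImage_imageι_assoc, hg]) _ _
  have h2 := congr_arg (fun φ => φ.hom a) key
  simp only [CommRingCat.hom_comp, RingHom.comp_apply, CommRingCat.hom_ofHom] at h2
  have h3 := congr_arg (g.toImage.app (g.imageι ⁻¹ᵁ j.1)).hom hat
  rw [map_mul, map_zero] at h3
  simp only [CommRingCat.hom_comp, RingHom.comp_apply] at h3
  rw [h2] at h3
  exact eq_zero_of_res_mul_eq_zero _ (ψ a) (by rwa [Ne, map_eq_zero_iff ψ hψ]) _ h3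

open IsLocalRing in
lemma exists_closed_flat_surjective {V : Type u} [CommRing V] [IsDomain V] [ValuationRing V]
    {X : Scheme.{u}} (f : X ⟶ Spec (CommRingCat.of V)) (x x' : X) (hx : x' ⤳ x)
    (h1 : f x = closedPoint V) (h2 : f x' = (⟨⊥, Ideal.isPrime_bot⟩ : PrimeSpectrum V)) :
    ∃ (Z : Scheme.{u}) (i : Z ⟶ X), IsClosedImmersion i ∧ Flat (i ≫ f) ∧ Surjective (i ≫ f) := by
  let g : Spec (CommRingCat.of (X.residueField x')) ⟶ X := X.fromSpecResidueField x'
  have hqc : QuasiCompact g := by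
    constructor
    intro U _ _
    exact (Set.toFinite _).isCompact
  obtain ⟨ψ', hψ'⟩ := Spec.map_surjective (g ≫ f)
  have hψ : Function.Injective ψ'.hom := by
    rw [RingHom.injective_iff_ker_eq_bot]
    have h3 : (g ≫ f) (default : Spec (CommRingCat.of (X.residueField x'))) =
        (⟨⊥, Ideal.isPrime_bot⟩ : PrimeSpectrum V) := by
      rw [Scheme.Hom.comp_apply, Scheme.fromSpecResidueField_apply, h2]
    rw [← hψ'] at h3
    have h4 := congr_arg PrimeSpectrum.asIdeal h3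
    exact h4
  have hflat : Flat (g.imageι ≫ f) := flat_imageι_comp f g ψ'.hom hψ hψ'.symm
  refine ⟨g.image, g.imageι, inferInstance, hflat, ⟨?_⟩⟩
  have hxr : x ∈ Set.range g.imageι := by
    rw [Scheme.IdealSheafData.range_subschemeι, Scheme.Hom.support_ker,
      Scheme.range_fromSpecResidueField]
    exact hx.mem_closure
  obtain ⟨z, hz⟩ := hxr
  intro y
  have hy : y ⤳ (g.imageι ≫ f) z := by
    rw [Scheme.Hom.comp_apply, hz, h1]
    exact specializes_closedPoint y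
  obtain ⟨z', -, hz'⟩ := (Flat.generalizingMap (g.imageι ≫ f)) hy
  exact ⟨z', hz'⟩

lemma exists_generization_mem_basicOpen {X : Scheme.{u}} (a : Γ(X, ⊤)) (x : X)
    (hx : ∀ U : X.Opens, x ∈ U → ∃ u ∈ U, u ∈ X.basicOpen a) :
    ∃ x' : X, x' ⤳ x ∧ x' ∈ X.basicOpen a := by
  by_contra! H
  have h0 : (X.fromSpecStalk x) ⁻¹ᵁ X.basicOpen a = ⊥ := by
    ext P
    simp only [Scheme.Hom.coe_preimage, Set.mem_preimage, SetLike.mem_coe,
      TopologicalSpace.Opens.coe_bot, Set.mem_empty_iff_false, iff_false]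
    intro hP
    have h1 : (X.fromSpecStalk x) P ∈ Set.range (X.fromSpecStalk x) := ⟨P, rfl⟩
    rw [Scheme.range_fromSpecStalk] at h1
    exact H _ h1 hP
  rw [Scheme.preimage_basicOpen_top, ← Scheme.isNilpotent_iff_basicOpen_eq_bot] at h0
  obtain ⟨n, hn⟩ := h0
  rw [← map_pow, Scheme.fromSpecStalk_appTop] at hn
  have key : ∀ (R : CommRingCat.{u}) (φ : X.presheaf.stalk x ⟶ R) [IsIso φ],
      (X.presheaf.germ ⊤ x trivial ≫ φ) (a ^ n) = 0 →
        X.presheaf.germ ⊤ x trivial (a ^ n) = 0 := by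
    intro R φ hφ h
    have hinj : Function.Injective φ.hom :=
      ((ConcreteCategory.isIso_iff_bijective φ).mp hφ).1
    apply hinj
    rw [map_zero]
    simpa using h
  have hI : IsIso (homOfLE (le_top : (X.fromSpecStalk x) ⁻¹ᵁ ⊤ ≤ ⊤)) :=
    ⟨⟨homOfLE (by simp), Subsingleton.elim _ _, Subsingleton.elim _ _⟩⟩
  have hg : X.presheaf.germ ⊤ x trivial (a ^ (n + 1)) = X.presheaf.germ ⊤ x trivial 0 := by
    have hI2 : IsIso ((Spec (X.presheaf.stalk x)).presheaf.map
        (homOfLE (le_top : (X.fromSpecStalk x) ⁻¹ᵁ ⊤ ≤ ⊤)).op) := inferInstance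
    have hI3 : IsIso ((Scheme.ΓSpecIso (X.presheaf.stalk x)).inv ≫
        (Spec (X.presheaf.stalk x)).presheaf.map
        (homOfLE (le_top : (X.fromSpecStalk x) ⁻¹ᵁ ⊤ ≤ ⊤)).op) := inferInstance
    rw [map_zero, pow_succ, map_mul, @key _ _ hI3 hn, zero_mul]
  obtain ⟨W, hxW, iU, iV, hW⟩ := TopCat.Presheaf.germ_eq _ _ _ _ _ _ hg
  obtain ⟨u, huW, hu⟩ := hx W hxW
  have h2 : X.basicOpen (X.presheaf.map iU.op (a ^ (n + 1))) = ⊥ := by
    rw [hW, map_zero, Scheme.basicOpen_zero]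
  rw [Scheme.basicOpen_res, X.basicOpen_pow a (Nat.succ_pos n)] at h2
  have : u ∈ W ⊓ X.basicOpen a := ⟨huW, hu⟩
  rw [h2] at this
  exact this

lemma univSSubtrusive_of_surjective_of_isDomain {V W : Type u} [CommRing V] [IsDomain V]
    [ValuationRing V] [CommRing W] [IsDomain W] {X : Scheme.{u}}
    (f : X ⟶ Spec (CommRingCat.of V)) (g : Spec (CommRingCat.of W) ⟶ X)
    (hs : Surjective (g ≫ f)) : Subtr.UnivSSubtrusive f := by
  apply univSSubtrusive_of_comp g f
  obtain ⟨ψ', hψ'⟩ := Spec.map_surjective (g ≫ f)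
  have hinj : Function.Injective ψ'.hom := by
    obtain ⟨w, hw⟩ := hs.surj (⟨⊥, Ideal.isPrime_bot⟩ : PrimeSpectrum V)
    rw [← hψ'] at hw
    have h4 : Ideal.comap ψ'.hom w.asIdeal = ⊥ := congr_arg PrimeSpectrum.asIdeal hw
    rw [RingHom.injective_iff_ker_eq_bot, eq_bot_iff, ← h4]
    exact Ideal.comap_mono bot_le
  have : Flat (g ≫ f) := by
    rw [← hψ', Flat.SpecMap_iff]
    apply ringHom_flat_of_valuationRing
    intro a ha t hat
    exact (mul_eq_zero.mp hat).resolve_left (by rw [map_eq_zero_iff _ hinj]; exact ha)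
  exact univSSubtrusive_of_flat_of_surjective (g ≫ f)

lemma exists_specializes_of_mem_closure_generic_fibre {V : Type u} [CommRing V] [IsDomain V]
    {X : Scheme.{u}} (f : X ⟶ Spec (CommRingCat.of V)) (x : X)
    (hx : x ∈ closure (f ⁻¹' {(⟨⊥, Ideal.isPrime_bot⟩ : PrimeSpectrum V)})) :
    ∃ x' : X, x' ⤳ x ∧ f x' = (⟨⊥, Ideal.isPrime_bot⟩ : PrimeSpectrum V) := by
  obtain ⟨ψ', hψ'⟩ := Spec.map_surjective (X.fromSpecStalk x ≫ f)
  have hne : ∀ a : V, a ≠ 0 → ψ'.hom a ≠ 0 := by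
    intro a ha h0
    have hmem : ∀ q : Spec (CommRingCat.of V),
        q ∈ (Spec (CommRingCat.of V)).basicOpen ((Scheme.ΓSpecIso (CommRingCat.of V)).inv a) ↔
          a ∉ q.asIdeal := by
      intro q
      rw [basicOpen_eq_of_affine]
      rfl
    have hb : X.basicOpen (f.appTop ((Scheme.ΓSpecIso (CommRingCat.of V)).inv a)) =
        f ⁻¹ᵁ ((Spec (CommRingCat.of V)).basicOpen
          ((Scheme.ΓSpecIso (CommRingCat.of V)).inv a)) :=
      (Scheme.preimage_basicOpen_top f _).symm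
    obtain ⟨x'', hx'', hx''a⟩ := exists_generization_mem_basicOpen
      (f.appTop ((Scheme.ΓSpecIso (CommRingCat.of V)).inv a)) x (by
        intro U hxU
        rw [mem_closure_iff] at hx
        obtain ⟨u, huU, hu⟩ := hx U.1 U.2 hxU
        refine ⟨u, huU, ?_⟩
        rw [hb]
        change f u ∈ (Spec (CommRingCat.of V)).basicOpen _
        have hu' : f u = (⟨⊥, Ideal.isPrime_bot⟩ : PrimeSpectrum V) := hu
        rw [hmem, hu']
        change a ∉ (⊥ : Ideal V)
        simpa using ha)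
    have hr : x'' ∈ Set.range (X.fromSpecStalk x) := by
      rw [Scheme.range_fromSpecStalk]
      exact hx''
    obtain ⟨P, rfl⟩ := hr
    rw [hb] at hx''a
    change (X.fromSpecStalk x ≫ f) P ∈ (Spec (CommRingCat.of V)).basicOpen _ at hx''a
    rw [hmem, ← hψ'] at hx''a
    change ψ'.hom a ∉ P.asIdeal at hx''a
    rw [h0] at hx''a
    exact hx''a (Ideal.zero_mem _)
  have hdisj : Disjoint ((⊥ : Ideal (X.presheaf.stalk x)) : Set (X.presheaf.stalk x))
      ((nonZeroDivisors V).map ψ'.hom : Submonoid (X.presheaf.stalk x)) := by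
    rw [Set.disjoint_left]
    rintro _ h0 ⟨a, ha, rfl⟩
    exact hne a (nonZeroDivisors.ne_zero ha) (by simpa using h0)
  obtain ⟨p, hp, -, hpS⟩ := Ideal.exists_le_prime_disjoint _ _ hdisj
  obtain ⟨P, hP⟩ : ∃ P : Spec (X.presheaf.stalk x), P.asIdeal = p :=
    ⟨(⟨p, hp⟩ : PrimeSpectrum (X.presheaf.stalk x)), rfl⟩
  refine ⟨X.fromSpecStalk x P, ?_, ?_⟩
  · have : X.fromSpecStalk x P ∈ Set.range (X.fromSpecStalk x) := ⟨_, rfl⟩
    rwa [Scheme.range_fromSpecStalk] at this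
  · rw [← Scheme.Hom.comp_apply, ← hψ']
    apply PrimeSpectrum.ext
    change Ideal.comap ψ'.hom P.asIdeal = ⊥
    rw [hP, eq_bot_iff]
    intro a ha
    by_contra ha0
    rw [Set.disjoint_left] at hpS
    exact hpS ha ⟨a, mem_nonZeroDivisors_of_ne_zero ha0, rfl⟩

end Groth.Agent.Lib.Helper12
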