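import Groth.Agent.Lib.Helper12.SuppZ
import Groth.Agent.Lib.Helper12.GlueD3
import Groth.Agent.Lib.Helper12.AdjLR2
import Groth.Agent.Lib.Helper2.LpullStalk

set_option autoImplicit false
universe u
open CategoryTheory CategoryTheory.Limits AlgebraicGeometry Pretriangulated

attribute [local instance] HasDerivedCategory.standard

namespace Groth.Agent.Lib.Helper12.SuppRj

open Groth.Agent.Lib.Helper12

variable {X : Scheme.{u}}

theorem subsingleton_stalk_of_iso {M N : X.Modules} (e : M ≅ N) (x : X) :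
    Subsingleton (M.presheaf.stalk x) ↔ Subsingleton (N.presheaf.stalk x) := by
  have e' := (DerSch.stalkFunctor X x).mapIso e
  constructor
  · intro h
    have h' : Subsingleton ((DerSch.stalkFunctor X x).obj M) := h
    exact (e'.symm.toLinearEquiv.toEquiv).subsingleton
  · intro h
    have h' : Subsingleton ((DerSch.stalkFunctor X x).obj N) := h
    exact (e'.toLinearEquiv.toEquiv).subsingleton

theorem support_of_iso {M N : X.Modules} (e : M ≅ N) : CohB1.support M = CohB1.support N := by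
  ext x
  simp only [CohB1.support, Set.mem_ofPred_eq]
  rw [subsingleton_stalk_of_iso e x]

theorem mem_support_restrict {U : Scheme.{u}} (j : U ⟶ X) [IsOpenImmersion j] (M : X.Modules)
    (x : U) : x ∈ CohB1.support ((Scheme.Modules.restrictFunctor j).obj M) ↔
      j x ∈ CohB1.support M := by
  simp only [CohB1.support, Set.mem_ofPred_eq]
  rw [SuppZ.subsingleton_stalk_restrict]

theorem mem_support_HD_restrictD {U : Scheme.{u}} (j : U ⟶ X) [IsOpenImmersion j] (E : DCoh.D X)
    (i : ℤ) (x : U) : x ∈ CohB1.support (DCoh.HD ((DCoh.restrictD j).obj E) i) ↔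
      j x ∈ CohB1.support (DCoh.HD E i) := by
  rw [support_of_iso (Groth.Agent.Lib.Helper62.SerreLoc.mapDerivedCategoryHomologyIso
    (Scheme.Modules.restrictFunctor j) E i), mem_support_restrict]

theorem isZero_of_cover (K : DCoh.D X) (U V : X.Opens) (hUV : ∀ x : X, x ∈ U ∨ x ∈ V)
    (hU : IsZero ((DCoh.restrictD U.ι).obj K)) (hV : IsZero ((DCoh.restrictD V.ι).obj K)) :
    IsZero K := by
  apply Groth.Agent.Lib.Helper62.SerreLoc.isZero_of_homology
  intro i
  apply SuppZ.isZero_of_stalks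
  intro x
  have key : ∀ (W : X.Opens), IsZero ((DCoh.restrictD W.ι).obj K) → x ∈ W →
      x ∉ CohB1.support (DCoh.HD K i) := by
    intro W hW hx
    refine SuppZ.not_mem_support_of_isZero_restrict _ W ?_ x hx
    exact ((DerivedCategory.homologyFunctor _ i).map_isZero hW).of_iso
      (Groth.Agent.Lib.Helper62.SerreLoc.mapDerivedCategoryHomologyIso
        (Scheme.Modules.restrictFunctor W.ι) K i).symm
  have hx : x ∉ CohB1.support (DCoh.HD K i) := by
    rcases hUV x with h | h
    · exact key U hU h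
    · exact key V hV h
  simpa [CohB1.support] using hx

theorem isZero_of_dist_of_isZero₁₂ {C : Type*} [Category C] [Preadditive C] [HasZeroObject C]
    [HasShift C ℤ] [∀ n : ℤ, (shiftFunctor C n).Additive] [Pretriangulated C]
    (T : Triangle C) (hT : T ∈ distTriang C) (h1 : IsZero T.obj₁) (h2 : IsZero T.obj₂) :
    IsZero T.obj₃ := by
  rw [Triangle.isZero₃_iff_isIso₁ T hT]
  exact ⟨⟨0, h1.eq_of_src _ _, h2.eq_of_src _ _⟩⟩

theorem nonempty_iso_Rpush_restrictD (U : X.Opens) [DCoh.HasRpush U.ι] (T : Set X)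
    (hT : IsClosed T) (hTU : T ⊆ (U : Set X)) (E : DCoh.D X)
    (hE : ∀ i : ℤ, CohB1.support (DCoh.HD E i) ⊆ T) :
    Nonempty (E ≅ (DCoh.Rpush U.ι).obj ((DCoh.restrictD U.ι).obj E)) := by
  obtain ⟨adj, hadj⟩ := GlueD.exists_adjD U.ι
  obtain ⟨K, g, h, hTri⟩ := distinguished_cocone_triangle (adj.unit.app E)
  have hKU : IsZero ((DCoh.restrictD U.ι).obj K) := by
    have hT' := (DCoh.restrictD U.ι).map_distinguished _ hTri
    have hiso : IsIso ((DCoh.restrictD U.ι).map (adj.unit.app E)) := GlueD.isIso_map_unit adj E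
    exact (Triangle.isZero₃_iff_isIso₁ _ hT').2 hiso
  let V : X.Opens := ⟨Tᶜ, hT.isOpen_compl⟩
  have hEV : IsZero ((DCoh.restrictD V.ι).obj E) :=
    SuppZ.isZero_restrictD_of_support E V (fun i x hx hx' => hx (hE i hx'))
  have hRV : IsZero ((DCoh.restrictD V.ι).obj
      ((DCoh.Rpush U.ι).obj ((DCoh.restrictD U.ι).obj E))) := by
    have hRp : DCoh.HasRpush (U.ι ∣_ V) := WKI.hasRpush _
    have hLp : DCoh.HasLpull (U.ι ∣_ V) := Groth.Agent.Lib.Helper2.Lpull.hasLpull _
    obtain ⟨e⟩ := RDerSch.nonempty_Rpush_restrictD_iso U.ι V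
    have h0 : IsZero ((DCoh.restrictD (U.ι ⁻¹ᵁ V).ι).obj ((DCoh.restrictD U.ι).obj E)) := by
      apply SuppZ.isZero_restrictD_of_support
      intro i x hx hx'
      rw [mem_support_HD_restrictD] at hx'
      exact hx (hE i hx')
    have hra : (DCoh.Rpush (U.ι ∣_ V)).IsRightAdjoint :=
      (AdjLR.adjLR (U.ι ∣_ V)).isRightAdjoint
    exact (Functor.map_isZero (DCoh.Rpush (U.ι ∣_ V)) h0).of_iso (e.app _)
  have hKV : IsZero ((DCoh.restrictD V.ι).obj K) := by
    have hT' := (DCoh.restrictD V.ι).map_distinguished _ hTri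
    exact isZero_of_dist_of_isZero₁₂ _ hT' hEV hRV
  have hK : IsZero K := by
    refine isZero_of_cover K U V ?_ hKU hKV
    intro x
    by_cases hx : x ∈ T
    · exact Or.inl (hTU hx)
    · exact Or.inr hx
  have hiso : IsIso (adj.unit.app E) := (Triangle.isZero₃_iff_isIso₁ _ hTri).1 hK
  exact ⟨asIso (adj.unit.app E)⟩

end Groth.Agent.Lib.Helper12.SuppRj
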