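import Groth.Agent.Lib.Helper12.SuppRj
import Groth.Agent.Lib.Helper12.Sky4
import Groth.Agent.Lib.Helper15.ExactFunctorD
import Mathlib.CategoryTheory.Adjunction.Triple

set_option autoImplicit false
universe u
open CategoryTheory CategoryTheory.Limits AlgebraicGeometry Pretriangulated

attribute [local instance] HasDerivedCategory.standard

namespace Groth.Agent.Lib.Helper12.SuppRj

open Groth.Agent.Lib.Helper12

variable {U X : Scheme.{u}} (j : U ⟶ X) [IsOpenImmersion j]

theorem isZero_restrict_sky (x : X) (hx : x ∉ Set.range j)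
    (P : ModuleCat.{u} (X.presheaf.stalk x)) :
    IsZero ((Scheme.Modules.restrictFunctor j).obj (Sky.sky x P)) := by
  rw [IsZero.iff_id_eq_zero]
  apply Sky.hom_ext_sec
  intro W s
  have hW : ¬ (x ∈ j ''ᵁ W) := by
    rintro ⟨y, _, rfl⟩
    exact hx ⟨y, rfl⟩
  have hs : Subsingleton (Sky.secs x P (j ''ᵁ W)) := by
    constructor
    intro a b
    funext h
    exact (hW h.down).elim
  exact @Subsingleton.elim _ hs _ _

theorem subsingleton_stalk_extZero_of_not_mem (M : U.Modules) (x : X) (hx : x ∉ Set.range j) :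
    Subsingleton (((CxOX.extZero j).obj M).presheaf.stalk x) := by
  have hz : IsZero ((DerSch.stalkFunctor X x).obj ((CxOX.extZero j).obj M)) := by
    rw [IsZero.iff_id_eq_zero]
    apply ((Sky.adj x).homEquiv _ _).injective
    apply ((CxOX.extZeroAdj j).homEquiv _ _).injective
    exact (isZero_restrict_sky j x hx _).eq_of_tgt _ _
  exact ModuleCat.subsingleton_of_isZero hz

instance isIso_extZeroAdj_unit : IsIso (CxOX.extZeroAdj j).unit :=
  (Adjunction.Triple.isIso_unit_iff_isIso_counit
    (⟨CxOX.extZeroAdj j, Scheme.Modules.restrictAdjunction j⟩ :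
      Adjunction.Triple (CxOX.extZero j) (Scheme.Modules.restrictFunctor j)
        (Scheme.Modules.pushforward j))).2 inferInstance

theorem support_extZero_subset (M : U.Modules) :
    CohB1.support ((CxOX.extZero j).obj M) ⊆ (fun x : U => j.base x) '' CohB1.support M := by
  intro x hx
  by_cases hxr : x ∈ Set.range j
  · obtain ⟨x', rfl⟩ := hxr
    refine ⟨x', ?_, rfl⟩
    simp only [CohB1.support, Set.mem_ofPred_eq] at hx ⊢
    have h1 : Subsingleton (M.presheaf.stalk x') ↔
        Subsingleton (((Scheme.Modules.restrictFunctor j).obj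
          ((CxOX.extZero j).obj M)).presheaf.stalk x') :=
      subsingleton_stalk_of_iso (asIso ((CxOX.extZeroAdj j).unit.app M)) x'
    have h2 := SuppZ.subsingleton_stalk_restrict j ((CxOX.extZero j).obj M) x'
    intro h
    exact hx (h2.1 (h1.1 h))
  · exfalso
    have := subsingleton_stalk_extZero_of_not_mem j M x hxr
    simp only [CohB1.support, Set.mem_ofPred_eq] at hx
    exact hx this

noncomputable def extZeroDRestrictDIso [PreservesFiniteLimits (CxOX.extZero j)] :
    CxOX.extZeroD j ⋙ DCoh.restrictD j ≅ 𝟭 (DCoh.D U) :=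
  (Groth.Agent.Lib.Helper15.ExactFunctorD.mapDerivedCategoryComp (CxOX.extZero j)
    (Scheme.Modules.restrictFunctor j)).symm ≪≫
    Groth.Agent.Lib.Helper15.ExactFunctorD.mapDerivedCategoryIso
      (asIso (CxOX.extZeroAdj j).unit).symm ≪≫
    Groth.Agent.Lib.Helper15.ExactFunctorD.mapDerivedCategoryId

theorem support_HD_extZeroD_subset [PreservesFiniteLimits (CxOX.extZero j)] (F : DCoh.D U)
    (i : ℤ) : CohB1.support (DCoh.HD ((CxOX.extZeroD j).obj F) i) ⊆
      (fun x : U => j.base x) '' CohB1.support (DCoh.HD F i) := by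
  rw [support_of_iso (Groth.Agent.Lib.Helper62.SerreLoc.mapDerivedCategoryHomologyIso
    (CxOX.extZero j) F i)]
  exact support_extZero_subset j _

theorem nonempty_extZeroD_iso_Rpush {X : Scheme.{u}} (U : X.Opens) [DCoh.HasRpush U.ι]
    [PreservesFiniteLimits (CxOX.extZero U.ι)] (T : Set X) (hT : IsClosed T)
    (hTU : T ⊆ (U : Set X)) (F : DCoh.D (U : Scheme.{u}))
    (hF : ∀ i : ℤ, (fun x : (U : Scheme.{u}) => U.ι.base x) '' CohB1.support (DCoh.HD F i) ⊆ T) :
    Nonempty ((CxOX.extZeroD U.ι).obj F ≅ (DCoh.Rpush U.ι).obj F) := by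
  obtain ⟨e⟩ := nonempty_iso_Rpush_restrictD U T hT hTU ((CxOX.extZeroD U.ι).obj F)
    (fun i => (support_HD_extZeroD_subset U.ι F i).trans (hF i))
  exact ⟨e ≪≫ (DCoh.Rpush U.ι).mapIso ((extZeroDRestrictDIso U.ι).app F)⟩

end Groth.Agent.Lib.Helper12.SuppRj
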