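import Groth.Agent.Lib.Helper12.SuppRj2
import Groth.Agent.Lib.Helper12.MVSch

set_option autoImplicit false
universe u
open CategoryTheory CategoryTheory.Limits AlgebraicGeometry Pretriangulated

attribute [local instance] HasDerivedCategory.standard

namespace Groth.Agent.Lib.Helper12.SuppRj

open Groth.Agent.Lib.Helper12

variable {U X : Scheme.{u}} (j : U ⟶ X) [IsOpenImmersion j]

theorem isIso_counit_of_adj [DCoh.HasRpush j] (adj : DCoh.restrictD j ⊣ DCoh.Rpush j) :
    IsIso adj.counit := by
  obtain ⟨adj₀, h₀⟩ := GlueD.exists_adjD j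
  have ff := adj₀.fullyFaithfulROfIsIsoCounit
  have := ff.full
  have := ff.faithful
  infer_instance

theorem not_mem_support_of_isZero_restrictD (K : DCoh.D X) (W : X.Opens)
    (hW : IsZero ((DCoh.restrictD W.ι).obj K)) (i : ℤ) (x : X) (hx : x ∈ W) :
    x ∉ CohB1.support (DCoh.HD K i) := by
  refine SuppZ.not_mem_support_of_isZero_restrict _ W ?_ x hx
  exact ((DerivedCategory.homologyFunctor _ i).map_isZero hW).of_iso
    (Groth.Agent.Lib.Helper62.SerreLoc.mapDerivedCategoryHomologyIso
      (Scheme.Modules.restrictFunctor W.ι) K i).symm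

theorem not_mem_support_of_isZero_restrictD' (K : DCoh.D X)
    (hK : IsZero ((DCoh.restrictD j).obj K)) (i : ℤ) (x : U) :
    j x ∉ CohB1.support (DCoh.HD K i) := by
  rw [← mem_support_HD_restrictD]
  have h0 : IsZero (DCoh.HD ((DCoh.restrictD j).obj K) i) :=
    (DerivedCategory.homologyFunctor _ i).map_isZero hK
  have h1 : Subsingleton ((DerSch.stalkFunctor U x).obj (DCoh.HD ((DCoh.restrictD j).obj K) i)) :=
    ModuleCat.subsingleton_of_isZero (Functor.map_isZero _ h0)
  have h2 : Subsingleton ((DCoh.HD ((DCoh.restrictD j).obj K) i).presheaf.stalk x) := h1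
  simpa [CohB1.support] using h2

theorem isIso_unit_of_support [DCoh.HasRpush j] (adj : DCoh.restrictD j ⊣ DCoh.Rpush j)
    (T : Set X) (hT : IsClosed T) (hTU : T ⊆ Set.range j.base) (E : DCoh.D X)
    (hE : ∀ i : ℤ, CohB1.support (DCoh.HD E i) ⊆ T) : IsIso (adj.unit.app E) := by
  have hadj := isIso_counit_of_adj j adj
  obtain ⟨K, g, h, hTri⟩ := distinguished_cocone_triangle (adj.unit.app E)
  have hKU : IsZero ((DCoh.restrictD j).obj K) := by
    have hT' := (DCoh.restrictD j).map_distinguished _ hTri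
    have hiso : IsIso ((DCoh.restrictD j).map (adj.unit.app E)) := GlueD.isIso_map_unit adj E
    exact (Triangle.isZero₃_iff_isIso₁ _ hT').2 hiso
  let V : X.Opens := ⟨Tᶜ, hT.isOpen_compl⟩
  have hEV : IsZero ((DCoh.restrictD V.ι).obj E) :=
    SuppZ.isZero_restrictD_of_support E V (fun i x hx hx' => hx (hE i hx'))
  have hRV : IsZero ((DCoh.restrictD V.ι).obj
      ((DCoh.Rpush j).obj ((DCoh.restrictD j).obj E))) := by
    have hRp : DCoh.HasRpush (j ∣_ V) := WKI.hasRpush _
    have hLp : DCoh.HasLpull (j ∣_ V) := Groth.Agent.Lib.Helper2.Lpull.hasLpull _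
    obtain ⟨e⟩ := RDerSch.nonempty_Rpush_restrictD_iso j V
    have h0 : IsZero ((DCoh.restrictD (j ⁻¹ᵁ V).ι).obj ((DCoh.restrictD j).obj E)) := by
      apply SuppZ.isZero_restrictD_of_support
      intro i x hx hx'
      rw [mem_support_HD_restrictD] at hx'
      exact hx (hE i hx')
    have hra : (DCoh.Rpush (j ∣_ V)).IsRightAdjoint :=
      (AdjLR.adjLR (j ∣_ V)).isRightAdjoint
    exact (Functor.map_isZero (DCoh.Rpush (j ∣_ V)) h0).of_iso (e.app _)
  have hKV : IsZero ((DCoh.restrictD V.ι).obj K) := by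
    have hT' := (DCoh.restrictD V.ι).map_distinguished _ hTri
    exact isZero_of_dist_of_isZero₁₂ _ hT' hEV hRV
  have hK : IsZero K := by
    apply Groth.Agent.Lib.Helper62.SerreLoc.isZero_of_homology
    intro i
    apply SuppZ.isZero_of_stalks
    intro x
    have hx : x ∉ CohB1.support (DCoh.HD K i) := by
      by_cases hxr : x ∈ Set.range j.base
      · obtain ⟨x', rfl⟩ := hxr
        exact not_mem_support_of_isZero_restrictD' j K hKU i x'
      · exact not_mem_support_of_isZero_restrictD K V hKV i x (fun hxT => hxr (hTU hxT))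
    simpa [CohB1.support] using hx
  exact (Triangle.isZero₃_iff_isIso₁ _ hTri).1 hK

theorem isZero_restrict_gammaZ (M : X.Modules) :
    IsZero ((Scheme.Modules.restrictFunctor j).obj ((DCoh.gammaZ j).obj M)) := by
  have hiso : IsIso ((Scheme.Modules.restrictFunctor j).map
      ((Scheme.Modules.restrictAdjunction j).unit.app M)) :=
    GlueD.isIso_map_unit (Scheme.Modules.restrictAdjunction j) M
  exact (isZero_kernel_of_mono _).of_iso
    (PreservesKernel.iso (Scheme.Modules.restrictFunctor j)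
      ((Scheme.Modules.restrictAdjunction j).unit.app M))

noncomputable def gammaZKhObjIso (J : CochainComplex X.Modules ℤ) :
    (CxOX.gammaZKh j).obj ((HomotopyCategory.quotient X.Modules (ComplexShape.up ℤ)).obj J) ≅
      DerivedCategory.Q.obj
        (((DCoh.gammaZ j).mapHomologicalComplex (ComplexShape.up ℤ)).obj J) :=
  DerivedCategory.Qh.mapIso
      (((DCoh.gammaZ j).mapHomotopyCategoryFactors (ComplexShape.up ℤ)).app J) ≪≫
    (DerivedCategory.quotientCompQhIso X.Modules).app _

noncomputable def RgammaZQIso [CxOX.HasRgammaZ j]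
    (J : CochainComplex X.Modules ℤ) [J.IsKInjective] :
    (CxOX.RgammaZ j).obj (DerivedCategory.Q.obj J) ≅
      DerivedCategory.Q.obj
        (((DCoh.gammaZ j).mapHomologicalComplex (ComplexShape.up ℤ)).obj J) :=
  MVSch.rightDerivedQIso (CxOX.gammaZKh j) (CxOX.RgammaZ j)
    ((CxOX.gammaZKh j).totalRightDerivedUnit DerivedCategory.Qh
      (HomotopyCategory.quasiIso X.Modules (ComplexShape.up ℤ))) J ≪≫ gammaZKhObjIso j J

theorem isZero_restrictD_RgammaZ [CxOX.HasRgammaZ j] (G : DCoh.D X) :
    IsZero ((DCoh.restrictD j).obj ((CxOX.RgammaZ j).obj G)) := by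
  obtain ⟨I, hI, -, ⟨e⟩⟩ := MVSch.exists_extProp_model G
  have hz : IsZero (((Scheme.Modules.restrictFunctor j).mapHomologicalComplex (ComplexShape.up ℤ)).obj
      (((DCoh.gammaZ j).mapHomologicalComplex (ComplexShape.up ℤ)).obj I)) := by
    rw [IsZero.iff_id_eq_zero]
    ext i : 1
    exact (isZero_restrict_gammaZ j (I.X i)).eq_of_src _ _
  refine (DerivedCategory.Q.map_isZero hz).of_iso ?_
  exact (DCoh.restrictD j).mapIso ((CxOX.RgammaZ j).mapIso e ≪≫ RgammaZQIso j I) ≪≫
    (Scheme.Modules.restrictFunctor j).mapDerivedCategoryFactors.app _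

end Groth.Agent.Lib.Helper12.SuppRj
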