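import Groth.Agent.Lib.Helper12.StalkExact
import Groth.Agent.Lib.Helper62.SerreLoc
import Groth.Prelude.Def_CxOX
import Groth.Prelude.Def_CohB1

set_option autoImplicit false
universe u
open CategoryTheory CategoryTheory.Limits AlgebraicGeometry

attribute [local instance] HasDerivedCategory.standard

namespace Groth.Agent.Lib.Helper12.SuppZ

variable {X : Scheme.{u}}

theorem isZero_of_stalks (N : X.Modules) (h : ∀ x : X, Subsingleton (N.presheaf.stalk x)) :
    IsZero N := by
  let S : ShortComplex X.Modules := ShortComplex.mk (0 : N ⟶ N) (0 : N ⟶ N) zero_comp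
  have hS : S.Exact := by
    rw [Groth.Agent.Lib.Helper12.StalkExact.exact_iff_stalk]
    intro x
    apply ShortComplex.exact_of_isZero_X₂
    have : Subsingleton ((S.map (DerSch.stalkFunctor X x)).X₂) := h x
    exact ModuleCat.isZero_of_subsingleton _
  exact hS.isZero_of_both_zeros rfl rfl

theorem subsingleton_stalk_restrict {U : Scheme.{u}} (j : U ⟶ X) [IsOpenImmersion j]
    (M : X.Modules) (x : U) :
    Subsingleton (((Scheme.Modules.restrictFunctor j).obj M).presheaf.stalk x) ↔
      Subsingleton (M.presheaf.stalk (j x)) := by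
  have e := (Scheme.Modules.restrictStalkNatIso j x).app M
  constructor
  · intro h
    have h' : Subsingleton ↑((Scheme.Modules.restrictFunctor j ⋙ Scheme.Modules.toPresheaf U ⋙
      TopCat.Presheaf.stalkFunctor Ab.{u} x).obj M) := h
    exact (e.symm.addCommGroupIsoToAddEquiv.toEquiv).subsingleton
  · intro h
    have h' : Subsingleton ↑((Scheme.Modules.toPresheaf X ⋙
      TopCat.Presheaf.stalkFunctor Ab.{u} (j x)).obj M) := h
    exact (e.addCommGroupIsoToAddEquiv.toEquiv).subsingleton


theorem isZero_restrict_of_support (M : X.Modules) (W : X.Opens)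
    (h : ∀ x ∈ W, x ∉ CohB1.support M) :
    IsZero ((Scheme.Modules.restrictFunctor W.ι).obj M) := by
  apply isZero_of_stalks
  intro x
  rw [subsingleton_stalk_restrict]
  have := h (W.ι x) x.2
  simpa [CohB1.support] using this

theorem isZero_restrictD_of_support (E : DCoh.D X) (W : X.Opens)
    (h : ∀ (i : ℤ), ∀ x ∈ W, x ∉ CohB1.support (DCoh.HD E i)) :
    IsZero ((DCoh.restrictD W.ι).obj E) := by
  apply Groth.Agent.Lib.Helper62.SerreLoc.isZero_of_homology
  intro i
  exact (isZero_restrict_of_support (DCoh.HD E i) W (h i)).of_iso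
    (Groth.Agent.Lib.Helper62.SerreLoc.mapDerivedCategoryHomologyIso
      (Scheme.Modules.restrictFunctor W.ι) E i)

theorem not_mem_support_of_isZero_restrict (M : X.Modules) (W : X.Opens)
    (h : IsZero ((Scheme.Modules.restrictFunctor W.ι).obj M)) (x : X) (hx : x ∈ W) :
    x ∉ CohB1.support M := by
  let x' : (W : Scheme.{u}) := ⟨x, hx⟩
  have h1 : Subsingleton (((Scheme.Modules.restrictFunctor W.ι).obj M).presheaf.stalk x') := by
    have h2 : IsZero ((DerSch.stalkFunctor (W : Scheme.{u}) x').obj
        ((Scheme.Modules.restrictFunctor W.ι).obj M)) := Functor.map_isZero _ h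
    exact ModuleCat.subsingleton_of_isZero h2
  rw [subsingleton_stalk_restrict] at h1
  have h3 : Subsingleton (M.presheaf.stalk x) := h1
  simpa [CohB1.support] using h3

end Groth.Agent.Lib.Helper12.SuppZ
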