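import Mathlib.Algebra.Homology.TotalComplex
import Mathlib.Algebra.Homology.Additive
import Mathlib.CategoryTheory.Limits.Preserves.Shapes.Products

set_option autoImplicit false
open CategoryTheory CategoryTheory.Limits

namespace Groth.Agent.Lib.Helper12.TotFun

variable {C D : Type*} [Category C] [Category D] [Preadditive C] [Preadditive D]
  {I₁ I₂ I₁₂ : Type*} {c₁ : ComplexShape I₁} {c₂ : ComplexShape I₂}
  (c₁₂ : ComplexShape I₁₂) [TotalComplexShape c₁ c₂ c₁₂] [DecidableEq I₁₂]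
  (G : C ⥤ D) [G.Additive] (K : HomologicalComplex₂ C c₁ c₂)

abbrev mapBi : HomologicalComplex₂ D c₁ c₂ :=
  ((G.mapHomologicalComplex c₂).mapHomologicalComplex c₁).obj K

variable [K.HasTotal c₁₂] [(mapBi G K).HasTotal c₁₂]
  [∀ j, PreservesColimit
    (Discrete.functor (K.toGradedObject.mapObjFun (ComplexShape.π c₁ c₂ c₁₂) j)) G]

noncomputable def mappedCofan (j : I₁₂) :
    (mapBi G K).toGradedObject.CofanMapObjFun (ComplexShape.π c₁ c₂ c₁₂) j :=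
  Cofan.mk (G.obj ((K.total c₁₂).X j))
    (fun i => G.map (K.toGradedObject.ιMapObj (ComplexShape.π c₁ c₂ c₁₂) i.1 j i.2))

noncomputable def isColimitMappedCofan (j : I₁₂) : IsColimit (mappedCofan c₁₂ G K j) :=
  isColimitOfHasCoproductOfPreservesColimit G
    (K.toGradedObject.mapObjFun (ComplexShape.π c₁ c₂ c₁₂) j)

noncomputable def xIso (j : I₁₂) :
    G.obj ((K.total c₁₂).X j) ≅ ((mapBi G K).total c₁₂).X j :=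
  GradedObject.CofanMapObjFun.iso (isColimitMappedCofan c₁₂ G K j)

theorem map_ι_xIso_hom (i₁ : I₁) (i₂ : I₂) (j : I₁₂)
    (h : ComplexShape.π c₁ c₂ c₁₂ (i₁, i₂) = j) :
    G.map (K.ιTotal c₁₂ i₁ i₂ j h) ≫ (xIso c₁₂ G K j).hom =
      (mapBi G K).ιTotal c₁₂ i₁ i₂ j h :=
  GradedObject.CofanMapObjFun.inj_iso_hom (isColimitMappedCofan c₁₂ G K j) (i₁, i₂) h

omit [(mapBi G K).HasTotal c₁₂] in
theorem hom_ext_map {j : I₁₂} {A : D} (f g : G.obj ((K.total c₁₂).X j) ⟶ A)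
    (h : ∀ (i₁ : I₁) (i₂ : I₂) (hi : ComplexShape.π c₁ c₂ c₁₂ (i₁, i₂) = j),
      G.map (K.ιTotal c₁₂ i₁ i₂ j hi) ≫ f = G.map (K.ιTotal c₁₂ i₁ i₂ j hi) ≫ g) : f = g :=
  Cofan.IsColimit.hom_ext (isColimitMappedCofan c₁₂ G K j) _ _ (fun ⟨⟨i₁, i₂⟩, hi⟩ => h i₁ i₂ hi)

theorem map_ιOrZero_xIso_hom (i₁ : I₁) (i₂ : I₂) (j : I₁₂) :
    G.map (K.ιTotalOrZero c₁₂ i₁ i₂ j) ≫ (xIso c₁₂ G K j).hom =
      (mapBi G K).ιTotalOrZero c₁₂ i₁ i₂ j := by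
  by_cases h : ComplexShape.π c₁ c₂ c₁₂ (i₁, i₂) = j
  · rw [K.ιTotalOrZero_eq c₁₂ i₁ i₂ j h, (mapBi G K).ιTotalOrZero_eq c₁₂ i₁ i₂ j h]
    exact map_ι_xIso_hom c₁₂ G K i₁ i₂ j h
  · rw [K.ιTotalOrZero_eq_zero c₁₂ i₁ i₂ j h, (mapBi G K).ιTotalOrZero_eq_zero c₁₂ i₁ i₂ j h,
      G.map_zero, zero_comp]
    rfl

theorem map_d₁_xIso_hom (i₁ : I₁) (i₂ : I₂) (j : I₁₂) :
    G.map (K.d₁ c₁₂ i₁ i₂ j) ≫ (xIso c₁₂ G K j).hom = (mapBi G K).d₁ c₁₂ i₁ i₂ j := by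
  by_cases h : c₁.Rel i₁ (c₁.next i₁)
  · rw [K.d₁_eq' c₁₂ h i₂ j, (mapBi G K).d₁_eq' c₁₂ h i₂ j, Units.smul_def, Units.smul_def,
      G.map_zsmul, G.map_comp, Preadditive.zsmul_comp, Category.assoc, map_ιOrZero_xIso_hom]
    rfl
  · rw [K.d₁_eq_zero c₁₂ i₁ i₂ j h, (mapBi G K).d₁_eq_zero c₁₂ i₁ i₂ j h, G.map_zero, zero_comp]
    rfl

theorem map_d₂_xIso_hom (i₁ : I₁) (i₂ : I₂) (j : I₁₂) :
    G.map (K.d₂ c₁₂ i₁ i₂ j) ≫ (xIso c₁₂ G K j).hom = (mapBi G K).d₂ c₁₂ i₁ i₂ j := by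
  by_cases h : c₂.Rel i₂ (c₂.next i₂)
  · rw [K.d₂_eq' c₁₂ i₁ h j, (mapBi G K).d₂_eq' c₁₂ i₁ h j, Units.smul_def, Units.smul_def,
      G.map_zsmul, G.map_comp, Preadditive.zsmul_comp, Category.assoc, map_ιOrZero_xIso_hom]
    rfl
  · rw [K.d₂_eq_zero c₁₂ i₁ i₂ j h, (mapBi G K).d₂_eq_zero c₁₂ i₁ i₂ j h, G.map_zero, zero_comp]
    rfl

noncomputable def totalIso :
    (G.mapHomologicalComplex c₁₂).obj (K.total c₁₂) ≅ (mapBi G K).total c₁₂ :=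
  HomologicalComplex.Hom.isoOfComponents (fun j => xIso c₁₂ G K j) (by
    intro j j' _
    apply hom_ext_map c₁₂ G K
    intro i₁ i₂ hi
    change G.map (K.ιTotal c₁₂ i₁ i₂ j hi) ≫ (xIso c₁₂ G K j).hom ≫ ((mapBi G K).total c₁₂).d j j' =
      G.map (K.ιTotal c₁₂ i₁ i₂ j hi) ≫ G.map ((K.total c₁₂).d j j') ≫ (xIso c₁₂ G K j').hom
    rw [← Category.assoc, map_ι_xIso_hom, ← Category.assoc, ← G.map_comp]
    change (mapBi G K).ιTotal c₁₂ i₁ i₂ j hi ≫ ((mapBi G K).D₁ c₁₂ j j' + (mapBi G K).D₂ c₁₂ j j') =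
      G.map (K.ιTotal c₁₂ i₁ i₂ j hi ≫ (K.D₁ c₁₂ j j' + K.D₂ c₁₂ j j')) ≫ _
    rw [Preadditive.comp_add, Preadditive.comp_add, HomologicalComplex₂.ι_D₁,
      HomologicalComplex₂.ι_D₂, HomologicalComplex₂.ι_D₁, HomologicalComplex₂.ι_D₂, G.map_add,
      Preadditive.add_comp, map_d₁_xIso_hom, map_d₂_xIso_hom]
    rfl)

theorem map_ι_totalIso_hom_f (i₁ : I₁) (i₂ : I₂) (j : I₁₂)
    (h : ComplexShape.π c₁ c₂ c₁₂ (i₁, i₂) = j) :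
    G.map (K.ιTotal c₁₂ i₁ i₂ j h) ≫ (totalIso c₁₂ G K).hom.f j =
      (mapBi G K).ιTotal c₁₂ i₁ i₂ j h :=
  map_ι_xIso_hom c₁₂ G K i₁ i₂ j h

end Groth.Agent.Lib.Helper12.TotFun
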