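import Mathlib.Algebra.Homology.HomotopyCategory.KInjective
import Mathlib.Algebra.Homology.HomotopyCategory.Acyclic
import Mathlib.CategoryTheory.Adjunction.Basic

set_option autoImplicit false
set_option backward.isDefEq.respectTransparency false

open CategoryTheory Limits

namespace Groth.Agent.Lib.Helper12.WKI

universe v u v' u'

section Adj

variable {C : Type u} [Category.{v} C] [Preadditive C] {D : Type u'} [Category.{v'} D]
  [Preadditive D] {L : C ⥤ D} {R : D ⥤ C} [L.Additive] [R.Additive] (adj : L ⊣ R)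

def unitHom (K : CochainComplex C ℤ) :
    K ⟶ (R.mapHomologicalComplex _).obj ((L.mapHomologicalComplex _).obj K) where
  f n := adj.unit.app (K.X n)
  comm' i j _ := by
    change adj.unit.app (K.X i) ≫ R.map (L.map (K.d i j)) = K.d i j ≫ adj.unit.app (K.X j)
    exact (adj.unit.naturality (K.d i j)).symm

def transpose {K : CochainComplex C ℤ} {I : CochainComplex D ℤ}
    (f : K ⟶ (R.mapHomologicalComplex _).obj I) : (L.mapHomologicalComplex _).obj K ⟶ I where
  f n := (adj.homEquiv (K.X n) (I.X n)).symm (f.f n)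
  comm' i j _ := by
    change (adj.homEquiv (K.X i) (I.X i)).symm (f.f i) ≫ I.d i j =
      L.map (K.d i j) ≫ (adj.homEquiv (K.X j) (I.X j)).symm (f.f j)
    have h : f.f i ≫ R.map (I.d i j) = K.d i j ≫ f.f j := f.comm i j
    rw [← Adjunction.homEquiv_naturality_left_symm, ← Adjunction.homEquiv_naturality_right_symm, h]

theorem unit_transpose {K : CochainComplex C ℤ} {I : CochainComplex D ℤ}
    (f : K ⟶ (R.mapHomologicalComplex _).obj I) :
    unitHom adj K ≫ (R.mapHomologicalComplex _).map (transpose adj f) = f := by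
  ext n
  have key : ∀ (g : K.X n ⟶ R.obj (I.X n)),
      adj.unit.app (K.X n) ≫ R.map ((adj.homEquiv (K.X n) (I.X n)).symm g) = g := by
    intro g
    exact (adj.homEquiv_unit (f := (adj.homEquiv _ _).symm g)).symm.trans
      (Equiv.apply_symm_apply _ g)
  exact key (f.f n)

theorem nonempty_homotopy_zero_of_transpose {K : CochainComplex C ℤ} {I : CochainComplex D ℤ}
    (f : K ⟶ (R.mapHomologicalComplex _).obj I) (h : Nonempty (Homotopy (transpose adj f) 0)) :
    Nonempty (Homotopy f 0) := by
  obtain ⟨h⟩ := h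
  have h1 := (R.mapHomotopy h).compLeft (unitHom adj K)
  refine ⟨(Homotopy.ofEq (unit_transpose adj f).symm).trans (h1.trans (Homotopy.ofEq ?_))⟩
  simp

end Adj

section ROrth

variable {A : Type u} [Category.{v} A] [Preadditive A]

def ROrth (P : CochainComplex A ℤ → Prop) (K : CochainComplex A ℤ) : Prop :=
  ∀ (F : CochainComplex A ℤ), P F → ∀ φ : F ⟶ K, Nonempty (Homotopy φ 0)

theorem ROrth.mono {P P' : CochainComplex A ℤ → Prop} (h : ∀ F, P F → P' F)
    {K : CochainComplex A ℤ} (hK : ROrth P' K) : ROrth P K :=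
  fun F hF φ => hK F (h F hF) φ

variable {D : Type u'} [Category.{v'} D] [Preadditive D] {L : A ⥤ D} {R : D ⥤ A}
  [L.Additive] [R.Additive] (adj : L ⊣ R)

include adj in
theorem ROrth.map {P : CochainComplex A ℤ → Prop} {P' : CochainComplex D ℤ → Prop}
    (h : ∀ F, P F → P' ((L.mapHomologicalComplex _).obj F)) {K : CochainComplex D ℤ}
    (hK : ROrth P' K) : ROrth P ((R.mapHomologicalComplex _).obj K) :=
  fun F hF φ => nonempty_homotopy_zero_of_transpose adj φ (hK _ (h F hF) (transpose adj φ))

end ROrth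

section Acyc

variable {A : Type u} [Category.{v} A] [Abelian A]

theorem acyclic_of_quasiIso_of_homotopy_zero {G B : CochainComplex A ℤ} (p : G ⟶ B)
    [QuasiIso p] (h : Nonempty (Homotopy p 0)) : B.Acyclic := by
  obtain ⟨h⟩ := h
  intro i
  rw [HomologicalComplex.exactAt_iff_isZero_homology]
  have h1 : HomologicalComplex.homologyMap p i = 0 := by
    rw [h.homologyMap_eq i]
    simp
  have h2 : IsIso (HomologicalComplex.homologyMap p i) := inferInstance
  rw [IsZero.iff_id_eq_zero]
  have h3 := IsIso.inv_hom_id (HomologicalComplex.homologyMap p i)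
  rw [← h3]
  have h4 : inv (HomologicalComplex.homologyMap p i) ≫ HomologicalComplex.homologyMap p i =
      inv (HomologicalComplex.homologyMap p i) ≫ 0 := by
    congr 1
  rw [h4, comp_zero]

theorem isKInjective_iff_rOrth (K : CochainComplex A ℤ) :
    K.IsKInjective ↔ ROrth (fun F => F.Acyclic) K :=
  ⟨fun _ F hF φ => ⟨CochainComplex.IsKInjective.homotopyZero φ hF⟩,
    fun h => ⟨fun φ hF => h _ hF φ⟩⟩

end Acyc

end Groth.Agent.Lib.Helper12.WKI
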