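import Groth.Agent.Lib.Helper12.WKI1
import Groth.Agent.Lib.Helper2.LpullStalk
import Groth.Agent.Lib.Helper12.LTC5
import Groth.Agent.Lib.Helper12.KFlat15

set_option autoImplicit false
universe u
open CategoryTheory CategoryTheory.Limits AlgebraicGeometry

attribute [local instance] HasDerivedCategory.standard

namespace Groth.Agent.Lib.Helper12.WKI

open Groth.Agent.Lib.Helper12

variable {Y : Scheme.{u}}

def AKFlatP (F : CochainComplex Y.Modules ℤ) : Prop := DCoh.IsKFlat F ∧ F.Acyclic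

theorem acyclic_of_quasiIso' {K L : CochainComplex Y.Modules ℤ} (f : K ⟶ L) [QuasiIso f]
    (hL : L.Acyclic) : K.Acyclic := by
  intro i
  rw [HomologicalComplex.exactAt_iff_isZero_homology]
  have := hL i
  rw [HomologicalComplex.exactAt_iff_isZero_homology] at this
  exact IsZero.of_iso this (asIso (HomologicalComplex.homologyMap f i))

theorem isKFlat_mappingCone {K₁ K₂ : CochainComplex Y.Modules ℤ} (φ : K₁ ⟶ K₂)
    (h₁ : DCoh.IsKFlat K₁) (h₂ : DCoh.IsKFlat K₂) :
    DCoh.IsKFlat (CochainComplex.mappingCone φ) :=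
  (KFlat.isKFlat_cone (O := Y.sheaf) φ).1 h₁ h₂

theorem rOrth_kflat_of_wki_acyclic (C : CochainComplex Y.Modules ℤ)
    (hC : ROrth AKFlatP C) (hac : C.Acyclic) : ROrth DCoh.IsKFlat C := by
  intro F hF φ
  obtain ⟨P, p, hP, hp⟩ := LTC.exists_isKFlat_resolution C
  have hPac : P.Acyclic := acyclic_of_quasiIso' p hac
  obtain ⟨hp0⟩ := hC P ⟨hP, hPac⟩ p
  have hqp : (HomotopyCategory.quotient Y.Modules (ComplexShape.up ℤ)).map p = 0 :=
    (HomotopyCategory.eq_of_homotopy _ _ hp0).trans (Functor.map_zero _ _ _)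
  have hW : HomotopyCategory.quasiIso Y.Modules (ComplexShape.up ℤ)
      ((HomotopyCategory.quotient Y.Modules (ComplexShape.up ℤ)).map p) :=
    (HomotopyCategory.quotient_map_mem_quasiIso_iff p).2 hp
  let lf : (HomotopyCategory.quasiIso Y.Modules (ComplexShape.up ℤ)).LeftFraction
      ((HomotopyCategory.quotient Y.Modules (ComplexShape.up ℤ)).obj F)
      ((HomotopyCategory.quotient Y.Modules (ComplexShape.up ℤ)).obj P) :=
    { Y' := (HomotopyCategory.quotient Y.Modules (ComplexShape.up ℤ)).obj C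
      f := (HomotopyCategory.quotient Y.Modules (ComplexShape.up ℤ)).map φ
      s := (HomotopyCategory.quotient Y.Modules (ComplexShape.up ℤ)).map p
      hs := hW }
  obtain ⟨ψ, hψ⟩ := lf.exists_rightFraction
  rcases ψ with @⟨X', s, hs, f⟩
  obtain ⟨F', rfl⟩ := HomotopyCategory.quotient_obj_surjective X'
  obtain ⟨F'', t, hF'', ht⟩ := LTC.exists_isKFlat_resolution F'
  have hWt : HomotopyCategory.quasiIso Y.Modules (ComplexShape.up ℤ)
      ((HomotopyCategory.quotient Y.Modules (ComplexShape.up ℤ)).map t) :=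
    (HomotopyCategory.quotient_map_mem_quasiIso_iff t).2 ht
  obtain ⟨s₀, hs₀⟩ := (HomotopyCategory.quotient Y.Modules (ComplexShape.up ℤ)).map_surjective
    ((HomotopyCategory.quotient Y.Modules (ComplexShape.up ℤ)).map t ≫ s)
  have hWs₀ : QuasiIso s₀ := by
    have h1 : HomotopyCategory.quasiIso Y.Modules (ComplexShape.up ℤ)
        ((HomotopyCategory.quotient Y.Modules (ComplexShape.up ℤ)).map s₀) := by
      rw [hs₀]
      exact MorphismProperty.comp_mem _ _ _ hWt hs
    exact (HomotopyCategory.quotient_map_mem_quasiIso_iff s₀).1 h1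
  have hzero : (HomotopyCategory.quotient Y.Modules (ComplexShape.up ℤ)).map s₀ ≫
      (HomotopyCategory.quotient Y.Modules (ComplexShape.up ℤ)).map φ = 0 := by
    have h1 : s ≫ (HomotopyCategory.quotient Y.Modules (ComplexShape.up ℤ)).map φ =
        f ≫ (HomotopyCategory.quotient Y.Modules (ComplexShape.up ℤ)).map p := hψ
    rw [hs₀, Category.assoc, h1, hqp, comp_zero, comp_zero]
  obtain ⟨χ, hχ⟩ := Pretriangulated.Triangle.yoneda_exact₂ _
    (HomotopyCategory.mappingCone_triangleh_distinguished s₀)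
    ((HomotopyCategory.quotient Y.Modules (ComplexShape.up ℤ)).map φ) hzero
  obtain ⟨χ₀, rfl⟩ := (HomotopyCategory.quotient Y.Modules (ComplexShape.up ℤ)).map_surjective χ
  have hcone : AKFlatP (CochainComplex.mappingCone s₀) :=
    ⟨isKFlat_mappingCone s₀ hF'' hF, (KFlat.acyclic_mappingCone_iff s₀).2 hWs₀⟩
  obtain ⟨hχ₀⟩ := hC _ hcone χ₀
  have hχ0 : (HomotopyCategory.quotient Y.Modules (ComplexShape.up ℤ)).map χ₀ = 0 :=
    (HomotopyCategory.eq_of_homotopy _ _ hχ₀).trans (Functor.map_zero _ _ _)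
  rw [hχ0] at hχ
  have hχ' : (HomotopyCategory.quotient Y.Modules (ComplexShape.up ℤ)).map φ = 0 :=
    hχ.trans comp_zero
  exact ⟨HomotopyCategory.homotopyOfEq _ _ (hχ'.trans (Functor.map_zero _ _ _).symm)⟩

end Groth.Agent.Lib.Helper12.WKI
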