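import Groth.Agent.Lib.Helper12.WKI2

set_option autoImplicit false
universe u
open CategoryTheory CategoryTheory.Limits AlgebraicGeometry

attribute [local instance] HasDerivedCategory.standard

namespace Groth.Agent.Lib.Helper12.WKI

open Groth.Agent.Lib.Helper12

variable {Y : Scheme.{u}}

def KFlh : ObjectProperty (HomotopyCategory Y.Modules (ComplexShape.up ℤ)) :=
  fun Z => ∃ F : CochainComplex Y.Modules ℤ, DCoh.IsKFlat F ∧
    Nonempty (Z ≅ (HomotopyCategory.quotient Y.Modules (ComplexShape.up ℤ)).obj F)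

theorem isKFlat_shift (K : CochainComplex Y.Modules ℤ) (hK : DCoh.IsKFlat K) (n : ℤ) :
    DCoh.IsKFlat (K⟦n⟧) :=
  KFlat.isKFlat_shift (O := Y.sheaf) K hK n

instance : (KFlh (Y := Y)).IsStableUnderShift ℤ where
  isStableUnderShiftBy a := ⟨by
    rintro Z ⟨F, hF, ⟨e⟩⟩
    exact ⟨F⟦a⟧, isKFlat_shift F hF a, ⟨(shiftFunctor _ a).mapIso e ≪≫
      (((HomotopyCategory.quotient Y.Modules (ComplexShape.up ℤ)).commShiftIso a).app F).symm⟩⟩⟩

def AKFh : ObjectProperty (HomotopyCategory Y.Modules (ComplexShape.up ℤ)) :=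
  KFlh ⊓ HomotopyCategory.subcategoryAcyclic Y.Modules

instance : (AKFh (Y := Y)).IsStableUnderShift ℤ := by
  unfold AKFh
  infer_instance

theorem rOrth_iff (C : CochainComplex Y.Modules ℤ) :
    ROrth AKFlatP C ↔
      (AKFh (Y := Y)).rightOrthogonal
        ((HomotopyCategory.quotient Y.Modules (ComplexShape.up ℤ)).obj C) := by
  constructor
  · rintro h Z φ ⟨⟨F, hF, ⟨e⟩⟩, hZ⟩
    have hFac : F.Acyclic := by
      rw [← HomotopyCategory.quotient_obj_mem_subcategoryAcyclic_iff_acyclic]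
      exact (HomotopyCategory.subcategoryAcyclic Y.Modules).prop_of_iso e hZ
    obtain ⟨ψ, hψ⟩ := (HomotopyCategory.quotient Y.Modules (ComplexShape.up ℤ)).map_surjective
      (e.inv ≫ φ)
    obtain ⟨hh⟩ := h F ⟨hF, hFac⟩ ψ
    have h0 : (HomotopyCategory.quotient Y.Modules (ComplexShape.up ℤ)).map ψ = 0 :=
      (HomotopyCategory.eq_of_homotopy _ _ hh).trans (Functor.map_zero _ _ _)
    rw [hψ] at h0
    rw [← cancel_epi e.inv, h0, comp_zero]
  · intro h F hF φ
    have hF' : AKFh ((HomotopyCategory.quotient Y.Modules (ComplexShape.up ℤ)).obj F) :=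
      ⟨⟨F, hF.1, ⟨Iso.refl _⟩⟩,
        (HomotopyCategory.quotient_obj_mem_subcategoryAcyclic_iff_acyclic F).2 hF.2⟩
    have h0 := h ((HomotopyCategory.quotient Y.Modules (ComplexShape.up ℤ)).map φ) hF'
    exact ⟨HomotopyCategory.homotopyOfEq _ _ (h0.trans (Functor.map_zero _ _ _).symm)⟩

theorem rOrth_mappingCone {A J : CochainComplex Y.Modules ℤ} (a : A ⟶ J)
    (hA : ROrth AKFlatP A) (hJ : ROrth AKFlatP J) :
    ROrth AKFlatP (CochainComplex.mappingCone a) := by
  rw [rOrth_iff] at hA hJ ⊢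
  exact (AKFh (Y := Y)).rightOrthogonal.ext_of_isTriangulatedClosed₃ _
    (HomotopyCategory.mappingCone_triangleh_distinguished a) hA hJ

theorem rOrth_of_isKInjective (J : CochainComplex Y.Modules ℤ) [J.IsKInjective] :
    ROrth AKFlatP J :=
  ROrth.mono (fun _ hF => hF.2) ((isKInjective_iff_rOrth J).1 inferInstance)

theorem rOrth_pushforward {X : Scheme.{u}} (f : X ⟶ Y) (I : CochainComplex X.Modules ℤ)
    [I.IsKInjective] :
    ROrth AKFlatP
      (((Scheme.Modules.pushforward f).mapHomologicalComplex (ComplexShape.up ℤ)).obj I) :=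
  ROrth.map (Scheme.Modules.pullbackPushforwardAdjunction f)
    (fun F hF => Groth.Agent.Lib.Helper2.Lpull.acyclic_pbCx f F hF.1 hF.2)
    ((isKInjective_iff_rOrth I).1 inferInstance)

theorem rOrth_kflat_pushforward {Z : Scheme.{u}} (g : Y ⟶ Z) (C : CochainComplex Y.Modules ℤ)
    (hC : ROrth DCoh.IsKFlat C) :
    ROrth DCoh.IsKFlat
      (((Scheme.Modules.pushforward g).mapHomologicalComplex (ComplexShape.up ℤ)).obj C) :=
  ROrth.map (Scheme.Modules.pullbackPushforwardAdjunction g)
    (fun F hF => Groth.Agent.Lib.Helper2.Lpull.isKFlat_pbCx g F hF) hC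

theorem acyclic_of_rOrth_kflat (B : CochainComplex Y.Modules ℤ) (hB : ROrth DCoh.IsKFlat B) :
    B.Acyclic := by
  obtain ⟨G, p, hG, hp⟩ := LTC.exists_isKFlat_resolution B
  exact acyclic_of_quasiIso_of_homotopy_zero p (hB G hG p)

theorem quasiIso_pushforward_map {X Z : Scheme.{u}} (f : X ⟶ Y) (g : Y ⟶ Z)
    (I : CochainComplex X.Modules ℤ) [I.IsKInjective] (J : CochainComplex Y.Modules ℤ)
    [J.IsKInjective]
    (a : ((Scheme.Modules.pushforward f).mapHomologicalComplex (ComplexShape.up ℤ)).obj I ⟶ J)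
    [QuasiIso a] :
    QuasiIso (((Scheme.Modules.pushforward g).mapHomologicalComplex (ComplexShape.up ℤ)).map a) := by
  have hC1 : ROrth AKFlatP (CochainComplex.mappingCone a) :=
    rOrth_mappingCone a (rOrth_pushforward f I) (rOrth_of_isKInjective J)
  have hC2 : (CochainComplex.mappingCone a).Acyclic :=
    (KFlat.acyclic_mappingCone_iff a).2 inferInstance
  have hC3 := rOrth_kflat_of_wki_acyclic _ hC1 hC2
  have hC4 := rOrth_kflat_pushforward g _ hC3
  have hC5 := acyclic_of_rOrth_kflat _ hC4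
  rw [← KFlat.acyclic_mappingCone_iff]
  have e := CochainComplex.mappingCone.mapHomologicalComplexIso a (Scheme.Modules.pushforward g)
  intro i
  have := hC5 i
  rw [HomologicalComplex.exactAt_iff_isZero_homology] at this ⊢
  exact this.of_iso ((HomologicalComplex.homologyFunctor _ _ i).mapIso e.symm)

end Groth.Agent.Lib.Helper12.WKI
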