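import Groth.Agent.Lib.Helper12.WKI3
import Groth.Agent.Lib.Helper12.RDerSch

set_option autoImplicit false
universe u
open CategoryTheory CategoryTheory.Limits AlgebraicGeometry

attribute [local instance] HasDerivedCategory.standard

namespace Groth.Agent.Lib.Helper12.WKI

open Groth.Agent.Lib.Helper12 Groth.Agent.Lib.Helper12.RDerSch

section General

universe w v v' u'

variable {C : Type u} [Category.{v} C] [Abelian C] [IsGrothendieckAbelian.{v} C]
  [HasDerivedCategory.{w} C]

theorem isIso_unit_app_of_resolution {H : Type u'} [Category.{v'} H]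
    (G : HomotopyCategory C (ComplexShape.up ℤ) ⥤ H)
    (RG : DerivedCategory C ⥤ H) (β : G ⟶ DerivedCategory.Qh ⋙ RG)
    [RG.IsRightDerivedFunctor β (HomotopyCategory.quasiIso C (ComplexShape.up ℤ))]
    (A J : CochainComplex C ℤ) [J.IsKInjective] (a : A ⟶ J) [QuasiIso a]
    (ha : IsIso (G.map ((HomotopyCategory.quotient C (ComplexShape.up ℤ)).map a))) :
    IsIso (β.app ((HomotopyCategory.quotient C (ComplexShape.up ℤ)).obj A)) := by
  have h1 : IsIso (β.app ((HomotopyCategory.quotient C (ComplexShape.up ℤ)).obj J)) :=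
    Groth.Agent.Lib.Helper25.KInjDerived.isIso_unit_homotopyCategory G DerivedCategory.Qh RG β J
  have h2 : IsIso (DerivedCategory.Qh.map
      ((HomotopyCategory.quotient C (ComplexShape.up ℤ)).map a)) := by
    have : IsIso (DerivedCategory.Q.map a) := by
      rw [DerivedCategory.isIso_Q_map_iff_quasiIso]; infer_instance
    exact this
  have h3 : IsIso ((DerivedCategory.Qh ⋙ RG).map
      ((HomotopyCategory.quotient C (ComplexShape.up ℤ)).map a)) := by
    change IsIso (RG.map (DerivedCategory.Qh.map _))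
    infer_instance
  have nat := β.naturality ((HomotopyCategory.quotient C (ComplexShape.up ℤ)).map a)
  have h4 : IsIso (β.app ((HomotopyCategory.quotient C (ComplexShape.up ℤ)).obj A) ≫
      (DerivedCategory.Qh ⋙ RG).map ((HomotopyCategory.quotient C (ComplexShape.up ℤ)).map a)) := by
    rw [← nat]
    infer_instance
  exact IsIso.of_isIso_comp_right _
    ((DerivedCategory.Qh ⋙ RG).map ((HomotopyCategory.quotient C (ComplexShape.up ℤ)).map a))

end General

variable {X Y Z : Scheme.{u}} (f : X ⟶ Y) (g : Y ⟶ Z)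

theorem isIso_unit_app_pushforward [DCoh.HasRpush g] (I : CochainComplex X.Modules ℤ)
    [I.IsKInjective] :
    IsIso (((DCoh.pushKh g).totalRightDerivedUnit DerivedCategory.Qh
      (HomotopyCategory.quasiIso Y.Modules (ComplexShape.up ℤ))).app
      ((HomotopyCategory.quotient Y.Modules (ComplexShape.up ℤ)).obj
        (((Scheme.Modules.pushforward f).mapHomologicalComplex (ComplexShape.up ℤ)).obj I))) := by
  obtain ⟨J, a, hJ, ha, -, -⟩ :=
    Groth.Agent.Lib.Helper13.KInjMain.exists_kInjective_resolution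
      (((Scheme.Modules.pushforward f).mapHomologicalComplex (ComplexShape.up ℤ)).obj I)
  refine isIso_unit_app_of_resolution (DCoh.pushKh g) (DCoh.Rpush g) _ _ J a ?_
  have hq := quasiIso_pushforward_map f g I J a
  change IsIso (DerivedCategory.Qh.map
    (((Scheme.Modules.pushforward g).mapHomotopyCategory (ComplexShape.up ℤ)).map
      ((HomotopyCategory.quotient Y.Modules (ComplexShape.up ℤ)).map a)))
  rw [Functor.mapHomotopyCategory_map]
  have : IsIso (DerivedCategory.Q.map
      (((Scheme.Modules.pushforward g).mapHomologicalComplex (ComplexShape.up ℤ)).map a)) := by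
    rw [DerivedCategory.isIso_Q_map_iff_quasiIso]; exact hq
  exact this

noncomputable def pushKhCompIso :
    DCoh.pushKh (f ≫ g) ≅
      (Scheme.Modules.pushforward f).mapHomotopyCategory (ComplexShape.up ℤ) ⋙ DCoh.pushKh g :=
  Functor.isoWhiskerRight
    (Functor.mapHomotopyCategoryCompIso (Scheme.Modules.pushforwardComp f g)
      (ComplexShape.up ℤ)).symm DerivedCategory.Qh ≪≫ Functor.associator _ _ _

noncomputable def compUnit [DCoh.HasRpush f] [DCoh.HasRpush g] :
    DCoh.pushKh (f ≫ g) ⟶ DerivedCategory.Qh ⋙ (DCoh.Rpush f ⋙ DCoh.Rpush g) :=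
  (pushKhCompIso f g).hom ≫
    Functor.whiskerLeft ((Scheme.Modules.pushforward f).mapHomotopyCategory (ComplexShape.up ℤ))
      ((DCoh.pushKh g).totalRightDerivedUnit DerivedCategory.Qh
        (HomotopyCategory.quasiIso Y.Modules (ComplexShape.up ℤ))) ≫
    (Functor.associator _ _ _).inv ≫
    Functor.whiskerRight ((DCoh.pushKh f).totalRightDerivedUnit DerivedCategory.Qh
      (HomotopyCategory.quasiIso X.Modules (ComplexShape.up ℤ))) (DCoh.Rpush g) ≫
    (Functor.associator _ _ _).hom

instance isRightDerivedFunctor_comp [DCoh.HasRpush f] [DCoh.HasRpush g] :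
    (DCoh.Rpush f ⋙ DCoh.Rpush g).IsRightDerivedFunctor (compUnit f g)
      (HomotopyCategory.quasiIso X.Modules (ComplexShape.up ℤ)) := by
  apply Groth.Agent.Lib.Helper12.RDer.isRightDerivedFunctor_of_isIso
  intro I hI
  have h1 := isIso_unit_app_pushforward f g I
  have h2 := Groth.Agent.Lib.Helper25.KInjDerived.isIso_unit_homotopyCategory (DCoh.pushKh f)
    DerivedCategory.Qh (DCoh.Rpush f)
    ((DCoh.pushKh f).totalRightDerivedUnit DerivedCategory.Qh
      (HomotopyCategory.quasiIso X.Modules (ComplexShape.up ℤ))) I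
  simp only [compUnit, NatTrans.comp_app, Functor.whiskerLeft_app, Functor.whiskerRight_app,
    Functor.associator_hom_app, Functor.associator_inv_app]
  have h1' : IsIso (((DCoh.pushKh g).totalRightDerivedUnit DerivedCategory.Qh
      (HomotopyCategory.quasiIso Y.Modules (ComplexShape.up ℤ))).app
      (((Scheme.Modules.pushforward f).mapHomotopyCategory (ComplexShape.up ℤ)).obj
        ((HomotopyCategory.quotient X.Modules (ComplexShape.up ℤ)).obj I))) := h1
  infer_instance

theorem nonempty_Rpush_comp_iso [DCoh.HasRpush f] [DCoh.HasRpush g] [DCoh.HasRpush (f ≫ g)] :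
    Nonempty (DCoh.Rpush f ⋙ DCoh.Rpush g ≅ DCoh.Rpush (f ≫ g)) :=
  ⟨Functor.rightDerivedUnique (DCoh.Rpush f ⋙ DCoh.Rpush g) (DCoh.Rpush (f ≫ g))
    (compUnit f g)
    ((DCoh.pushKh (f ≫ g)).totalRightDerivedUnit DerivedCategory.Qh
      (HomotopyCategory.quasiIso X.Modules (ComplexShape.up ℤ)))
    (HomotopyCategory.quasiIso X.Modules (ComplexShape.up ℤ))⟩

end Groth.Agent.Lib.Helper12.WKI
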