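import Groth.Agent.Lib.Helper12.WKI4
import Groth.Agent.Lib.Helper42.Proj

set_option autoImplicit false
universe u
open CategoryTheory CategoryTheory.Limits AlgebraicGeometry Opposite

attribute [local instance] HasDerivedCategory.standard

namespace Groth.Agent.Lib.Helper12.WKI

open Groth.Agent.Lib.Helper12 Groth.Agent.Lib.Helper42.ModSiteLib Groth.Agent.Lib.Helper42.Proj
open ModSite

section Site

variable {S : Type u} [SmallCategory S] {J : GrothendieckTopology S} {O : Sheaf J CommRingCat.{u}}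

theorem freeOnHomEquiv_zero (V : S) (M : Mod O) :
    freeOnHomEquiv O V M 0 = 0 :=
  (freeOnHomAddEquiv O V M).map_zero

theorem isKFlat_single_freeOn (V : S) (n : ℤ) :
    ModSite.IsKFlat ((HomologicalComplex.single (Mod O) (ComplexShape.up ℤ) n).obj
      (ModSite.freeOn O V)) :=
  KFlat.isKFlat_single n _ (Groth.Agent.Lib.Helper42.Flat2.isFlat_freeOn O V)

theorem exists_sections_preimage_site (K : CochainComplex (Mod O) ℤ)
    (hK : ROrth (ModSite.IsKFlat (O := O)) K)
    (V : S) (m n k : ℤ) (hm : m + 1 = n) (hk : n + 1 = k)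
    (z : ModSite.sect (K.X n) V)
    (hz : (K.d n k).val.app (op V) z = 0) :
    ∃ b : ModSite.sect (K.X m) V, (K.d m n).val.app (op V) b = z := by
  let φ : ModSite.freeOn O V ⟶ K.X n := (freeOnHomEquiv O V (K.X n)).symm z
  have hφ : φ ≫ K.d n k = 0 := by
    apply (freeOnHomEquiv O V (K.X k)).injective
    rw [freeOnHomEquiv_comp, Equiv.apply_symm_apply, hz, freeOnHomEquiv_zero]
  let Φ : (HomologicalComplex.single (Mod O) (ComplexShape.up ℤ) n).obj
      (ModSite.freeOn O V) ⟶ K :=
    HomologicalComplex.mkHomFromSingle φ (by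
      intro k' hk'
      obtain rfl : k = k' := by
        have : n + 1 = k' := hk'
        omega
      exact hφ)
  obtain ⟨h⟩ := hK _ (isKFlat_single_freeOn V n) Φ
  have hcomm := h.comm n
  have hrel : (ComplexShape.up ℤ).Rel m n := hm
  rw [prevD_eq h.hom hrel] at hcomm
  have hd : dNext n h.hom = 0 := by
    have hrel' : (ComplexShape.up ℤ).Rel n k := hk
    rw [dNext_eq h.hom hrel']
    simp
  rw [hd, zero_add, HomologicalComplex.zero_f, add_zero,
    HomologicalComplex.mkHomFromSingle_f] at hcomm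
  refine ⟨freeOnHomEquiv O V (K.X m)
    ((HomologicalComplex.singleObjXSelf (ComplexShape.up ℤ) n _).inv ≫ h.hom n m), ?_⟩
  rw [← freeOnHomEquiv_comp, Category.assoc, ← hcomm, Iso.inv_hom_id_assoc]
  exact Equiv.apply_symm_apply _ z

end Site

end Groth.Agent.Lib.Helper12.WKI

namespace Groth.Agent.Lib.Helper12.WKI

open Groth.Agent.Lib.Helper12

variable {Y : Scheme.{u}}

theorem acyclic_gamma (C : CochainComplex Y.Modules ℤ) (hC : ROrth DCoh.IsKFlat C) :
    (((DCoh.gammaAb Y).mapHomologicalComplex (ComplexShape.up ℤ)).obj C).Acyclic := by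
  intro n
  rw [HomologicalComplex.exactAt_iff' _ (n - 1) n (n + 1) (by simp) (by simp)]
  rw [ShortComplex.ab_exact_iff]
  intro z hz
  obtain ⟨b, hb⟩ := @exists_sections_preimage_site _ _ _ Y.sheaf C hC ⊤ (n - 1) n (n + 1)
    (by omega) rfl z hz
  exact ⟨b, hb⟩

end Groth.Agent.Lib.Helper12.WKI
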